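import Cfsg.Prelude.Def_Local
import Cfsg.Prelude.Def_OddOrderLocal
import Cfsg.Agent.Lib.Coprime.Action2
import Cfsg.Agent.Lib.PGroups.Basic
import Cfsg.Agent.Lib.Transfer.Alperin
import Cfsg.Agent.Lib.FT.PLengthClosure

/-!
Metacyclic Sylow `p`-subgroup: a normal `p`-complement exists iff `|G / O_{p',p}(G)|` is prime to
`p² - 1`.
-/

set_option autoImplicit false
set_option linter.style.haveILetI false

universe u

namespace CfsgLib.FTCons

open Cfsg

variable {G : Type u} [Group G] [Finite G] {p : ℕ} [hp : Fact p.Prime]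

/-- A subgroup of a metacyclic subgroup is generated by two elements. -/
theorem exists_two_generators {S : Subgroup G} (hS : IsMetacyclic S) {U : Subgroup G} (hU : U ≤ S) :
    ∃ a b : U, ∀ u : U, ∃ i j : ℤ, u = a ^ i * b ^ j := by
  obtain ⟨N, hN, hNc, hQc⟩ := hS
  haveI := hN; haveI := hNc; haveI := hQc
  let f : U →* S ⧸ N := (QuotientGroup.mk' N).comp (Subgroup.inclusion hU)
  haveI : IsCyclic f.range := inferInstance
  haveI : IsCyclic f.ker := by
    refine isCyclic_of_injective (((Subgroup.inclusion hU).comp f.ker.subtype).codRestrict N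
      fun x => (QuotientGroup.eq_one_iff _).1 x.2) fun x y h => ?_
    exact Subtype.ext (Subgroup.inclusion_injective hU (congrArg Subtype.val h))
  obtain ⟨⟨_, a, rfl⟩, ha⟩ := IsCyclic.exists_generator (α := f.range)
  obtain ⟨b, hb⟩ := IsCyclic.exists_generator (α := f.ker)
  refine ⟨a, b, fun u => ?_⟩
  obtain ⟨i, hi⟩ := Subgroup.mem_zpowers_iff.1 (ha ⟨f u, u, rfl⟩)
  have hker : a ^ (-i) * u ∈ f.ker := by
    have := congrArg Subtype.val hi
    simp only [SubgroupClass.coe_zpow] at this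
    rw [MonoidHom.mem_ker, map_mul, map_zpow, zpow_neg, this, inv_mul_cancel]
  obtain ⟨j, hj⟩ := Subgroup.mem_zpowers_iff.1 (hb ⟨_, hker⟩)
  refine ⟨i, j, ?_⟩
  have := congrArg Subtype.val hj
  simp only [SubgroupClass.coe_zpow] at this
  rw [this, zpow_neg, mul_inv_cancel_left]

theorem card_quotient_frattini {U : Subgroup G} (hU : IsPGroup p U)
    (h : ∃ a b : U, ∀ u : U, ∃ i j : ℤ, u = a ^ i * b ^ j) :
    Nat.card (U ⧸ frattini U) ∣ p ^ 2 := by
  obtain ⟨a, b, hab⟩ := h
  have hpow : ∀ v : U ⧸ frattini U, v ^ p = 1 := fun v => by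
    induction v using QuotientGroup.induction_on with
    | _ v =>
    rw [← QuotientGroup.mk_pow]
    exact (QuotientGroup.eq_one_iff _).2 (CfsgLib.PGroups.pow_mem_frattini hU v)
  have hp0 : (p : ℤ) ≠ 0 := by exact_mod_cast hp.out.ne_zero
  let f : Fin p × Fin p → U ⧸ frattini U :=
    fun x => (a : U ⧸ frattini U) ^ (x.1 : ℕ) * (b : U ⧸ frattini U) ^ (x.2 : ℕ)
  have hred : ∀ (v : U ⧸ frattini U) (i : ℤ), ∃ m : Fin p, v ^ i = v ^ (m : ℕ) := fun v i => by
    have h1 := Int.emod_nonneg i hp0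
    have h2 := Int.emod_lt_of_pos i (by exact_mod_cast hp.out.pos : (0 : ℤ) < p)
    refine ⟨⟨(i % p).toNat, by omega⟩, ?_⟩
    conv_lhs => rw [← Int.mul_ediv_add_emod i p]
    have e : i % (p : ℤ) = ((i % p).toNat : ℤ) := by omega
    rw [zpow_add, zpow_mul, zpow_natCast, hpow, one_zpow, one_mul]
    conv_lhs => rw [e, zpow_natCast]
  have hsurj : Function.Surjective f := fun v => by
    induction v using QuotientGroup.induction_on with
    | _ v =>
    obtain ⟨i, j, rfl⟩ := hab v
    obtain ⟨m, hm⟩ := hred (a : U ⧸ frattini U) i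
    obtain ⟨n, hn⟩ := hred (b : U ⧸ frattini U) j
    refine ⟨(m, n), ?_⟩
    show (a : U ⧸ frattini U) ^ (m : ℕ) * (b : U ⧸ frattini U) ^ (n : ℕ) = _
    rw [← hm, ← hn, QuotientGroup.mk_mul, QuotientGroup.mk_zpow, QuotientGroup.mk_zpow]
  have hle : Nat.card (U ⧸ frattini U) ≤ p ^ 2 := by
    refine (Nat.card_le_card_of_surjective f hsurj).trans ?_
    simp [sq]
  obtain ⟨k, hk⟩ := IsPGroup.iff_card.1 (hU.to_quotient (frattini U))
  rw [hk] at hle ⊢
  exact pow_dvd_pow p ((Nat.pow_le_pow_iff_right hp.out.one_lt).1 hle)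

/-- A `q`-element, `q ∤ p² - 1`, `q ≠ p`, centralises a two-generated `p`-group it normalises. -/
theorem centralizes_two_generated {U : Subgroup G} (hU : IsPGroup p U)
    (h : ∃ a b : U, ∀ u : U, ∃ i j : ℤ, u = a ^ i * b ^ j) {q : ℕ} (hq : q.Prime) (hqp : q ≠ p)
    (hdvd : ¬ q ∣ p ^ 2 - 1) {g : G} {k : ℕ} (hg : g ^ q ^ k = 1)
    (hgn : g ∈ Subgroup.normalizer (U : Set G)) : g ∈ Subgroup.centralizer (U : Set G) := by
  haveI := Fact.mk hq
  let ρ : Subgroup.normalizer (U : Set G) →* MulAut U := U.normalizerMonoidHom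
  let σ : MulAut U := ρ ⟨g, hgn⟩
  have hσ : ∀ u : U, ((σ u : U) : G) = g * u * g⁻¹ := fun u => rfl
  haveI : (frattini U).Characteristic := inferInstance
  let τ : MulAut (U ⧸ frattini U) := QuotientGroup.congr (frattini U) (frattini U) σ
    (Subgroup.characteristic_iff_map_eq.1 inferInstance σ)
  have hτ : ∀ u : U, τ (u : U ⧸ frattini U) = ((σ u : U) : U ⧸ frattini U) := fun u => rfl
  have hσk : σ ^ q ^ k = 1 := by
    rw [← map_pow]
    have : (⟨g, hgn⟩ : Subgroup.normalizer (U : Set G)) ^ q ^ k = 1 := Subtype.ext (by simpa using hg)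
    rw [this, map_one]
  have hτm : ∀ (m : ℕ) (u : U), (τ ^ m) (u : U ⧸ frattini U) = (((σ ^ m) u : U) : U ⧸ frattini U) := by
    intro m
    induction m with
    | zero => intro u; rfl
    | succ m ih => intro u; rw [pow_succ, pow_succ, MulAut.mul_apply, MulAut.mul_apply, hτ, ih]
  have hτk : τ ^ q ^ k = 1 := MulEquiv.ext fun v => by
    induction v using QuotientGroup.induction_on with
    | _ v => rw [hτm, hσk]; rfl
  have hZ : IsPGroup q (Subgroup.zpowers τ) := by
    intro ⟨x, hx⟩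
    obtain ⟨i, rfl⟩ := Subgroup.mem_zpowers_iff.1 hx
    refine ⟨k, Subtype.ext ?_⟩
    simp only [SubgroupClass.coe_pow, Subgroup.coe_one]
    rw [← zpow_natCast, ← zpow_mul, mul_comm, zpow_mul, zpow_natCast, hτk, one_zpow]
  let W : Subgroup (U ⧸ frattini U) :=
    { carrier := {v | τ v = v}
      one_mem' := map_one τ
      mul_mem' := fun {x y} hx hy => by
        simp only [Set.mem_ofPred_eq] at hx hy ⊢; rw [map_mul, hx, hy]
      inv_mem' := fun {x} hx => by simp only [Set.mem_ofPred_eq] at hx ⊢; rw [map_inv, hx] }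
  have hfix : Nat.card (MulAction.fixedPoints (Subgroup.zpowers τ) (U ⧸ frattini U)) =
      Nat.card W := by
    refine Nat.card_congr (Equiv.subtypeEquivRight fun v => ⟨fun hv =>
      hv ⟨τ, Subgroup.mem_zpowers τ⟩, fun hv x => ?_⟩)
    obtain ⟨x, hx⟩ := x
    obtain ⟨i, rfl⟩ := Subgroup.mem_zpowers_iff.1 hx
    have : τ ∈ MulAction.stabilizer (MulAut (U ⧸ frattini U)) v := hv
    exact Subgroup.zpow_mem _ this i
  have hmod := hZ.card_modEq_card_fixedPoints (U ⧸ frattini U)
  rw [hfix] at hmod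
  have hV := card_quotient_frattini hU h
  obtain ⟨a, ha, hVa⟩ := (Nat.dvd_prime_pow hp.out).1 hV
  obtain ⟨b, hb, hWb⟩ := (Nat.dvd_prime_pow hp.out).1 ((Subgroup.card_subgroup_dvd_card W).trans hV)
  have hba : b ≤ a := by
    have := Subgroup.card_subgroup_dvd_card W
    rw [hVa, hWb] at this
    exact Nat.pow_dvd_pow_iff_le_right hp.out.one_lt |>.1 this
  rw [hVa, hWb] at hmod
  have hab : a = b := by
    by_contra hne
    have h1 : q ∣ p ^ a - p ^ b :=
      (Nat.modEq_iff_dvd' (Nat.pow_le_pow_right hp.out.pos hba)).1 hmod.symm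
    have h2 : p ^ a - p ^ b = p ^ b * (p ^ (a - b) - 1) := by
      rw [Nat.mul_sub, ← pow_add, Nat.add_sub_cancel' hba, mul_one]
    rw [h2] at h1
    rcases (Nat.Prime.dvd_mul hq).1 h1 with h1 | h1
    · exact hqp ((Nat.prime_dvd_prime_iff_eq hq hp.out).1 (hq.dvd_of_dvd_pow h1))
    · refine hdvd (h1.trans ?_)
      have : a - b = 1 ∨ a - b = 2 := by omega
      rcases this with e | e <;> rw [e]
      rw [pow_one]
      exact ⟨p + 1, by rw [mul_comm, ← Nat.sq_sub_sq p 1, one_pow]⟩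
  have hWtop : W = ⊤ := Subgroup.eq_top_of_card_eq W (by rw [hWb, hVa, hab])
  -- trivial modulo the Frattini subgroup
  have hA : Subgroup.zpowers g ≤ Subgroup.normalizer (U : Set G) := Subgroup.zpowers_le.2 hgn
  refine Coprime.le_centralizer_of_trivial_mod_frattini hA ?_ ?_ (Subgroup.mem_zpowers g)
  · obtain ⟨m, hm⟩ := IsPGroup.iff_card.1 (hU.to_subgroup (frattini U))
    rw [Nat.card_zpowers, hm]
    obtain ⟨l, -, hl⟩ := (Nat.dvd_prime_pow hq).1 (orderOf_dvd_of_pow_eq_one hg)
    rw [hl]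
    exact Nat.Coprime.pow _ _ ((Nat.coprime_primes hq hp.out).2 hqp)
  · intro x hx u hu
    obtain ⟨i, rfl⟩ := Subgroup.mem_zpowers_iff.1 hx
    have hz : ((σ ^ i) ⟨u, hu⟩ : U) * (⟨u, hu⟩ : U)⁻¹ ∈ frattini U := by
      rw [← QuotientGroup.eq_one_iff, QuotientGroup.mk_mul, QuotientGroup.mk_inv,
        mul_inv_eq_one]
      have hst : τ ∈ MulAction.stabilizer (MulAut (U ⧸ frattini U))
          ((⟨u, hu⟩ : U) : U ⧸ frattini U) := by
        have : ((⟨u, hu⟩ : U) : U ⧸ frattini U) ∈ W := by rw [hWtop]; trivial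
        exact this
      have h3 : (τ ^ i) ((⟨u, hu⟩ : U) : U ⧸ frattini U) = ((⟨u, hu⟩ : U) : U ⧸ frattini U) :=
        Subgroup.zpow_mem _ hst i
      refine Eq.trans ?_ h3
      obtain ⟨m, hm⟩ : ∃ m : ℕ, σ ^ i = σ ^ m ∧ τ ^ i = τ ^ m := by
        obtain ⟨m, hm⟩ : ∃ m : ℕ, (i - m : ℤ) % (q ^ k : ℕ) = 0 :=
          ⟨(i % (q ^ k : ℕ)).toNat, by
            rw [Int.toNat_of_nonneg (Int.emod_nonneg _ (by exact_mod_cast (pow_pos hq.pos k).ne'))]
            simp⟩
        obtain ⟨c, hc⟩ := Int.dvd_of_emod_eq_zero hm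
        refine ⟨m, ?_, ?_⟩
        · rw [show i = (m : ℤ) + ((q ^ k : ℕ) : ℤ) * c by omega, zpow_add, zpow_mul,
            zpow_natCast, zpow_natCast, hσk, one_zpow, mul_one]
        · rw [show i = (m : ℤ) + ((q ^ k : ℕ) : ℤ) * c by omega, zpow_add, zpow_mul,
            zpow_natCast, zpow_natCast, hτk, one_zpow, mul_one]
      rw [hm.1, hm.2, hτm]
    refine ⟨_, hz, ?_⟩
    have e : (σ ^ i) = ρ ((⟨g, hgn⟩ : Subgroup.normalizer (U : Set G)) ^ i) := (map_zpow ρ _ i).symm
    rw [Subgroup.coe_subtype, Subgroup.coe_mul, e]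
    rfl

theorem hasNormalPComplement_iff_coprime (S : Sylow p G) (hS : IsMetacyclic (S : Subgroup G)) :
    HasNormalPComplement p G ↔
      Nat.Coprime (Nat.card (G ⧸ pPrimePCore p G)) (p ^ 2 - 1) := by
  constructor
  · intro hc
    obtain ⟨P, N, hN, hNP⟩ := hc
    haveI := hN
    have hcard : (Nat.card N).Coprime p := by
      rw [← hNP.index_eq_card]
      exact ((Nat.Prime.coprime_iff_not_dvd hp.out).2 P.not_dvd_index).symm
    have hle : N ≤ pPrimeCore p G := CfsgLib.Base.le_pPrimeCore hcard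
    have htop : pPrimePCore p G = ⊤ := by
      refine top_le_iff.1 (CfsgLib.FT.le_pPrimePCore fun x _ => ?_)
      obtain ⟨k, hk⟩ := IsPGroup.iff_card.1 P.2
      refine ⟨k, hle ?_⟩
      have h1 : Nat.card (G ⧸ N) = p ^ k := by
        rw [← hk]; exact hNP.symm.index_eq_card
      rw [← QuotientGroup.eq_one_iff, QuotientGroup.mk_pow, ← h1, pow_card_eq_one']
    rw [htop]
    have h1 : Nat.card (G ⧸ (⊤ : Subgroup G)) = 1 := Subgroup.index_top
    rw [h1]
    exact Nat.coprime_one_left _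
  · intro hcop
    rw [CfsgLib.Transfer.hasNormalPComplement_iff_forall_centralizing S]
    intro U hU g hgn hgp
    have hUp : IsPGroup p U := S.2.to_le hU
    have h2g := exists_two_generators hS hU
    -- reduce to elements of prime power order
    suffices key : ∀ (q k : ℕ) (x : G), q.Prime → q ≠ p → x ^ q ^ k = 1 →
        x ∈ Subgroup.normalizer (U : Set G) → x ∈ Subgroup.centralizer (U : Set G) by
      have hmem : ∀ n : ℕ, ∀ x : G, orderOf x = n → x ∈ Subgroup.normalizer (U : Set G) →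
          Nat.Coprime n p → x ∈ Subgroup.centralizer (U : Set G) := by
        intro n
        induction n using Nat.recOnPrimePow with
        | zero => intro x hx; exact absurd hx (orderOf_pos x).ne'
        | one => intro x hx _ _; rw [orderOf_eq_one_iff.1 hx]; exact Subgroup.one_mem _
        | prime_pow_mul a q k hq hqa hk ih =>
          intro x hx hxn hxp
          have hxo : x ^ (q ^ k * a) = 1 := by rw [← hx, pow_orderOf_eq_one]
          have hqp : q ≠ p := by
            rintro rfl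
            exact Nat.Prime.not_coprime_iff_dvd.2 ⟨q, hq, (dvd_pow_self q hk.ne').mul_right a, dvd_rfl⟩
              hxp
          have hca : Nat.Coprime (q ^ k) a :=
            Nat.Coprime.pow_left k ((Nat.Prime.coprime_iff_not_dvd hq).2 hqa)
          have h1 : x ^ a ∈ Subgroup.centralizer (U : Set G) := key q k _ hq hqp
            (by rw [← pow_mul, mul_comm, hxo]) (Subgroup.pow_mem _ hxn a)
          have h2 : x ^ q ^ k ∈ Subgroup.centralizer (U : Set G) := by
            refine ih _ ?_ (Subgroup.pow_mem _ hxn _) (Nat.Coprime.coprime_mul_left hxp)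
            rw [orderOf_pow_of_dvd (pow_ne_zero _ hq.ne_zero) (hx ▸ dvd_mul_right _ _), hx,
              Nat.mul_div_cancel_left _ (pow_pos hq.pos k)]
          have hb := Nat.gcd_eq_gcd_ab (q ^ k) a
          rw [hca] at hb
          have : x = (x ^ q ^ k) ^ (Nat.gcdA (q ^ k) a) * (x ^ a) ^ (Nat.gcdB (q ^ k) a) := by
            rw [← zpow_natCast x, ← zpow_natCast x, ← zpow_mul, ← zpow_mul, ← zpow_add, ← hb]
            simp
          rw [this]
          exact Subgroup.mul_mem _ (Subgroup.zpow_mem _ h2 _) (Subgroup.zpow_mem _ h1 _)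
      exact hmem _ g rfl hgn hgp
    intro q k x hq hqp hxk hxn
    haveI := CfsgLib.PLocal.pPrimePCore_normal p G
    by_cases hxin : x ∈ pPrimePCore p G
    · obtain ⟨j, hj⟩ := CfsgLib.FT.exists_pow_mem_of_mem_pPrimePCore hxin
      have hcq : Nat.Coprime (p ^ j) (q ^ k) :=
        Nat.Coprime.pow _ _ ((Nat.coprime_primes hp.out hq).2 (Ne.symm hqp))
      have hxO : x ∈ pPrimeCore p G := by
        have hb := Nat.gcd_eq_gcd_ab (p ^ j) (q ^ k)
        rw [hcq] at hb
        have : x = (x ^ p ^ j) ^ (Nat.gcdA (p ^ j) (q ^ k)) := by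
          conv_lhs => rw [← zpow_one x, show (1 : ℤ) = ((1 : ℕ) : ℤ) from rfl, hb, zpow_add,
            zpow_mul, zpow_mul, zpow_natCast, zpow_natCast, hxk, one_zpow, mul_one]
        rw [this]
        exact Subgroup.zpow_mem _ hj _
      refine Subgroup.mem_centralizer_iff.2 fun u hu => ?_
      have hOn : (pPrimeCore p G).Normal := Cfsg.pPrimeCore_normal p G
      have h1 : x * u * x⁻¹ * u⁻¹ ∈ U ⊓ pPrimeCore p G := by
        refine ⟨U.mul_mem ((Subgroup.mem_normalizer_iff.1 hxn u).1 hu) (U.inv_mem hu), ?_⟩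
        rw [mul_assoc, mul_assoc, ← mul_assoc u x⁻¹]
        exact Subgroup.mul_mem _ hxO (hOn.conj_mem _ (Subgroup.inv_mem _ hxO) u)
      have hbot : U ⊓ pPrimeCore p G = ⊥ := by
        refine Subgroup.inf_eq_bot_of_coprime ?_
        obtain ⟨m, hm⟩ := IsPGroup.iff_card.1 hUp
        rw [hm]
        exact Nat.Coprime.pow_left _ (CfsgLib.Base.pPrimeCore_coprime p G).symm
      rw [hbot, Subgroup.mem_bot, mul_inv_eq_one, mul_inv_eq_iff_eq_mul] at h1
      exact h1.symm
    · refine centralizes_two_generated hUp h2g hq hqp (fun hd => ?_) hxk hxn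
      have h1 : orderOf (x : G ⧸ pPrimePCore p G) ∣ q ^ k := by
        refine orderOf_dvd_of_pow_eq_one ?_
        rw [← QuotientGroup.mk_pow, hxk]; rfl
      obtain ⟨l, -, hl⟩ := (Nat.dvd_prime_pow hq).1 h1
      rcases Nat.eq_zero_or_pos l with rfl | hl0
      · rw [pow_zero, orderOf_eq_one_iff, QuotientGroup.eq_one_iff] at hl
        exact hxin hl
      · have hqd : q ∣ Nat.card (G ⧸ pPrimePCore p G) :=
          (by rw [hl]; exact dvd_pow_self q hl0.ne' :
            q ∣ orderOf (x : G ⧸ pPrimePCore p G)).trans (orderOf_dvd_natCard _)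
        exact hq.not_dvd_one (hcop ▸ Nat.dvd_gcd hqd hd)

end CfsgLib.FTCons
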