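import Mathlib
import Cfsg.Agent.Lib.FT.Interface

/-!
Solvability of groups with a small abelian Sylow 2-subgroup and order prime to 3 (via the odd
order theorem).
-/

set_option autoImplicit false

namespace CfsgLib.FTCons

universe u

variable {G : Type u} [Group G] [Finite G]

/-- A commutative group generated by two elements has at most four solutions of `y ^ 2 = 1`. -/
theorem card_sq_eq_one_le {A : Type u} [CommGroup A] [Finite A] (h : Group.rank A ≤ 2) :
    Nat.card (powMonoidHom 2 : A →* A).ker ≤ 4 := by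
  classical
  set f : A →* A := powMonoidHom 2 with hf
  have hidx : Nat.card f.ker = f.range.index := by
    have h1 := f.ker.card_eq_card_quotient_mul_card_subgroup
    have h2 := f.range.card_mul_index
    have h3 : Nat.card (A ⧸ f.ker) = Nat.card f.range :=
      Nat.card_congr (QuotientGroup.quotientKerEquivRange f).toEquiv
    rw [h3] at h1
    exact (Nat.eq_of_mul_eq_mul_left Nat.card_pos (h2.trans h1)).symm
  obtain ⟨S, hS, hcl⟩ := Group.rank_spec A
  obtain ⟨a, b, hab⟩ : ∃ a b : A, Subgroup.closure ({a, b} : Set A) = ⊤ := by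
    rcases (show S.card = 0 ∨ S.card = 1 ∨ S.card = 2 by omega) with e | e | e
    · refine ⟨1, 1, top_le_iff.mp (hcl.symm.le.trans (Subgroup.closure_mono ?_))⟩
      simp [Finset.card_eq_zero.mp e]
    · obtain ⟨a, rfl⟩ := Finset.card_eq_one.mp e
      exact ⟨a, a, by simpa using hcl⟩
    · obtain ⟨a, b, -, rfl⟩ := Finset.card_eq_two.mp e
      exact ⟨a, b, by simpa using hcl⟩
  let g : Fin 2 × Fin 2 → A ⧸ f.range := fun i =>
    QuotientGroup.mk' f.range (a ^ i.1.1 * b ^ i.2.1)
  have hsurj : Function.Surjective g := by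
    intro q
    obtain ⟨z, rfl⟩ := QuotientGroup.mk'_surjective f.range q
    obtain ⟨m, n, rfl⟩ := Subgroup.mem_closure_pair.mp (hab ▸ Subgroup.mem_top z)
    refine ⟨⟨⟨(m % 2).toNat, by omega⟩, ⟨(n % 2).toNat, by omega⟩⟩,
      QuotientGroup.eq.mpr ⟨a ^ (m / 2) * b ^ (n / 2), ?_⟩⟩
    simp only [hf, powMonoidHom_apply]
    rw [← zpow_natCast a, ← zpow_natCast b, Int.toNat_of_nonneg (by omega),
      Int.toNat_of_nonneg (by omega), mul_pow, ← zpow_natCast (a ^ (m / 2)),
      ← zpow_natCast (b ^ (n / 2)), ← zpow_mul, ← zpow_mul, mul_inv, ← zpow_neg, ← zpow_neg,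
      mul_mul_mul_comm, ← zpow_add, ← zpow_add]
    congr 2 <;> push_cast <;> omega
  have := Nat.card_le_card_of_surjective g hsurj
  rw [hidx, Subgroup.index]
  simpa using this

/-- An element of order prime to 6 normalizing an abelian 2-group with at most four elements of
order at most 2 centralizes it. -/
theorem commute_of_coprime_six (P : Subgroup G) [hc : IsMulCommutative P] (hP : IsPGroup 2 P)
    (h4 : Nat.card {y : P // y ^ 2 = 1} ≤ 4) {x : G} (hx : x ∈ Subgroup.normalizer (P : Set G))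
    (hcop : (orderOf x).Coprime 6) {y : G} (hy : y ∈ P) : x * y = y * x := by
  have hconj : ∀ z : G, z ∈ P → x * z * x⁻¹ ∈ P := fun z hz =>
    (Subgroup.mem_normalizer_iff.mp hx z).mp hz
  have hodd : Odd (orderOf x) :=
    Nat.Coprime.odd_of_right (Nat.Coprime.coprime_dvd_right (by norm_num) hcop)
  -- `x` fixes every element of order at most 2
  have hfix : ∀ z ∈ P, z ^ 2 = 1 → x * z * x⁻¹ = z := by
    classical
    let T := {y : G // y ∈ P ∧ y ^ 2 = 1 ∧ y ≠ 1}
    have hT3 : Nat.card T ≤ 3 := by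
      let U := {y : P // y ^ 2 = 1}
      let j : Option T → U := fun t => t.elim ⟨1, one_pow 2⟩
        fun t => ⟨⟨t.1, t.2.1⟩, Subtype.ext t.2.2.1⟩
      have hj : Function.Injective j := by
        rintro (_ | s) (_ | t) e
        · rfl
        · exact absurd (congrArg (fun w : U => ((w : P) : G)) e).symm t.2.2.2
        · exact absurd (congrArg (fun w : U => ((w : P) : G)) e) s.2.2.2
        · exact congrArg some (Subtype.ext (congrArg (fun w : U => ((w : P) : G)) e))
      have := (Nat.card_le_card_of_injective j hj).trans h4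
      rw [Finite.card_option] at this
      omega
    let σ : Equiv.Perm T := (MulAut.conj x).toEquiv.subtypeEquiv fun y => by
      simp only [MulEquiv.toEquiv_eq_coe, EquivLike.coe_coe, MulAut.conj_apply, conj_pow]
      refine and_congr (Subgroup.mem_normalizer_iff.mp hx y) (and_congr ?_ ?_)
      · rw [mul_inv_eq_one, mul_eq_left]
      · rw [ne_eq, ne_eq, mul_inv_eq_one, mul_eq_left]
    have hσ : ∀ (n : ℕ) (t : T), (((σ ^ n) t : T) : G) = x ^ n * t.1 * (x ^ n)⁻¹ := by
      intro n
      induction n with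
      | zero => simp
      | succ n ih =>
        intro t
        rw [pow_succ', Equiv.Perm.mul_apply, pow_succ']
        show x * ((σ ^ n) t).1 * x⁻¹ = _
        rw [ih]
        group
    have h1 : σ ^ orderOf x = 1 := Equiv.ext fun t => Subtype.ext <| by
      rw [hσ, pow_orderOf_eq_one]; simp
    have h2 : orderOf σ ∣ 6 := (orderOf_dvd_natCard σ).trans (by
      rw [Nat.card_perm]
      exact (Nat.factorial_dvd_factorial hT3).trans (by norm_num [Nat.factorial]))
    have h3 : σ = 1 := orderOf_eq_one_iff.mp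
      (Nat.eq_one_of_dvd_coprimes hcop (orderOf_dvd_of_pow_eq_one h1) h2)
    intro z hz hz2
    by_cases hz1 : z = 1
    · simp [hz1]
    · exact congrArg Subtype.val (Equiv.Perm.ext_iff.mp h3 ⟨z, hz, hz2, hz1⟩)
  -- hence every element
  obtain ⟨k, hk⟩ : ∃ k : ℕ, y ^ 2 ^ k = 1 := by
    obtain ⟨k, hk⟩ := hP ⟨y, hy⟩
    exact ⟨k, congrArg Subtype.val hk⟩
  suffices h : x * y * x⁻¹ = y by rwa [mul_inv_eq_iff_eq_mul] at h
  clear hcop
  induction k generalizing y with
  | zero => rw [pow_zero, pow_one] at hk; simp [hk]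
  | succ k ih =>
    have hsq : x * y ^ 2 * x⁻¹ = y ^ 2 :=
      ih (P.pow_mem hy 2) (by rw [← pow_mul, ← pow_succ']; exact hk)
    set d := x * y * x⁻¹ * y⁻¹ with hd
    have hdP : d ∈ P := P.mul_mem (hconj y hy) (P.inv_mem hy)
    have hd2 : d ^ 2 = 1 := by
      have hcomm : Commute (x * y * x⁻¹) y⁻¹ :=
        congrArg Subtype.val (hc.is_comm.comm ⟨_, hconj y hy⟩ ⟨_, P.inv_mem hy⟩)
      rw [hd, hcomm.mul_pow, conj_pow, hsq, inv_pow, mul_inv_cancel]
    have hn : ∀ n : ℕ, x ^ n * y * (x ^ n)⁻¹ = d ^ n * y := by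
      intro n
      induction n with
      | zero => simp
      | succ n ihn =>
        calc x ^ (n + 1) * y * (x ^ (n + 1))⁻¹
            = x * (x ^ n * y * (x ^ n)⁻¹) * x⁻¹ := by group
          _ = (x * d ^ n * x⁻¹) * (x * y * x⁻¹) := by rw [ihn]; group
          _ = d ^ n * (d * y) := by
              rw [← conj_pow, hfix d hdP hd2, hd]; group
          _ = d ^ (n + 1) * y := by rw [← mul_assoc, pow_succ]
    have hdn := hn (orderOf x)
    rw [pow_orderOf_eq_one, one_mul, inv_one, mul_one, eq_comm, mul_eq_right] at hdn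
    obtain ⟨m, hm⟩ := hodd
    rw [hm, pow_succ, pow_mul, hd2, one_pow, one_mul] at hdn
    exact mul_inv_eq_one.mp hdn

theorem isSolvable_of_normalizer_le_centralizer (hFT : CfsgLib.FT.OddOrderThm.{u}) (P : Sylow 2 G)
    (hP : Subgroup.normalizer ((P : Subgroup G) : Set G) ≤
      Subgroup.centralizer ((P : Subgroup G) : Set G)) : Group.IsSolvable G := by
  set f := MonoidHom.transferSylow P hP with hf
  have hK : Odd (Nat.card f.ker) := Nat.not_even_iff_odd.mp fun he =>
    MonoidHom.not_dvd_card_ker_transferSylow P hP (even_iff_two_dvd.mp he)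
  haveI : Group.IsSolvable f.ker := hFT _ hK
  haveI : Group.IsNilpotent (P : Subgroup G) := P.2.isNilpotent
  haveI : Group.IsSolvable (P : Subgroup G) := inferInstance
  exact solvable_of_ker_le_range f.ker.subtype f (by simp)

/-- `Sylow 2`-subgroups abelian on two generators and `12 ∤ |G|` imply solvability. -/
theorem isSolvable_of_abelian_two_gen_twelve (hFT : CfsgLib.FT.OddOrderThm.{u})
    (h12 : ¬ 12 ∣ Nat.card G)
    (hS : ∀ P : Sylow 2 G, 4 ∣ Nat.card G → IsMulCommutative (P : Subgroup G) ∧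
      Group.rank (P : Subgroup G) ≤ 2) : Group.IsSolvable G := by
  let P : Sylow 2 G := Classical.arbitrary _
  refine isSolvable_of_normalizer_le_centralizer hFT P fun x hx => ?_
  rw [Subgroup.mem_centralizer_iff]
  intro y hy
  have hconj : ∀ z : G, z ∈ (P : Subgroup G) → x * z * x⁻¹ ∈ (P : Subgroup G) := fun z hz =>
    (Subgroup.mem_normalizer_iff.mp hx z).mp hz
  by_cases h4 : 4 ∣ Nat.card G
  · obtain ⟨hcomm, hrank⟩ := hS P h4
    haveI := hcomm
    have h3 : ¬ 3 ∣ Nat.card G := fun h => h12 (Nat.Coprime.mul_dvd_of_dvd_of_dvd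
      (show Nat.Coprime 4 3 by norm_num) h4 h)
    have hfour : Nat.card {z : (P : Subgroup G) // z ^ 2 = 1} ≤ 4 := by
      letI : CommGroup (P : Subgroup G) :=
        { (inferInstance : Group (P : Subgroup G)) with mul_comm := hcomm.is_comm.comm }
      exact card_sq_eq_one_le hrank
    have hnotdvd3 : ∀ z : G, ¬ 3 ∣ orderOf z := fun z h => h3 (h.trans (orderOf_dvd_natCard z))
    obtain ⟨n, hn⟩ : ∃ n, n = (orderOf x).factorization 2 := ⟨_, rfl⟩
    have hpos : 0 < orderOf x := orderOf_pos x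
    set m := orderOf x / 2 ^ n with hm
    have hdecomp : 2 ^ n * m = orderOf x := by
      rw [hm, hn]; exact Nat.ordProj_mul_ordCompl_eq_self _ 2
    have hmodd : ¬ 2 ∣ m := by rw [hm, hn]; exact Nat.not_dvd_ordCompl Nat.prime_two hpos.ne'
    -- the odd part centralizes
    have h1 : x ^ 2 ^ n * y = y * x ^ 2 ^ n := by
      refine commute_of_coprime_six (P : Subgroup G) P.2 hfour (Subgroup.pow_mem _ hx _) ?_ hy
      rw [orderOf_pow, ← hdecomp, Nat.gcd_eq_right (dvd_mul_right _ _),
        Nat.mul_div_cancel_left _ (by positivity)]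
      have h3' : ¬ 3 ∣ m := fun h => hnotdvd3 x (hdecomp ▸ Dvd.dvd.mul_left h _)
      rw [show (6 : ℕ) = 2 * 3 by norm_num]
      exact Nat.Coprime.mul_right ((Nat.Prime.coprime_iff_not_dvd Nat.prime_two).mpr hmodd).symm
        ((Nat.Prime.coprime_iff_not_dvd Nat.prime_three).mpr h3').symm
    -- the 2-part lies in `P`
    have h2 : x ^ m * y = y * x ^ m := by
      have hp : IsPGroup 2 (Subgroup.zpowers (x ^ m)) := IsPGroup.of_card (n := n) (by
        rw [Nat.card_zpowers, orderOf_pow, ← hdecomp, Nat.gcd_eq_right (dvd_mul_left _ _),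
          Nat.mul_div_cancel _ (Nat.pos_of_ne_zero (fun h : m = 0 => hmodd (by rw [h]; exact dvd_zero _)))])
      have hmem : x ^ m ∈ Subgroup.zpowers (x ^ m) ⊓ (P : Subgroup G) := by
        rw [← hp.inf_normalizer_sylow P]
        exact ⟨Subgroup.mem_zpowers _, Subgroup.pow_mem _ hx _⟩
      exact congrArg Subtype.val (hcomm.is_comm.comm ⟨_, hmem.2⟩ ⟨y, hy⟩)
    have hco : Nat.Coprime (2 ^ n) m :=
      Nat.Coprime.pow_left _ ((Nat.Prime.coprime_iff_not_dvd Nat.prime_two).mpr hmodd)
    have hx' : x = (x ^ 2 ^ n) ^ Nat.gcdA (2 ^ n) m * (x ^ m) ^ Nat.gcdB (2 ^ n) m := by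
      rw [← zpow_natCast x (2 ^ n), ← zpow_natCast x m, ← zpow_mul, ← zpow_mul, ← zpow_add,
        ← Nat.gcd_eq_gcd_ab, hco.gcd_eq_one, Nat.cast_one, zpow_one]
    have c1 : Commute (x ^ 2 ^ n) y := h1
    have c2 : Commute (x ^ m) y := h2
    rw [hx']
    exact ((c1.zpow_left _).mul_left (c2.zpow_left _)).eq.symm
  · -- the Sylow 2-subgroup has at most two elements
    have hle : Nat.card (P : Subgroup G) ∣ 2 := by
      obtain ⟨k, hk⟩ := IsPGroup.iff_card.mp P.2
      rw [hk]
      rcases k with _ | _ | k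
      · simp
      · simp
      · exfalso
        apply h4
        refine dvd_trans ?_ (P : Subgroup G).card_subgroup_dvd_card
        rw [hk]
        exact ⟨2 ^ k, by ring⟩
    by_cases hy1 : y = 1
    · simp [hy1]
    · have hz1 : x * y * x⁻¹ ≠ 1 := by
        rw [ne_eq, mul_inv_eq_one, mul_eq_left]; exact hy1
      have h2 : Nat.card (P : Subgroup G) = 2 := by
        rcases (Nat.dvd_prime Nat.prime_two).mp hle with h | h
        · exact absurd (Subgroup.mem_bot.mp (Subgroup.eq_bot_of_card_eq _ h ▸ hy)) hy1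
        · exact h
      obtain ⟨u, v, -, huv⟩ := Nat.card_eq_two_iff.mp h2
      have key : (⟨x * y * x⁻¹, hconj y hy⟩ : (P : Subgroup G)) = ⟨y, hy⟩ := by
        have e1 : (⟨1, Subgroup.one_mem _⟩ : (P : Subgroup G)) ≠ ⟨y, hy⟩ := fun e =>
          hy1 (congrArg Subtype.val e).symm
        have e2 : (⟨1, Subgroup.one_mem _⟩ : (P : Subgroup G)) ≠ ⟨x * y * x⁻¹, hconj y hy⟩ :=
          fun e => hz1 (congrArg Subtype.val e).symm
        have m1 : ∀ z : (P : Subgroup G), z = u ∨ z = v := fun z => by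
          have := huv.symm ▸ Set.mem_univ z
          simpa using this
        rcases m1 ⟨1, Subgroup.one_mem _⟩ with a | a <;> rcases m1 ⟨y, hy⟩ with b | b <;>
          rcases m1 ⟨x * y * x⁻¹, hconj y hy⟩ with c | c <;>
          first
            | exact c.trans b.symm
            | exact absurd (a.trans b.symm) e1
            | exact absurd (a.trans c.symm) e2
      exact (mul_inv_eq_iff_eq_mul.mp (congrArg Subtype.val key)).symm

/-- Small abelian Sylow subgroups except for the largest prime, and `12 ∤ |G|`, imply solvability. -/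
theorem isSolvable_of_small_abelian_sylows (hFT : CfsgLib.FT.OddOrderThm.{u})
    (h : ∀ p : ℕ, p.Prime → p ∣ Nat.card G → (∃ q : ℕ, q.Prime ∧ q ∣ Nat.card G ∧ p < q) →
      ∀ P : Sylow p G, IsMulCommutative (P : Subgroup G) ∧ Group.rank (P : Subgroup G) ≤ 2)
    (h12 : ¬ 12 ∣ Nat.card G) : Group.IsSolvable G := by
  by_cases hbig : ∃ q : ℕ, q.Prime ∧ q ∣ Nat.card G ∧ 2 < q
  · exact isSolvable_of_abelian_two_gen_twelve hFT h12 fun P h4 =>
      h 2 Nat.prime_two ((show 2 ∣ 4 by norm_num).trans h4) hbig P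
  · push Not at hbig
    haveI : Group.IsNilpotent G := IsPGroup.isNilpotent (p := 2) (IsPGroup.of_card
      (Nat.eq_prime_pow_of_unique_prime_dvd Nat.card_pos.ne' fun hq hd =>
        le_antisymm (hbig _ hq hd) hq.two_le))
    infer_instance

end CfsgLib.FTCons
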