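import Cfsg.Prelude.Def_TwoFusion
import Cfsg.Agent.Lib.Fusion.SylowAux
import Cfsg.Agent.Lib.Involutions.Isolated

/-!
Fusion of an involution `t` which centralises a Sylow `2`-subgroup of a normal subgroup `N` of
index `2`: if the obstruction `g⁻¹ t g t` has odd order for every `g` normalising a centric
subgroup, then `t` is isolated.
-/

set_option autoImplicit false
set_option linter.style.haveILetI false

namespace CfsgLib.FTCons

open CfsgLib.Fusion

variable {X : Type*} [Group X]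

/-- The hypotheses of the isolation criterion. -/
structure CentralizedSylow (N S : Subgroup X) (t : X) : Prop where
  le : S ≤ N
  isPGroup : IsPGroup 2 S
  maximal : ∀ C : Subgroup X, IsPGroup 2 C → S ≤ C → C ≤ N → C = S
  normal : N.Normal
  invol : orderOf t = 2
  not_mem : t ∉ N
  cover : ∀ x : X, x ∈ N ∨ x * t ∈ N
  comm : ∀ s ∈ S, s * t = t * s
  odd : ∀ R : Subgroup X, R ≤ S →
    (∀ z ∈ N, z ∈ Subgroup.centralizer (R : Set X) → (∃ k : ℕ, z ^ 2 ^ k = 1) → z ∈ R) →
    ∀ g ∈ N, g ∈ Subgroup.normalizer (R : Set X) → Odd (orderOf (g⁻¹ * (t * g * t)))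

namespace CentralizedSylow

variable {N S : Subgroup X} {t : X}

theorem mul_self (h : CentralizedSylow N S t) : t * t = 1 := by
  rw [← pow_two, ← h.invol, pow_orderOf_eq_one]

theorem inv_eq (h : CentralizedSylow N S t) : t⁻¹ = t := inv_eq_of_mul_eq_one_right h.mul_self

/-- The Sylow subgroup `S × ⟨t⟩`. -/
def top (h : CentralizedSylow N S t) : Subgroup X where
  carrier := {x | x ∈ S ∨ x * t ∈ S}
  one_mem' := Or.inl S.one_mem
  mul_mem' := by
    rintro a b (ha | ha) (hb | hb)
    · exact Or.inl (S.mul_mem ha hb)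
    · exact Or.inr (by rw [mul_assoc]; exact S.mul_mem ha hb)
    · refine Or.inr ?_
      rw [show a * b * t = a * (b * t) by rw [mul_assoc], h.comm b hb, ← mul_assoc]
      exact S.mul_mem ha hb
    · refine Or.inl ?_
      have e : a * t * (b * t) = a * b := by
        rw [show a * t * (b * t) = a * (t * (b * t)) by rw [mul_assoc], ← h.comm _ hb,
          mul_assoc b t t, h.mul_self, mul_one]
      rw [← e]
      exact S.mul_mem ha hb
  inv_mem' := by
    rintro a (ha | ha)
    · exact Or.inl (S.inv_mem ha)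
    · refine Or.inr ?_
      have e : a⁻¹ * t = (a * t)⁻¹ := by
        have h1 := h.comm _ (S.inv_mem ha)
        rw [mul_inv_rev, h.inv_eq] at h1 ⊢
        calc a⁻¹ * t = (t * (t * a⁻¹)) * t := by rw [← mul_assoc t t, h.mul_self, one_mul]
          _ = t * (t * a⁻¹ * t) := by rw [mul_assoc]
          _ = t * (t * (t * a⁻¹)) := by rw [h1]
          _ = t * a⁻¹ := by rw [← mul_assoc t t, h.mul_self, one_mul]
      rw [e]
      exact S.inv_mem ha

variable (h : CentralizedSylow N S t)
include h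

theorem mem_top : ∀ {x : X}, x ∈ h.top ↔ x ∈ S ∨ x * t ∈ S := Iff.rfl

theorem t_mem : t ∈ h.top := Or.inr (by rw [h.mul_self]; exact S.one_mem)

theorem comm_top {x : X} (hx : x ∈ h.top) : x * t = t * x := by
  rcases hx with hx | hx
  · exact h.comm x hx
  · have h1 := h.comm _ hx
    rw [mul_assoc, h.mul_self, mul_one, ← mul_assoc] at h1
    calc x * t = t * x * t * t := by rw [← h1]
      _ = t * x := by rw [mul_assoc, h.mul_self, mul_one]

theorem isPGroup_top : IsPGroup 2 h.top := by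
  intro ⟨x, hx⟩
  have hsq : x * x ∈ S := by
    rcases hx with hx | hx
    · exact S.mul_mem hx hx
    · have hc := h.comm_top (Or.inr hx : x ∈ h.top)
      have : x * t * (x * t) = x * x := by
        rw [mul_assoc x t, ← mul_assoc t x t, ← hc, mul_assoc x t t, h.mul_self, mul_one]
      rw [← this]
      exact S.mul_mem hx hx
  obtain ⟨k, hk⟩ := h.isPGroup ⟨_, hsq⟩
  refine ⟨k + 1, Subtype.ext ?_⟩
  have := congrArg Subtype.val hk
  simp only [SubgroupClass.coe_pow, Subgroup.coe_one] at this ⊢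
  rw [pow_succ', pow_mul, pow_two, this]

theorem mem_of_mem_top {x : X} (hx : x ∈ h.top) (hxN : x ∈ N) : x ∈ S := by
  rcases hx with hx | hx
  · exact hx
  · exact absurd (by simpa [← mul_assoc] using N.mul_mem (N.inv_mem hxN) (h.le hx)) h.not_mem

theorem isSylIn_top : IsSylIn 2 h.top ⊤ := by
  refine ⟨le_top, h.isPGroup_top, fun C hC hle _ => le_antisymm (fun x hx => ?_) hle⟩
  have hCN : C ⊓ N = S := h.maximal _ (isPGroup_of_le inf_le_left hC)
    (le_inf ((fun s hs => hle (Or.inl hs)) : S ≤ C) h.le) inf_le_right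
  rcases h.cover x with hxN | hxN
  · exact Or.inl (hCN.le ⟨hx, hxN⟩)
  · exact Or.inr (hCN.le ⟨C.mul_mem hx (hle h.t_mem), hxN⟩)

/-- The step at a centric subgroup whose normaliser has its Sylow subgroup inside `S × ⟨t⟩`. -/
theorem fixed_centric [Finite X] {D : Subgroup X} (hD : D ≤ h.top) (htD : t ∈ D)
    (hc : h.top ⊓ Subgroup.centralizer (D : Set X) ≤ D)
    (hsyl : IsSylIn 2 (h.top ⊓ Subgroup.normalizer (D : Set X))
      (Subgroup.normalizer (D : Set X)))
    {x : X} (hx : x ∈ Subgroup.normalizer (D : Set X)) : x * t * x⁻¹ = t := by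
  haveI := h.normal
  let D₀ : Subgroup X := D ⊓ N
  have hD₀S : D₀ ≤ S := fun d hd => h.mem_of_mem_top (hD hd.1) hd.2
  have hsplit : ∀ d ∈ D, d ∈ D₀ ∨ d * t ∈ D₀ := fun d hd => by
    rcases h.cover d with hdN | hdN
    · exact Or.inl ⟨hd, hdN⟩
    · exact Or.inr ⟨D.mul_mem hd htD, hdN⟩
  have hcD : ∀ u : X, u * t = t * u → u ∈ Subgroup.centralizer (D₀ : Set X) →
      u ∈ Subgroup.centralizer (D : Set X) := by
    intro u hut hu
    refine Subgroup.mem_centralizer_iff.2 fun d hd => ?_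
    rcases hsplit d hd with hd' | hd'
    · exact Subgroup.mem_centralizer_iff.1 hu d hd'
    · have h1 : Commute u (d * t) := (Subgroup.mem_centralizer_iff.1 hu _ hd').symm
      have h2 := h1.mul_right (show Commute u t from hut)
      rw [mul_assoc, h.mul_self, mul_one] at h2
      exact h2.symm
  have hnD₀ : ∀ b ∈ Subgroup.normalizer (D : Set X),
      b ∈ Subgroup.normalizer (D₀ : Set X) := by
    intro b hb
    refine Subgroup.mem_normalizer_iff.2 fun d => ?_
    exact and_congr (Subgroup.mem_normalizer_iff.1 hb d)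
      (⟨fun hd => h.normal.conj_mem d hd b, fun hd => by
        simpa [mul_assoc] using h.normal.conj_mem _ hd b⁻¹⟩)
  -- `2`-elements of `C(D₀) ∩ N(D)` lie in `D`
  have hY : ∀ y ∈ Subgroup.centralizer (D₀ : Set X), y ∈ Subgroup.normalizer (D : Set X) →
      (∃ k : ℕ, y ^ 2 ^ k = 1) → y ∈ D := by
    intro y hy hyn hy2
    have hyp : IsPGroup 2 (Subgroup.zpowers y) := by
      obtain ⟨k, hk⟩ := hy2
      intro ⟨z, hz⟩
      obtain ⟨j, rfl⟩ := Subgroup.mem_zpowers_iff.1 hz
      refine ⟨k, Subtype.ext ?_⟩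
      simp only [SubgroupClass.coe_pow, Subgroup.coe_one]
      rw [← zpow_natCast, ← zpow_mul, mul_comm, zpow_mul, zpow_natCast, hk, one_zpow]
    obtain ⟨b, hb, hbc⟩ := hsyl.exists_conj_le hyp (Subgroup.zpowers_le.2 hyn)
    have hu := hbc y (Subgroup.mem_zpowers y)
    have huc : b * y * b⁻¹ ∈ Subgroup.centralizer (D₀ : Set X) := by
      refine Subgroup.mem_centralizer_iff.2 fun d hd => ?_
      have hd' : b⁻¹ * d * b ∈ D₀ := (Subgroup.mem_normalizer_iff''.1 (hnD₀ b hb) d).1 hd
      have h1 := Subgroup.mem_centralizer_iff.1 hy _ hd'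
      calc d * (b * y * b⁻¹) = b * ((b⁻¹ * d * b) * y) * b⁻¹ := by group
        _ = b * (y * (b⁻¹ * d * b)) * b⁻¹ := by rw [h1]
        _ = b * y * b⁻¹ * d := by group
    have huD : b * y * b⁻¹ ∈ D := hc ⟨hu.1, hcD _ (h.comm_top hu.1) huc⟩
    exact (Subgroup.mem_normalizer_iff.1 hb y).2 huD
  -- `D ∩ C(D₀)` is a Sylow `2`-subgroup of `C(D₀)`
  let A : Subgroup X := D ⊓ Subgroup.centralizer (D₀ : Set X)
  have htC : t ∈ Subgroup.centralizer (D₀ : Set X) :=
    Subgroup.mem_centralizer_iff.2 fun d hd => h.comm d (hD₀S hd)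
  have hAsyl : IsSylIn 2 A (Subgroup.centralizer (D₀ : Set X)) := by
    by_contra hA
    obtain ⟨b, hbC, hbA, hbN, hb2⟩ := exists_normalizing (inf_le_right : A ≤ _)
      (isPGroup_of_le (inf_le_left.trans hD) h.isPGroup_top) hA
    refine hbA ⟨hY b hbC ?_ hb2, hbC⟩
    have hbt : b * t * b⁻¹ ∈ D := ((Subgroup.mem_normalizer_iff.1 hbN t).1 ⟨htD, htC⟩).1
    have hmap : D.map (MulAut.conj b).toMonoidHom ≤ D := by
      rintro _ ⟨d, hd, rfl⟩
      show b * d * b⁻¹ ∈ D
      have hfix : ∀ e ∈ D₀, b * e * b⁻¹ = e := fun e he => by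
        rw [← Subgroup.mem_centralizer_iff.1 hbC e he, mul_inv_cancel_right]
      rcases hsplit d hd with hd' | hd'
      · rw [hfix d hd']; exact hd
      · have e : b * d * b⁻¹ = (b * (d * t) * b⁻¹) * (b * t * b⁻¹)⁻¹ := by group
        rw [e, hfix _ hd']
        exact D.mul_mem hd'.1 (D.inv_mem hbt)
    rw [Subgroup.mem_normalizer_iff_map_conj_eq]
    exact Subgroup.eq_of_le_of_card_ge hmap
      (Subgroup.card_map_of_injective (MulAut.conj b).injective).ge
  have hcen : ∀ z ∈ N, z ∈ Subgroup.centralizer (D₀ : Set X) → (∃ k : ℕ, z ^ 2 ^ k = 1) →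
      z ∈ D₀ := by
    intro z hzN hzC hz2
    have hzp : IsPGroup 2 (Subgroup.zpowers z) := by
      obtain ⟨k, hk⟩ := hz2
      intro ⟨w, hw⟩
      obtain ⟨j, rfl⟩ := Subgroup.mem_zpowers_iff.1 hw
      refine ⟨k, Subtype.ext ?_⟩
      simp only [SubgroupClass.coe_pow, Subgroup.coe_one]
      rw [← zpow_natCast, ← zpow_mul, mul_comm, zpow_mul, zpow_natCast, hk, one_zpow]
    obtain ⟨c, hc', hcz⟩ := hAsyl.exists_conj_le hzp (Subgroup.zpowers_le.2 hzC)
    have hd : c * z * c⁻¹ ∈ D₀ :=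
      ⟨(hcz z (Subgroup.mem_zpowers z)).1, h.normal.conj_mem z hzN c⟩
    have he := Subgroup.mem_centralizer_iff.1 hc' _ hd
    have : c * z * c⁻¹ = z := by
      calc c * z * c⁻¹ = c⁻¹ * (c * (c * z * c⁻¹)) := by group
        _ = c⁻¹ * ((c * z * c⁻¹) * c) := by rw [he]
        _ = z := by group
    rwa [this] at hd
  -- replace `x` by an element of `N`
  obtain ⟨g, hgN, hgn, hgx⟩ : ∃ g ∈ N, g ∈ Subgroup.normalizer (D : Set X) ∧
      g * t * g⁻¹ = x * t * x⁻¹ := by
    rcases h.cover x with hxN | hxN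
    · exact ⟨x, hxN, hx, rfl⟩
    · exact ⟨x * t, hxN, Subgroup.mul_mem _ hx (Subgroup.le_normalizer htD), by group⟩
  rw [← hgx]
  have hodd := h.odd D₀ hD₀S hcen g hgN (hnD₀ g hgn)
  have hs : g * t * g⁻¹ * t ∈ D₀ := by
    refine ⟨D.mul_mem ((Subgroup.mem_normalizer_iff.1 hgn t).1 htD) htD, ?_⟩
    rw [mul_assoc (g * t), mul_assoc g t]
    refine N.mul_mem hgN ?_
    have := h.normal.conj_mem _ (N.inv_mem hgN) t
    rwa [h.inv_eq, mul_assoc] at this
  have hord : orderOf (g⁻¹ * (t * g * t)) = orderOf (g * t * g⁻¹ * t) := by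
    rw [← orderOf_inv (g * t * g⁻¹ * t),
      ← orderOf_injective (MulAut.conj g).toMonoidHom (MulAut.conj g).injective]
    congr 1
    simp only [MulEquiv.coe_toMonoidHom, MulAut.conj_apply, mul_inv_rev, inv_inv, h.inv_eq]
    group
  rw [hord] at hodd
  obtain ⟨k, hk⟩ := h.isPGroup ⟨_, hD₀S hs⟩
  have hk' : (g * t * g⁻¹ * t) ^ 2 ^ k = 1 := congrArg Subtype.val hk
  obtain ⟨j, -, hj⟩ := (Nat.dvd_prime_pow Nat.prime_two).1 (orderOf_dvd_of_pow_eq_one hk')
  rcases Nat.eq_zero_or_pos j with rfl | hjpos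
  · rw [pow_zero, orderOf_eq_one_iff] at hj
    rw [mul_eq_one_iff_eq_inv.1 hj, h.inv_eq]
  · exact absurd (hj ▸ hodd)
      (Nat.not_odd_iff_even.2 (Nat.even_pow.2 ⟨even_two, hjpos.ne'⟩))

/-- Every conjugation between subgroups of `S × ⟨t⟩` fixes `t` if the source contains it. -/
theorem fixed [Finite X] : ∀ (n : ℕ) (D : Subgroup X), Nat.card h.top - Nat.card D ≤ n →
    D ≤ h.top → t ∈ D → ∀ g : X, (∀ d ∈ D, g * d * g⁻¹ ∈ h.top) → g * t * g⁻¹ = t := by
  intro n
  induction n using Nat.strong_induction_on with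
  | _ n ih =>
  intro D hn hD htD g hg
  have big : ∀ Q : Subgroup X, Q ≤ h.top → t ∈ Q → Nat.card D < Nat.card Q → ∀ k : X,
      (∀ q ∈ Q, k * q * k⁻¹ ∈ h.top) → k * t * k⁻¹ = t := by
    intro Q hQ htQ hlt k hk
    have := Subgroup.card_le_of_le hQ
    exact ih (Nat.card h.top - Nat.card Q) (by omega) Q le_rfl hQ htQ k hk
  -- conjugations inside the normaliser of a subgroup with maximal normaliser
  have inner : ∀ E : Subgroup X, E ≤ h.top → t ∈ E → Nat.card E = Nat.card D →
      IsSylIn 2 (h.top ⊓ Subgroup.normalizer (E : Set X)) (Subgroup.normalizer (E : Set X)) →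
      ∀ x ∈ Subgroup.normalizer (E : Set X), x * t * x⁻¹ = t := by
    intro E hE htE hcard hsyl x hx
    let T : Subgroup X := h.top ⊓ Subgroup.centralizer (E : Set X)
    by_cases hT : T ≤ E
    · exact h.fixed_centric hE htE hT hsyl hx
    let R : Subgroup X := E ⊔ T
    have hlt : Nat.card E < Nat.card R := by
      rcases (Subgroup.card_le_of_le (le_sup_left : E ≤ R)).lt_or_eq with e | e
      · exact e
      · have := Subgroup.eq_of_le_of_card_ge (le_sup_left : E ≤ R) e.ge
        exact absurd ((le_sup_right : T ≤ R).trans this.ge) hT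
    have hRle : R ≤ h.top := sup_le hE inf_le_left
    have hC : Subgroup.centralizer (E : Set X) ≤ Subgroup.normalizer (E : Set X) :=
      fun c hc => Subgroup.mem_normalizer_iff.2 fun e => ⟨fun he => by
        rw [← Subgroup.mem_centralizer_iff.1 hc e he, mul_inv_cancel_right]; exact he,
        fun he => by
          have h1 := Subgroup.mem_centralizer_iff.1 hc _ he
          have h2 : c * e * c⁻¹ = e := by
            calc c * e * c⁻¹ = c⁻¹ * (c * (c * e * c⁻¹)) := by group
              _ = c⁻¹ * ((c * e * c⁻¹) * c) := by rw [h1]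
              _ = e := by group
          rwa [h2] at he⟩
    have hTs : IsSylIn 2 T (Subgroup.centralizer (E : Set X)) := by
      refine ⟨inf_le_right, isPGroup_of_le inf_le_left h.isPGroup_top, fun C hC2 hTC hCC => ?_⟩
      obtain ⟨b, hb, hbC⟩ := hsyl.exists_conj_le hC2 (hCC.trans hC)
      have hle : C.map (MulAut.conj b).toMonoidHom ≤ T := by
        rintro _ ⟨c, hc, rfl⟩
        refine ⟨(hbC c hc).1, Subgroup.mem_centralizer_iff.2 fun e he => ?_⟩
        have he' : b⁻¹ * e * b ∈ E := (Subgroup.mem_normalizer_iff''.1 hb e).1 he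
        have h1 := Subgroup.mem_centralizer_iff.1 (hCC hc) _ he'
        show e * (b * c * b⁻¹) = b * c * b⁻¹ * e
        calc e * (b * c * b⁻¹) = b * ((b⁻¹ * e * b) * c) * b⁻¹ := by group
          _ = b * (c * (b⁻¹ * e * b)) * b⁻¹ := by rw [h1]
          _ = b * c * b⁻¹ * e := by group
      have := Subgroup.card_le_of_le hle
      rw [Subgroup.card_map_of_injective (MulAut.conj b).injective] at this
      exact (Subgroup.eq_of_le_of_card_ge hTC this).symm
    -- Frattini
    have hxT : T.map (MulAut.conj x).toMonoidHom ≤ Subgroup.centralizer (E : Set X) := by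
      rintro _ ⟨c, hc, rfl⟩
      refine Subgroup.mem_centralizer_iff.2 fun e he => ?_
      have he' : x⁻¹ * e * x ∈ E := (Subgroup.mem_normalizer_iff''.1 hx e).1 he
      have h1 := Subgroup.mem_centralizer_iff.1 hc.2 _ he'
      show e * (x * c * x⁻¹) = x * c * x⁻¹ * e
      calc e * (x * c * x⁻¹) = x * ((x⁻¹ * e * x) * c) * x⁻¹ := by group
        _ = x * (c * (x⁻¹ * e * x)) * x⁻¹ := by rw [h1]
        _ = x * c * x⁻¹ * e := by group
    obtain ⟨c, hc, hcT⟩ := hTs.exists_conj_le (hTs.2.1.map _) hxT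
    have hy : ∀ r ∈ R, c * x * r * (c * x)⁻¹ ∈ h.top := by
      have hle : R ≤ h.top.comap (MulAut.conj (c * x)).toMonoidHom := by
        refine sup_le (fun e he => ?_) fun u hu => ?_
        · exact hE ((Subgroup.mem_normalizer_iff.1 (Subgroup.mul_mem _ (hC hc) hx) e).1 he)
        · have := (hcT _ ⟨u, hu, rfl⟩).1
          show c * x * u * (c * x)⁻¹ ∈ h.top
          rw [show c * x * u * (c * x)⁻¹ = c * (x * u * x⁻¹) * c⁻¹ by group]
          exact this
      exact fun r hr => hle hr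
    have h1 := big R hRle (Subgroup.mem_sup_left htE) (hcard ▸ hlt) (c * x) hy
    have h2 : c * t = t * c := (Subgroup.mem_centralizer_iff.1 hc t htE).symm
    calc x * t * x⁻¹ = c⁻¹ * (c * x * t * (c * x)⁻¹) * c := by group
      _ = c⁻¹ * (t * c) := by rw [h1, mul_assoc]
      _ = t := by rw [← h2]; group
  rcases eq_or_ne D h.top with rfl | hne
  · refine inner _ le_rfl htD rfl ?_ g ?_
    · rw [inf_eq_left.2 Subgroup.le_normalizer]
      exact ⟨Subgroup.le_normalizer, h.isPGroup_top,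
        fun C hC hle _ => h.isSylIn_top.2.2 C hC hle le_top⟩
    · rw [Subgroup.mem_normalizer_iff_map_conj_eq]
      refine Subgroup.eq_of_le_of_card_ge ?_
        (Subgroup.card_map_of_injective (MulAut.conj g).injective).ge
      rintro _ ⟨d, hd, rfl⟩
      exact hg d hd
  have hlt : D < h.top := lt_of_le_of_ne hD hne
  let D' : Subgroup X := D.map (MulAut.conj g).toMonoidHom
  have hD' : D' ≤ h.top := by rintro _ ⟨d, hd, rfl⟩; exact hg d hd
  have hD'c : Nat.card D' = Nat.card D :=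
    Subgroup.card_map_of_injective (MulAut.conj g).injective
  have hD'lt : D' < h.top := lt_of_le_of_ne hD' fun e => by
    have := Subgroup.eq_of_le_of_card_ge hlt.le (by rw [← hD'c, e])
    exact hne this
  -- a conjugate with maximal normaliser
  obtain ⟨R, hR, hRs⟩ := exists_isSylIn_of_isPGroup (p := 2)
    (isPGroup_of_le inf_le_left h.isPGroup_top)
    (inf_le_right : h.top ⊓ Subgroup.normalizer (D : Set X) ≤ Subgroup.normalizer (D : Set X))
  obtain ⟨a, -, ha⟩ := h.isSylIn_top.exists_conj_le hRs.2.1 le_top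
  let E : Subgroup X := D.map (MulAut.conj a).toMonoidHom
  have hEle : E ≤ h.top := by
    rintro _ ⟨d, hd, rfl⟩
    exact ha d (hR ⟨hD hd, Subgroup.le_normalizer hd⟩)
  have hEc : Nat.card E = Nat.card D := Subgroup.card_map_of_injective (MulAut.conj a).injective
  have hEs : IsSylIn 2 (h.top ⊓ Subgroup.normalizer (E : Set X))
      (Subgroup.normalizer (E : Set X)) := by
    refine ⟨inf_le_right, isPGroup_of_le inf_le_left h.isPGroup_top, fun C hC hle hCN => ?_⟩
    have hnE : Subgroup.normalizer (E : Set X) =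
        (Subgroup.normalizer (D : Set X)).map (MulAut.conj a).toMonoidHom :=
      (Subgroup.map_equiv_normalizer_eq D (MulAut.conj a)).symm
    have hRC : R.map (MulAut.conj a).toMonoidHom ≤ C := by
      refine le_trans ?_ hle
      rintro _ ⟨r, hr, rfl⟩
      exact ⟨ha r hr, by rw [hnE]; exact ⟨r, hRs.1 hr, rfl⟩⟩
    let C' := C.map (MulAut.conj a⁻¹).toMonoidHom
    have hC'R : R ≤ C' := fun r hr => ⟨a * r * a⁻¹, hRC ⟨r, hr, rfl⟩, by simp [mul_assoc]⟩
    have hC'N : C' ≤ Subgroup.normalizer (D : Set X) := by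
      rintro _ ⟨c, hc, rfl⟩
      have := hCN hc
      rw [hnE] at this
      obtain ⟨d, hd, rfl⟩ := this
      simpa [mul_assoc] using hd
    have hCR : Nat.card C = Nat.card R := by
      rw [← hRs.2.2 C' (hC.map _) hC'R hC'N]
      exact (Subgroup.card_map_of_injective (MulAut.conj a⁻¹).injective).symm
    refine (Subgroup.eq_of_le_of_card_ge hle ?_).symm
    have hcm : Nat.card (R.map (MulAut.conj a).toMonoidHom) = Nat.card R :=
      Subgroup.card_map_of_injective (MulAut.conj a).injective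
    rw [hCR, ← hcm]
    refine Subgroup.card_le_of_le ?_
    rintro _ ⟨r, hr, rfl⟩
    exact ⟨ha r hr, by rw [hnE]; exact ⟨r, hRs.1 hr, rfl⟩⟩
  -- the moves
  have move : ∀ F : Subgroup X, F < h.top → Nat.card F = Nat.card D → ∀ b₀ : X,
      F.map (MulAut.conj b₀).toMonoidHom = E →
      ∃ b : X, F.map (MulAut.conj b).toMonoidHom = E ∧ b * t * b⁻¹ = t := by
    intro F hF hFc b₀ hb₀
    let Q : Subgroup X := h.top ⊓ Subgroup.normalizer (F : Set X)
    have htQ : t ∈ Q := ⟨h.t_mem, Subgroup.mem_normalizer_iff.2 fun f => ⟨fun hf => by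
        rw [← h.comm_top (hF.le hf), mul_inv_cancel_right]; exact hf, fun hf => by
        have h1 := h.comm_top (hF.le hf)
        have h2 : t * f * t⁻¹ = f := by
          calc t * f * t⁻¹ = t⁻¹ * (t * (t * f * t⁻¹)) := by group
            _ = t⁻¹ * ((t * f * t⁻¹) * t) := by rw [h1]
            _ = f := by group
        rwa [h2] at hf⟩⟩
    have hQlt : Nat.card D < Nat.card Q := by
      rw [← hFc]
      have hFQ := lt_inf_normalizer h.isPGroup_top hF
      rcases (Subgroup.card_le_of_le hFQ.le).lt_or_eq with e | e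
      · exact e
      · exact absurd (Subgroup.eq_of_le_of_card_ge hFQ.le e.ge) hFQ.ne
    have hQN : Q.map (MulAut.conj b₀).toMonoidHom ≤ Subgroup.normalizer (E : Set X) := by
      rw [← hb₀]
      exact (Subgroup.map_mono inf_le_right).trans (Subgroup.le_normalizer_map _)
    obtain ⟨n, hn, hnQ⟩ := hEs.exists_conj_le
      ((isPGroup_of_le inf_le_left h.isPGroup_top : IsPGroup 2 Q).map _) hQN
    refine ⟨n * b₀, ?_, big Q inf_le_left htQ hQlt (n * b₀) fun q hq => ?_⟩
    · conv_rhs => rw [← Subgroup.mem_normalizer_iff_map_conj_eq.1 hn, ← hb₀]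
      rw [Subgroup.map_map]
      congr 1
      ext d
      simp [mul_assoc]
    · rw [show n * b₀ * q * (n * b₀)⁻¹ = n * (b₀ * q * b₀⁻¹) * n⁻¹ by group]
      exact (hnQ _ ⟨q, hq, rfl⟩).1
  obtain ⟨a', ha', hat⟩ := move D hlt rfl a rfl
  obtain ⟨b', hb', hbt⟩ := move D' hD'lt hD'c (a * g⁻¹) (by
    show (D.map (MulAut.conj g).toMonoidHom).map (MulAut.conj (a * g⁻¹)).toMonoidHom = E
    rw [Subgroup.map_map]
    congr 1
    ext d
    simp [mul_assoc])
  have htE : t ∈ E := by rw [← hat, ← ha']; exact ⟨t, htD, rfl⟩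
  have hx : b' * g * a'⁻¹ ∈ Subgroup.normalizer (E : Set X) := by
    rw [Subgroup.mem_normalizer_iff_map_conj_eq]
    conv_lhs => rw [← ha']
    conv_rhs => rw [← hb']
    rw [Subgroup.map_map]
    show _ = (D.map (MulAut.conj g).toMonoidHom).map (MulAut.conj b').toMonoidHom
    rw [Subgroup.map_map]
    congr 1
    ext d
    simp [mul_assoc]
  have h3 := inner E hEle htE hEc hEs _ hx
  have h4 : a'⁻¹ * t * a' = t := by
    calc a'⁻¹ * t * a' = a'⁻¹ * (a' * t * a'⁻¹) * a' := by rw [hat]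
      _ = t := by group
  calc g * t * g⁻¹ = b'⁻¹ * (b' * g * (a'⁻¹ * t * a') * a'⁻¹ * a' * (b' * g)⁻¹) * b' := by
        rw [h4]; group
    _ = b'⁻¹ * (b' * g * a'⁻¹ * t * (b' * g * a'⁻¹)⁻¹) * b' := by group
    _ = b'⁻¹ * t * b' := by rw [h3]
    _ = b'⁻¹ * (b' * t * b'⁻¹) * b' := by rw [hbt]
    _ = t := by group

theorem isolated [Finite X] : Cfsg.IsIsolatedInvolution t := by
  let P : Sylow 2 X := ⟨h.top, h.isPGroup_top, fun {C} hC hle => h.isSylIn_top.2.2 C hC hle le_top⟩
  refine CfsgLib.Involutions.isolated_of_sylow P h.invol fun g hg => ?_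
  refine h.fixed (Nat.card h.top) (Subgroup.zpowers t) (Nat.sub_le _ _)
    (Subgroup.zpowers_le.2 h.t_mem) (Subgroup.mem_zpowers t) g ?_
  intro d hd
  obtain ⟨k, rfl⟩ := Subgroup.mem_zpowers_iff.1 hd
  rw [← conj_zpow]
  exact h.top.zpow_mem hg k

end CentralizedSylow

end CfsgLib.FTCons
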