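import Cfsg.Agent.Lib.FT.Interface
import Cfsg.Agent.Lib.FTCons.SylowCentralizingFusion
import Cfsg.Agent.Lib.Involutions.ZStar.Main
import Cfsg.Agent.Lib.Base.Cores

/-!
Glauberman: in a group without normal subgroups of odd order, the automorphisms fixing a Sylow
`2`-subgroup pointwise have abelian Sylow `2`-subgroups and a normal `2`-complement.

For `R ≤ S` containing all `2`-elements of its centraliser and `g` normalising `R`, the map
`φ ↦ (g⁻¹ φ g) ^ m` (`m` the odd part of `|G|`) is a homomorphism into an abelian `2`-group. The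
common kernel has odd order by the Z*-theorem.
-/

set_option autoImplicit false
set_option linter.style.haveILetI false

universe u

namespace CfsgLib.FTCons

variable {G : Type u} [Group G]

/-- `R ≤ S` contains every `2`-element of its centraliser. -/
def CentricIn (S R : Subgroup G) : Prop :=
  R ≤ S ∧ ∀ z ∈ Subgroup.centralizer (R : Set G), (∃ k : ℕ, z ^ 2 ^ k = 1) → z ∈ R

/-- The odd part of the order. -/
noncomputable def oddPart (G : Type u) [Group G] : ℕ :=
  Nat.card G / 2 ^ (Nat.card G).factorization 2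

/-- The pairs at which the obstruction is measured. -/
def ObsIndex (S : Subgroup G) : Type u :=
  {q : Subgroup G × G // CentricIn S q.1 ∧ q.2 ∈ Subgroup.normalizer (q.1 : Set G)}

section finite

variable [Finite G]

theorem oddPart_mul : 2 ^ (Nat.card G).factorization 2 * oddPart G = Nat.card G :=
  Nat.ordProj_mul_ordCompl_eq_self _ 2

theorem odd_oddPart : Odd (oddPart G) :=
  Nat.odd_iff.2 (Nat.two_dvd_ne_zero.1 (Nat.not_dvd_ordCompl Nat.prime_two Nat.card_pos.ne'))

theorem dvd_oddPart {n : ℕ} (h : n ∣ Nat.card G) (hn : Odd n) : n ∣ oddPart G := by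
  rw [← oddPart_mul (G := G)] at h
  exact (Nat.Coprime.pow_right _ ((Nat.coprime_two_right).2 hn)).dvd_of_dvd_mul_left h

theorem pow_oddPart_two (x : G) : (x ^ oddPart G) ^ 2 ^ (Nat.card G).factorization 2 = 1 := by
  rw [← pow_mul, mul_comm, oddPart_mul, pow_card_eq_one']

/-- Powering by the odd part is multiplicative on the centraliser of a centric subgroup, with
values in that subgroup. -/
theorem centric_pow {S R : Subgroup G} (hR : CentricIn S R) :
    (∀ a ∈ Subgroup.centralizer (R : Set G), ∀ b ∈ Subgroup.centralizer (R : Set G),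
      (a * b) ^ oddPart G = a ^ oddPart G * b ^ oddPart G) ∧
    ∀ a ∈ Subgroup.centralizer (R : Set G),
      a ^ oddPart G ∈ R ∧ ∀ c ∈ Subgroup.centralizer (R : Set G),
        Commute (a ^ oddPart G) c := by
  classical
  let K : Subgroup G := Subgroup.centralizer (R : Set G)
  have hmem : ∀ a ∈ K, a ^ oddPart G ∈ R := fun a ha =>
    hR.2 _ (K.pow_mem ha _) ⟨_, pow_oddPart_two a⟩
  have hcen : ∀ z : K, (∃ k : ℕ, (z : G) ^ 2 ^ k = 1) → z ∈ Subgroup.center K := by
    intro z hz
    refine Subgroup.mem_center_iff.2 fun c => Subtype.ext ?_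
    exact (Subgroup.mem_centralizer_iff.1 c.2 _ (hR.2 _ z.2 hz)).symm
  have hodd : Odd (Subgroup.center K).index := by
    rw [← Nat.not_even_iff_odd, even_iff_two_dvd]
    intro hd
    obtain ⟨T⟩ := (inferInstance : Nonempty (Sylow 2 K))
    refine T.not_dvd_index (hd.trans (Subgroup.index_dvd_of_le fun z hz => hcen z ?_))
    obtain ⟨k, hk⟩ := T.2 ⟨z, hz⟩
    exact ⟨k, by simpa using congrArg (fun w : (T : Subgroup K) => ((w : K) : G)) hk⟩
  obtain ⟨e, he⟩ : (Subgroup.center K).index ∣ oddPart G := dvd_oddPart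
    ((Subgroup.index_dvd_card _).trans (Subgroup.card_subgroup_dvd_card K)) hodd
  refine ⟨fun a ha b hb => ?_, fun a ha => ⟨hmem a ha, fun c hc =>
    (Subgroup.mem_centralizer_iff.1 hc _ (hmem a ha))⟩⟩
  let f := MonoidHom.transferCenterPow K
  have key : ∀ x : K, ((f x ^ e : Subgroup.center K) : K) = x ^ oddPart G := fun x => by
    rw [SubgroupClass.coe_pow, MonoidHom.transferCenterPow_apply, ← pow_mul, ← he]
  have h1 : f (⟨a, ha⟩ * ⟨b, hb⟩) ^ e = f ⟨a, ha⟩ ^ e * f ⟨b, hb⟩ ^ e := by
    rw [map_mul, Commute.mul_pow (Subtype.ext (Subgroup.mem_center_iff.1 (f _).2 _)) e]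
  have h2 := congrArg (fun z : Subgroup.center K => ((z : K) : G)) h1
  simp only [Subgroup.coe_mul, key, SubgroupClass.coe_pow] at h2
  exact h2

end finite

variable (S : Subgroup G)

/-- The obstruction attached to an automorphism. -/
noncomputable def obs (φ : MulAut G) : ObsIndex S → G :=
  fun i => (i.1.2⁻¹ * φ i.1.2) ^ oddPart G

variable {S}

theorem obs_mem_centralizer {φ : MulAut G} (hφ : ∀ s ∈ S, φ s = s) (i : ObsIndex S) :
    i.1.2⁻¹ * φ i.1.2 ∈ Subgroup.centralizer (i.1.1 : Set G) := by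
  refine Subgroup.mem_centralizer_iff.2 fun r hr => ?_
  have h1 : i.1.2 * r * i.1.2⁻¹ ∈ i.1.1 := (Subgroup.mem_normalizer_iff.1 i.2.2 r).1 hr
  have h2 : φ i.1.2 * r * (φ i.1.2)⁻¹ = i.1.2 * r * i.1.2⁻¹ := by
    have := hφ _ (i.2.1.1 h1)
    rwa [map_mul, map_mul, map_inv, hφ r (i.2.1.1 hr)] at this
  calc r * (i.1.2⁻¹ * φ i.1.2) = i.1.2⁻¹ * (i.1.2 * r * i.1.2⁻¹) * φ i.1.2 := by group
    _ = i.1.2⁻¹ * (φ i.1.2 * r * (φ i.1.2)⁻¹) * φ i.1.2 := by rw [h2]
    _ = i.1.2⁻¹ * φ i.1.2 * r := by group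

theorem obs_mul [Finite G] {φ ψ : MulAut G} (hφ : ∀ s ∈ S, φ s = s) (hψ : ∀ s ∈ S, ψ s = s) :
    obs S (φ * ψ) = obs S φ * obs S ψ := by
  funext i
  obtain ⟨hmul, hpow⟩ := centric_pow i.2.1
  have ha := obs_mem_centralizer hφ i
  have hb := obs_mem_centralizer hψ i
  have hb' : φ (i.1.2⁻¹ * ψ i.1.2) ∈ Subgroup.centralizer (i.1.1 : Set G) := by
    refine Subgroup.mem_centralizer_iff.2 fun r hr => ?_
    have := congrArg φ (Subgroup.mem_centralizer_iff.1 hb r hr)
    rwa [map_mul φ r, map_mul φ _ r, hφ r (i.2.1.1 hr)] at this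
  have e : i.1.2⁻¹ * (φ * ψ) i.1.2 = (i.1.2⁻¹ * φ i.1.2) * φ (i.1.2⁻¹ * ψ i.1.2) := by
    rw [MulAut.mul_apply, map_mul, map_inv]
    group
  simp only [obs, Pi.mul_apply]
  rw [e, hmul _ ha _ hb', ← map_pow, hφ _ (i.2.1.1 (hpow _ hb).1)]

theorem obs_comm [Finite G] {φ ψ : MulAut G} (hφ : ∀ s ∈ S, φ s = s) (hψ : ∀ s ∈ S, ψ s = s) :
    obs S φ * obs S ψ = obs S ψ * obs S φ := by
  funext i
  obtain ⟨-, hpow⟩ := centric_pow i.2.1
  exact (hpow _ (obs_mem_centralizer hφ i)).2 _ (Subgroup.pow_mem _ (obs_mem_centralizer hψ i) _)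

/-- An involution without obstruction is trivial. -/
theorem eq_one_of_obs_eq_one [Finite G]
    (hO : ∀ N : Subgroup G, N.Normal → Odd (Nat.card N) → N = ⊥) (S : Sylow 2 G)
    (φ : MulAut G) (hfix : ∀ s ∈ (S : Subgroup G), φ s = s) (hobs : obs (S : Subgroup G) φ = 1) :
    orderOf φ ≠ 2 := by
  classical
  intro hord
  let X := G ⋊[(Subgroup.zpowers φ).subtype] (Subgroup.zpowers φ)
  haveI : Finite X := Finite.of_equiv _ SemidirectProduct.equivProd.symm
  let t : X := SemidirectProduct.inr ⟨φ, Subgroup.mem_zpowers φ⟩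
  let ι : G →* X := SemidirectProduct.inl
  let N : Subgroup X := ι.range
  have hN : N = (SemidirectProduct.rightHom : X →* Subgroup.zpowers φ).ker :=
    SemidirectProduct.range_inl_eq_ker_rightHom
  haveI hNn : N.Normal := by rw [hN]; infer_instance
  have htw : ∀ g : G, t * ι g * t = ι (φ g) := by
    intro g
    have h1 := SemidirectProduct.inl_aut (φ := (Subgroup.zpowers φ).subtype)
      ⟨φ, Subgroup.mem_zpowers φ⟩ g
    have hinv : (⟨φ, Subgroup.mem_zpowers φ⟩ : Subgroup.zpowers φ)⁻¹ =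
        ⟨φ, Subgroup.mem_zpowers φ⟩ := by
      refine inv_eq_of_mul_eq_one_right (Subtype.ext ?_)
      show φ * φ = 1
      rw [← pow_two, ← hord, pow_orderOf_eq_one]
    rw [hinv] at h1
    exact h1.symm
  have htord : orderOf t = 2 := by
    rw [orderOf_injective _ SemidirectProduct.inr_injective]
    rw [← Subgroup.orderOf_coe]
    exact hord
  have htN : t ∉ N := by
    rw [hN, MonoidHom.mem_ker, SemidirectProduct.rightHom_inr]
    intro e
    have e' : φ = 1 := congrArg Subtype.val e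
    rw [e', orderOf_one] at hord
    exact absurd hord (by norm_num)
  have hcs : CentralizedSylow N ((S : Subgroup G).map ι) t := by
    refine ⟨Subgroup.map_le_range _ _, S.2.map _, fun C hC hle hCN => ?_, hNn, htord, htN,
      fun x => ?_, ?_, ?_⟩
    · have h1 : C.comap ι = S := S.3 (hC.comap_of_injective ι SemidirectProduct.inl_injective)
        (fun s hs => hle ⟨s, hs, rfl⟩)
      rw [← h1, Subgroup.map_comap_eq_self hCN]
    · rw [hN, MonoidHom.mem_ker, MonoidHom.mem_ker, map_mul, SemidirectProduct.rightHom_inr]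
      obtain ⟨k, hk⟩ := Subgroup.mem_zpowers_iff.1 ((SemidirectProduct.rightHom x) : _).2
      rcases Int.even_or_odd k with ⟨j, rfl⟩ | ⟨j, rfl⟩
      · refine Or.inl (Subtype.ext ?_)
        rw [← hk, ← two_mul, zpow_mul, zpow_ofNat, ← hord, pow_orderOf_eq_one, one_zpow]
        rfl
      · refine Or.inr (Subtype.ext ?_)
        show _ * φ = 1
        rw [← hk, zpow_add, zpow_mul, zpow_ofNat, ← hord, pow_orderOf_eq_one, one_zpow, one_mul,
          zpow_one, ← pow_two, ← hord, pow_orderOf_eq_one]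
    · rintro _ ⟨s, hs, rfl⟩
      have h1 := htw s
      rw [hfix s hs] at h1
      have ht2 : t * t = 1 := by rw [← pow_two, ← htord, pow_orderOf_eq_one]
      calc ι s * t = t * ι s * t * t := by rw [h1]
        _ = t * ι s := by rw [mul_assoc, ht2, mul_one]
    · intro R hR hcen g hg hgn
      obtain ⟨g₀, rfl⟩ := hg
      let R₀ : Subgroup G := R.comap ι
      have hR₀S : R₀ ≤ (S : Subgroup G) := fun r hr => by
        obtain ⟨s, hs, he⟩ := hR hr
        rwa [← SemidirectProduct.inl_injective he]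
      have hmap : ∀ x ∈ R, ∃ r ∈ R₀, ι r = x := fun x hx => by
        obtain ⟨s, hs, rfl⟩ := hR hx
        exact ⟨s, hx, rfl⟩
      have hc : CentricIn (S : Subgroup G) R₀ := by
        refine ⟨hR₀S, fun z hz hz2 => ?_⟩
        refine hcen (ι z) ⟨z, rfl⟩ (Subgroup.mem_centralizer_iff.2 fun x hx => ?_) ?_
        · obtain ⟨r, hr, rfl⟩ := hmap x hx
          rw [← map_mul, ← map_mul, Subgroup.mem_centralizer_iff.1 hz r hr]
        · obtain ⟨k, hk⟩ := hz2
          exact ⟨k, by rw [← map_pow, hk, map_one]⟩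
      have hn : g₀ ∈ Subgroup.normalizer (R₀ : Set G) := by
        refine Subgroup.mem_normalizer_iff.2 fun r => ?_
        simp only [R₀, Subgroup.mem_comap, map_mul, map_inv]
        exact Subgroup.mem_normalizer_iff.1 hgn (ι r)
      have h1 : (g₀⁻¹ * φ g₀) ^ oddPart G = 1 := congrFun hobs ⟨(R₀, g₀), hc, hn⟩
      rw [htw, ← map_inv, ← map_mul, orderOf_injective ι SemidirectProduct.inl_injective]
      exact odd_oddPart.of_dvd_nat (orderOf_dvd_of_pow_eq_one h1)
  have hiso := hcs.isolated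
  have hle : Cfsg.oddCore X ≤ N := by
    intro x hx
    rw [hN, MonoidHom.mem_ker, ← orderOf_eq_one_iff]
    have h1 : orderOf (SemidirectProduct.rightHom x) ∣ Nat.card (Cfsg.oddCore X) := by
      refine (orderOf_map_dvd _ x).trans ?_
      rw [← Subgroup.orderOf_mk x hx]
      exact orderOf_dvd_natCard _
    have h2 : orderOf (SemidirectProduct.rightHom x) ∣ 2 := by
      have := orderOf_dvd_natCard (SemidirectProduct.rightHom x : Subgroup.zpowers φ)
      rwa [Nat.card_zpowers, hord] at this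
    rcases (Nat.dvd_prime Nat.prime_two).1 h2 with e | e
    · exact e
    · rw [e] at h1
      exact absurd (even_iff_two_dvd.2 h1)
        (Nat.not_even_iff_odd.2 (CfsgLib.Base.odd_card_oddCore X))
  have hOX : Cfsg.oddCore X = ⊥ := by
    haveI : (Cfsg.oddCore X).Normal := Cfsg.pPrimeCore_normal 2 X
    have hmap : ((Cfsg.oddCore X).comap ι).map ι = Cfsg.oddCore X :=
      Subgroup.map_comap_eq_self hle
    have hcard : Nat.card ((Cfsg.oddCore X).comap ι) = Nat.card (Cfsg.oddCore X) := by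
      conv_rhs => rw [← hmap]
      exact (Subgroup.card_map_of_injective SemidirectProduct.inl_injective).symm
    have hbot := hO ((Cfsg.oddCore X).comap ι) inferInstance
      (hcard ▸ CfsgLib.Base.odd_card_oddCore X)
    rw [← hmap, hbot, Subgroup.map_bot]
  have hcen := CfsgLib.Involutions.ZStar.mem_center_of_oddCore_eq_bot hiso hOX
  have h1 : φ = 1 := MulEquiv.ext fun g => SemidirectProduct.inl_injective
    (φ := (Subgroup.zpowers φ).subtype) (by
      show ι (φ g) = ι ((1 : MulAut G) g)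
      rw [← htw, ← Subgroup.mem_center_iff.1 hcen (ι g), mul_assoc, hcs.mul_self, mul_one]
      rfl)
  rw [h1, orderOf_one] at hord
  exact absurd hord (by norm_num)

/-- **Glauberman**: automorphisms fixing a Sylow `2`-subgroup pointwise, when `O(G) = 1`. -/
theorem sylowCentralizing (hFT : CfsgLib.FT.OddOrderThm.{u}) [Finite G]
    (hO : ∀ N : Subgroup G, N.Normal → Odd (Nat.card N) → N = ⊥) (S : Sylow 2 G)
    (C : Subgroup (MulAut G)) (hC : ∀ φ : MulAut G, φ ∈ C ↔ ∀ s : G, s ∈ S → φ s = s) :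
    (∀ T : Sylow 2 ↥C, (∀ a b : ↥T, a * b = b * a) ∧
      ∃ N : Subgroup ↥C, N.Normal ∧ Subgroup.IsComplement' N (T : Subgroup ↥C)) ∧
    Group.IsSolvable ↥C := by
  classical
  have hfix : ∀ φ : C, ∀ s ∈ (S : Subgroup G), (φ : MulAut G) s = s := fun φ => (hC _).1 φ.2
  let F : C →* (ObsIndex (S : Subgroup G) → G) :=
    { toFun := fun φ => obs (S : Subgroup G) φ
      map_one' := by funext i; simp [obs]
      map_mul' := fun φ ψ => obs_mul (hfix φ) (hfix ψ) }
  have hcomm : ∀ φ ψ : C, F φ * F ψ = F ψ * F φ := fun φ ψ => obs_comm (hfix φ) (hfix ψ)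
  have hoddK : Odd (Nat.card F.ker) := by
    rw [← Nat.not_even_iff_odd, even_iff_two_dvd]
    intro hd
    obtain ⟨⟨φ, hφ⟩, hord⟩ := exists_prime_orderOf_dvd_card' 2 hd
    refine eq_one_of_obs_eq_one hO S (φ : MulAut G) (hfix φ) hφ ?_
    rwa [Subgroup.orderOf_coe, ← Subgroup.orderOf_mk φ hφ]
  have h2R : IsPGroup 2 F.range := by
    rintro ⟨_, φ, rfl⟩
    refine ⟨(Nat.card G).factorization 2, Subtype.ext (funext fun i => ?_)⟩
    exact pow_oddPart_two _
  haveI : Finite F.range := Finite.of_surjective F.rangeRestrict F.rangeRestrict_surjective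
  obtain ⟨m, hm⟩ := IsPGroup.iff_card.1 h2R
  refine ⟨fun T => ?_, ?_⟩
  · have hdisj : F.ker ⊓ (T : Subgroup C) = ⊥ := by
      refine Subgroup.inf_eq_bot_of_coprime ?_
      obtain ⟨k, hk⟩ := IsPGroup.iff_card.1 T.2
      rw [hk]
      exact Nat.Coprime.pow_right _ (Nat.coprime_two_right.2 hoddK)
    refine ⟨fun a b => ?_, F.ker, inferInstance, ?_⟩
    · have h1 : ((a : C) * b) * ((b : C) * a)⁻¹ ∈ F.ker ⊓ (T : Subgroup C) := by
        refine ⟨?_, Subgroup.mul_mem _ (Subgroup.mul_mem _ a.2 b.2)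
          (Subgroup.inv_mem _ (Subgroup.mul_mem _ b.2 a.2))⟩
        show _ ∈ F.ker
        rw [MonoidHom.mem_ker, map_mul, map_inv, map_mul, map_mul, hcomm, mul_inv_cancel]
      rw [hdisj, Subgroup.mem_bot, mul_inv_eq_one] at h1
      exact Subtype.ext h1
    · refine Subgroup.isComplement'_of_card_mul_and_disjoint ?_ (disjoint_iff.2 hdisj)
      have hC' : Nat.card C = Nat.card F.ker * 2 ^ m := by
        rw [← hm, ← Subgroup.index_ker F, Subgroup.card_mul_index]
      have hf : (Nat.card C).factorization 2 = m := by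
        rw [hC', Nat.factorization_mul Nat.card_pos.ne' (pow_ne_zero _ two_ne_zero),
          Finsupp.add_apply, Nat.factorization_eq_zero_of_not_dvd
            (Nat.two_dvd_ne_zero.2 (Nat.odd_iff.1 hoddK)), zero_add,
          Nat.Prime.factorization_pow Nat.prime_two, Finsupp.single_eq_same]
      rw [T.card_eq_multiplicity, hf, hC']
  · haveI : Group.IsSolvable F.ker := hFT _ hoddK
    haveI : Group.IsSolvable F.range := isSolvable_of_comm fun x y => by
      obtain ⟨_, a, rfl⟩ := x
      obtain ⟨_, b, rfl⟩ := y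
      exact Subtype.ext (hcomm a b)
    exact solvable_of_ker_le_range F.ker.subtype F.rangeRestrict (by simp)

end CfsgLib.FTCons
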