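import Cfsg.Agent.Lib.Components.SchreierBalance
import Cfsg.Agent.Lib.Components.ExtendedLayer
import Cfsg.Agent.Lib.FTCons.SylowCentralizing
import Cfsg.Agent.Lib.FT.OddOrderTheorem

/-!
# `L`-balance for the prime two

The `2`-layer of the centraliser of a `2`-subgroup `T` lies in the `2`-layer of the group. We induct
downwards on `T`: either some element outside `T` of a `T`-invariant Sylow `2`-subgroup of `F*`
normalises `T`, or a `2`-component of `C(T)` centralises that Sylow subgroup, and Glauberman's theorem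
on automorphisms fixing a Sylow `2`-subgroup replaces the Schreier property.
-/

set_option autoImplicit false
set_option linter.style.haveILetI false
set_option linter.unusedSectionVars false

open scoped commutatorElement Pointwise

namespace CfsgLib.LBalance

open Cfsg Subgroup CfsgLib.Base CfsgLib.Components

universe u

variable {X : Type u} [Group X] [Finite X]

/-- A perfect subgroup of `A ⊔ B`, `A` normal and `B` solvable, lies in `A`. -/
theorem le_of_perfect_of_le_sup {K A B : Subgroup X} [A.Normal] (hK : ⁅K, K⁆ = K)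
    (hB : Group.IsSolvable ↥B) (h : K ≤ A ⊔ B) : K ≤ A := by
  haveI := hB
  have hmem : ∀ k : K, QuotientGroup.mk' A k ∈ B.map (QuotientGroup.mk' A) := fun k => by
    obtain ⟨a, ha, b, hb, hab⟩ := mem_sup_of_normal_left.1 (h k.2)
    refine ⟨b, hb, ?_⟩
    rw [← hab, map_mul, show QuotientGroup.mk' A a = 1 from (QuotientGroup.eq_one_iff a).2 ha,
      one_mul]
  haveI : Group.IsSolvable ↥(B.map (QuotientGroup.mk' A)) :=
    Group.isSolvable_of_surjective ((QuotientGroup.mk' A).subgroupMap_surjective _)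
  have hKp : commutator K = ⊤ := by
    rw [eq_top_iff, ← map_le_map_iff_of_injective K.subtype_injective, _root_.commutator_def,
      map_commutator, ← MonoidHom.range_eq_map, range_subtype, hK]
  have hone := perfect_hom_to_solvable hKp
    (((QuotientGroup.mk' A).comp K.subtype).codRestrict _ hmem)
  intro k hk
  have h1 := congrArg Subtype.val (DFunLike.congr_fun hone ⟨k, hk⟩)
  exact (QuotientGroup.eq_one_iff k).1 h1

theorem isSolvable_oddCore (G : Type u) [Group G] [Finite G] :
    Group.IsSolvable ↥(pPrimeCore 2 G) :=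
  CfsgLib.FT.isSolvable_of_odd (odd_card_oddCore G)

/-- A perfect group acting on a non-abelian simple group and fixing a Sylow `2`-subgroup pointwise
acts trivially. -/
theorem hom_eq_one_of_fixes_sylow {Q : Type u} [Group Q] [Finite Q] [IsSimpleGroup Q]
    (hna : ¬ Group.IsSolvable Q) {K : Subgroup X} (hK : ⁅K, K⁆ = K) (β : K →* MulAut Q)
    (S : Sylow 2 Q) (hfix : ∀ (k : K) (s : Q), s ∈ S → β k s = s) : β = 1 := by
  have hodd : ∀ N : Subgroup Q, N.Normal → Odd (Nat.card N) → N = ⊥ := by
    intro N hN hNodd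
    rcases hN.eq_bot_or_eq_top with h | h
    · exact h
    · subst h
      rw [Subgroup.card_top] at hNodd
      exact absurd (CfsgLib.FT.isSolvable_of_odd hNodd) hna
  let C : Subgroup (MulAut Q) :=
    { carrier := {φ | ∀ s : Q, s ∈ S → φ s = s}
      mul_mem' := fun {a b} ha hb s hs => by rw [MulAut.mul_apply, hb s hs, ha s hs]
      one_mem' := fun s _ => rfl
      inv_mem' := fun {a} ha s hs => by
        conv_lhs => rw [← ha s hs]
        exact MulAut.inv_apply_self _ _ s }
  haveI hCs : Group.IsSolvable C :=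
    (CfsgLib.FTCons.sylowCentralizing CfsgLib.FT.oddOrderThm hodd S C (fun _ => Iff.rfl)).2
  have hKp : commutator K = ⊤ := by
    rw [eq_top_iff, ← map_le_map_iff_of_injective K.subtype_injective, _root_.commutator_def,
      map_commutator, ← MonoidHom.range_eq_map, range_subtype, hK]
  have hone := perfect_hom_to_solvable hKp (β.codRestrict C fun k => hfix k)
  refine MonoidHom.ext fun k => ?_
  exact congrArg Subtype.val (DFunLike.congr_fun hone k)

/-- A perfect subgroup fixing a Sylow `2`-subgroup of a component pointwise centralises it. -/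
theorem le_centralizer_component (hO : pPrimeCore 2 X = ⊥) {K L Q : Subgroup X}
    (hK : ⁅K, K⁆ = K) (hL : IsComponent L) (hQ : IsPGroup 2 Q) (hidx : ¬ 2 ∣ Q.relIndex L)
    (hc : K ≤ centralizer (Q : Set X)) (hKL : K ≤ normalizer (L : Set X)) :
    K ≤ centralizer (L : Set X) := by
  classical
  let α : K →* MulAut L := L.normalizerMonoidHom.comp (inclusion hKL)
  let β : K →* MulAut (L ⧸ center L) :=
    { toFun := fun k => QuotientGroup.congr (center L) (center L) (α k)
        (characteristic_iff_map_eq.1 inferInstance (α k))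
      map_one' := by
        refine MulEquiv.ext fun v => ?_
        induction v using QuotientGroup.induction_on with | _ x => ?_
        show QuotientGroup.mk ((α 1) x) = _
        rw [map_one]; rfl
      map_mul' := fun a b => by
        refine MulEquiv.ext fun v => ?_
        induction v using QuotientGroup.induction_on with | _ x => ?_
        show QuotientGroup.mk ((α (a * b)) x) = _
        rw [map_mul]; rfl }
  set π := QuotientGroup.mk' (center L)
  let S₀ : Sylow 2 L := (hQ.comap_of_injective L.subtype L.subtype_injective).toSylow hidx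
  let S : Sylow 2 (L ⧸ center L) := S₀.mapSurjective (QuotientGroup.mk'_surjective _)
  have hfix : ∀ (k : K) (s : L ⧸ center L), s ∈ S → β k s = s := by
    intro k s hs
    obtain ⟨q, hq, rfl⟩ : s ∈ (Q.subgroupOf L).map π := hs
    show QuotientGroup.mk (α k q) = QuotientGroup.mk q
    congr 1
    apply Subtype.ext
    show (k : X) * q * (k : X)⁻¹ = q
    rw [mul_inv_eq_iff_eq_mul]
    exact (mem_centralizer_iff.1 (hc k.2) (q : X) hq).symm
  -- the simple quotient has trivial odd core
  haveI hsimple : IsSimpleGroup (L ⧸ center L) := hL.2.2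
  have hna : ¬ Group.IsSolvable (L ⧸ center L) := fun h => by
    have hz : Group.IsSolvable ↥(center L) := Group.isSolvable_of_comm fun a b =>
      Subtype.ext (mem_center_iff.1 b.2 a)
    exact quasisimple_not_isSolvable hL.2
      ((Group.isSolvable_iff_subgroup_quotient (center L)).2 ⟨hz, h⟩)
  have hone := hom_eq_one_of_fixes_sylow hna hK β S hfix
  intro k hk
  have hβ : β ⟨k, hk⟩ = 1 := by rw [hone, MonoidHom.one_apply]
  refine mem_centralizer_iff.2 fun a ha => ?_
  have hφ := eq_self_of_mod_center (hL.2.1).commutator_eq_top (α ⟨k, hk⟩) (fun b => by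
    rw [← QuotientGroup.eq_one_iff, QuotientGroup.mk_mul, QuotientGroup.mk_inv, mul_inv_eq_one]
    exact DFunLike.congr_fun hβ (QuotientGroup.mk b)) ⟨a, ha⟩
  have h1 : k * a * k⁻¹ = a := congrArg Subtype.val hφ
  exact (mul_inv_eq_iff_eq_mul.1 h1).symm

/-- A perfect subgroup centralising a Sylow `2`-subgroup of `F*(X)` is trivial. -/
theorem eq_bot_of_centralizes_sylow (hO : pPrimeCore 2 X = ⊥) (S : Sylow 2 X) {K : Subgroup X}
    (hK : ⁅K, K⁆ = K)
    (hc : K ≤ centralizer (((S : Subgroup X) ⊓ generalizedFittingSubgroup X : Subgroup X) : Set X)) :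
    K = ⊥ := by
  have hfit : fittingSubgroup X = pCore 2 X := fittingSubgroup_eq_pCore_of_pPrimeCore_eq_bot hO
  have hcore : K ≤ centralizer (pCore 2 X : Set X) :=
    hc.trans (centralizer_le (le_inf (pCore_le_sylow S) (hfit ▸ fitting_le_fstar)))
  have hlay : ∀ L : Subgroup X, IsComponent L → K ≤ centralizer (L : Set X) := by
    intro L hL
    have hidx : ¬ 2 ∣ (S : Subgroup X).relIndex L := not_dvd_relIndex_of_isSubnormal S hL.1
    have hQ : IsPGroup 2 ↥((S : Subgroup X) ⊓ L) := S.isPGroup'.to_le inf_le_left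
    have hidx' : ¬ 2 ∣ ((S : Subgroup X) ⊓ L).relIndex L := by rwa [inf_relIndex_right]
    have hKQ : K ≤ centralizer (((S : Subgroup X) ⊓ L : Subgroup X) : Set X) :=
      hc.trans (centralizer_le (le_inf inf_le_left
        (inf_le_right.trans ((component_le_layer hL).trans layer_le_fstar))))
    refine le_centralizer_component hO hK hL hQ hidx' hKQ fun k hk => ?_
    refine mem_normalizer_iff_map_conj_eq.2 ?_
    by_contra hne
    have hcom := components_commute hL (isComponent_conj hL k) (Ne.symm hne)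
    rw [commutator_eq_bot_iff_le_centralizer] at hcom
    apply component_sylow_not_central hO hL hQ hidx'
    intro q hq
    have hq' : q ∈ L.map (MulAut.conj k).toMonoidHom := by
      refine ⟨q, hq.2, ?_⟩
      show k * q * k⁻¹ = q
      rw [mul_inv_eq_iff_eq_mul]
      exact (mem_centralizer_iff.1 (hKQ hk) q hq.1).symm
    exact mem_centralizer_iff.2 fun l hl => (mem_centralizer_iff.1 (hcom hl) q hq').symm
  have hF : K ≤ centralizer (generalizedFittingSubgroup X : Set X) := by
    intro k hk
    refine mem_centralizer_iff.2 fun a ha => mem_centralizer_singleton_iff.1 ?_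
    refine (sup_le (layer_le_iff.2 fun L hL b hb => ?_) (fun b hb => ?_) :
      generalizedFittingSubgroup X ≤ centralizer ({k} : Set X)) ha
    · exact mem_centralizer_singleton_iff.2 (mem_centralizer_iff.1 (hlay L hL hk) b hb)
    · exact mem_centralizer_singleton_iff.2 (mem_centralizer_iff.1 (hcore hk) b (hfit ▸ hb))
  have h1 : K ≤ fittingSubgroup X := hF.trans centralizer_fstar_le_fitting
  haveI := isSolvable_fitting (G := X)
  exact le_bot_iff.1 (le_of_perfect_of_le_sup hK this (h1.trans le_sup_right))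

/-- Every element of `C(T)` is stable under conjugation by the normaliser of `T`. -/
theorem le_normalizer_centralizer (T : Subgroup X) :
    normalizer (T : Set X) ≤ normalizer (centralizer (T : Set X) : Set X) :=
  (le_normalizer_of_normal_subgroupOf (hK := normal_subgroupOf_centralizer_normalizer _)
    (centralizer_le_normalizer _))

/-- A `2`-element normalising an odd order normal subgroup fixes a point in each coset it stabilises. -/
theorem exists_fixed_in_coset {x k : X} {O : Subgroup X} (hx : IsPGroup 2 (zpowers x))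
    (hxO : x ∈ normalizer (O : Set X)) (hodd : ¬ 2 ∣ Nat.card O) (hk : k⁻¹ * (x * k * x⁻¹) ∈ O) :
    ∃ o ∈ O, x * (k * o) * x⁻¹ = k * o := by
  classical
  set A := zpowers x
  let Ω : Set X := (fun o => k * o) '' (O : Set X)
  have hstab : ∀ z ∈ Ω, x * z * x⁻¹ ∈ Ω := by
    rintro _ ⟨o, ho, rfl⟩
    refine ⟨k⁻¹ * (x * k * x⁻¹) * (x * o * x⁻¹), mul_mem hk ((mem_normalizer_iff.1 hxO o).1 ho), ?_⟩
    group
  let e : X ≃ X := (MulAut.conj x).toEquiv
  have hΩ : ∀ z, e z ∈ Ω ↔ z ∈ Ω := by
    intro z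
    have himg : e '' Ω = Ω := by
      refine Set.eq_of_subset_of_ncard_le ?_ ?_ (Set.toFinite _)
      · rintro _ ⟨z, hz, rfl⟩
        exact hstab z hz
      · rw [Set.ncard_image_of_injective _ e.injective]
    constructor
    · intro h
      obtain ⟨w, hw, hwz⟩ := himg.symm ▸ h
      exact e.injective hwz ▸ hw
    · exact hstab z
  have hAΩ : ∀ a ∈ A, ∀ z ∈ Ω, a * z * a⁻¹ ∈ Ω := by
    intro a ha
    have hset : A ≤ normalizer Ω := zpowers_le.2 (show x ∈ normalizer Ω from mem_set_normalizer_iff.2 fun z => (hΩ z).symm)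
    exact fun z hz => (mem_set_normalizer_iff.1 (hset ha) z).1 hz
  letI : MulAction A Ω :=
    { smul := fun a z => ⟨(a : X) * z * (a : X)⁻¹, hAΩ a a.2 z z.2⟩
      one_smul := fun z => Subtype.ext (by show (1 : X) * z * (1 : X)⁻¹ = z; group)
      mul_smul := fun a b z => Subtype.ext (by
        show ((a : X) * b) * z * ((a : X) * b)⁻¹ = (a : X) * ((b : X) * z * (b : X)⁻¹) * (a : X)⁻¹
        group) }
  have hcard : Nat.card Ω = Nat.card O :=
    Nat.card_image_of_injective (mul_right_injective k) _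
  obtain ⟨⟨_, o, ho, rfl⟩, hz⟩ := hx.nonempty_fixed_point_of_prime_not_dvd_card (α := Ω)
    (hcard ▸ hodd)
  exact ⟨o, ho, congrArg Subtype.val (hz ⟨x, mem_zpowers x⟩)⟩

/-- The key step: modulo nothing, `O(X) = 1`. -/
theorem le_layer (hO : pPrimeCore 2 X = ⊥) (T : Subgroup X) (hT : IsPGroup 2 T)
    (K : Subgroup ↥(centralizer (T : Set X))) (hKs : K.IsSubnormal) (hKp : ⁅K, K⁆ = K)
    (hKc : K.map (QuotientGroup.mk' (pPrimeCore 2 ↥(centralizer (T : Set X)))) = ⊥ ∨
      IsComponent (K.map (QuotientGroup.mk' (pPrimeCore 2 ↥(centralizer (T : Set X)))))) :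
    K.map (centralizer (T : Set X)).subtype ≤ layer X := by
  suffices H : ∀ (n : ℕ) (T : Subgroup X), IsPGroup 2 T → Nat.card X - Nat.card T = n →
      ∀ K : Subgroup ↥(centralizer (T : Set X)), K.IsSubnormal → ⁅K, K⁆ = K →
        (K.map (QuotientGroup.mk' (pPrimeCore 2 ↥(centralizer (T : Set X)))) = ⊥ ∨
          IsComponent (K.map (QuotientGroup.mk' (pPrimeCore 2 ↥(centralizer (T : Set X)))))) →
        K.map (centralizer (T : Set X)).subtype ≤ layer X from H _ T hT rfl K hKs hKp hKc
  clear hKc hKp hKs K hT T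
  intro n
  induction n using Nat.strong_induction_on with
  | _ n ih =>
  intro T hT hn
  subst hn
  set C := centralizer (T : Set X) with hCdef
  intro K hKs hKp hKc
  set O := pPrimeCore 2 ↥C with hOdef
  set f := QuotientGroup.mk' O with hf
  haveI hOn : O.Normal := inferInstance
  have hOs : Group.IsSolvable ↥O := isSolvable_oddCore _
  haveI := layer_normal (G := X)
  -- trivial image
  rcases hKc with hbot | hcomp
  · have h : K ≤ (⊥ : Subgroup ↥C) :=
      le_of_perfect_of_le_sup hKp hOs ((map_mk'_eq_bot_iff.1 hbot).trans le_sup_right)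
    rw [le_bot_iff.1 h, Subgroup.map_bot]
    exact bot_le
  set N := generalizedFittingSubgroup X with hNdef
  have hfit : fittingSubgroup X = pCore 2 X := fittingSubgroup_eq_pCore_of_pPrimeCore_eq_bot hO
  haveI hNn : N.Normal := Subgroup.sup_normal _ _
  haveI hNC : (N.subgroupOf C).Normal := inferInstance
  have hKXp : ⁅K.map C.subtype, K.map C.subtype⁆ = K.map C.subtype := by
    rw [← map_commutator, hKp]
  -- inside `F*`
  by_cases hle : K.map f ≤ (N.subgroupOf C).map f
  · have h1 : K ≤ N.subgroupOf C ⊔ O := by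
      have := map_le_iff_le_comap.1 hle
      rwa [comap_map_eq, QuotientGroup.ker_mk'] at this
    have h2 : K.map C.subtype ≤ N :=
      map_le_iff_le_comap.2 (le_of_perfect_of_le_sup hKp hOs h1)
    haveI := isSolvable_fitting (G := X)
    exact le_of_perfect_of_le_sup hKXp this (h2.trans le_rfl)
  have hsub : ((N.subgroupOf C).map f).IsSubnormal := hNC.isSubnormal.quotient
  have hcomm : ⁅K.map f, (N.subgroupOf C).map f⁆ = ⊥ :=
    component_commutator_eq_bot_of_not_le hcomp hsub hle
  -- a Sylow `2`-subgroup of `F*` normalised by `T`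
  obtain ⟨S, hTS⟩ := hT.exists_le_sylow
  set P := (S : Subgroup X) ⊓ N with hP
  have hTP : T ≤ normalizer (P : Set X) :=
    ((le_inf (hTS.trans le_normalizer) le_normalizer_of_normal)).trans inf_normalizer_le_normalizer_inf
  by_cases hPT : P ≤ T
  · have hc : K.map C.subtype ≤ centralizer (P : Set X) :=
      (map_subtype_le K).trans (centralizer_le hPT)
    rw [eq_bot_of_centralizes_sylow hO S hKXp hc]
    exact bot_le
  -- an element of `P` normalising `T`
  obtain ⟨x, hxP, hxN, hxT⟩ : ∃ x ∈ P, x ∈ normalizer (T : Set X) ∧ x ∉ T := by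
    set U := T ⊔ P with hU
    have hUS : U ≤ S := sup_le hTS inf_le_left
    have hUp : IsPGroup 2 U := S.isPGroup'.to_le hUS
    have hne : T.subgroupOf U < ⊤ := by
      rw [lt_top_iff_ne_top, Ne, subgroupOf_eq_top]
      exact fun h => hPT (le_sup_right.trans h)
    haveI : Group.IsNilpotent U := hUp.isNilpotent
    obtain ⟨y, hy, hyT⟩ := SetLike.exists_of_lt (normalizerCondition_of_isNilpotent _ hne)
    have hy' : (y : X) ∈ normalizer (T : Set X) := by
      refine mem_normalizer_iff.2 fun z => ⟨fun hz => ?_, fun hz => ?_⟩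
      · exact (mem_normalizer_iff.1 hy ⟨z, mem_sup_left hz⟩).1 hz
      · have hzU : z ∈ U := by
          have : (y : X)⁻¹ * ((y : X) * z * (y : X)⁻¹) * y ∈ U :=
            mul_mem (mul_mem (inv_mem y.2) (mem_sup_left hz)) y.2
          simpa [mul_assoc] using this
        exact (mem_normalizer_iff.1 hy ⟨z, hzU⟩).2 hz
    have hyU : (y : X) ∈ T ⊔ P := y.2
    rw [← SetLike.mem_coe, sup_comm, coe_mul_of_right_le_normalizer_left P T hTP] at hyU
    obtain ⟨p, hp, t, ht, hpt⟩ := hyU
    have hpe : p = (y : X) * t⁻¹ := by rw [← hpt]; group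
    refine ⟨p, hp, hpe ▸ mul_mem hy' (inv_mem (le_normalizer ht)), fun hpT => hyT ?_⟩
    show (y : X) ∈ T
    rw [← hpt]
    exact mul_mem hpT ht
  have hxC : x ∈ normalizer (C : Set X) := le_normalizer_centralizer T hxN
  have hx2 : IsPGroup 2 (zpowers x) := S.isPGroup'.to_le (zpowers_le.2 hxP.1)
  let φ : MulAut ↥C := C.normalizerMonoidHom ⟨x, hxC⟩
  have hφval : ∀ c : ↥C, ((φ c : ↥C) : X) = x * c * x⁻¹ := fun c => rfl
  let φb : MulAut (↥C ⧸ O) := QuotientGroup.congr O O φ (map_pPrimeCore_mulEquiv φ)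
  have hφb : ∀ c : ↥C, φb (f c) = f (φ c) := fun c => rfl
  -- `x` fixes the image of `K` pointwise
  have hdiff : ∀ c : ↥C, φ c * c⁻¹ ∈ N.subgroupOf C := fun c => by
    show x * c * x⁻¹ * (c : X)⁻¹ ∈ N
    have h1 : x ∈ N := hxP.2
    rw [show x * (c : X) * x⁻¹ * (c : X)⁻¹ = x * ((c : X) * x⁻¹ * (c : X)⁻¹) by group]
    exact mul_mem h1 (hNn.conj_mem _ (inv_mem h1) _)
  have hcent : ∀ a ∈ K.map f, ∀ b ∈ (N.subgroupOf C).map f, a * b = b * a := fun a ha b hb =>
    mem_centralizer_iff.1 (commutator_eq_bot_iff_le_centralizer.1 hcomm ha) b hb |>.symm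
  have hNφ : ∀ b ∈ (N.subgroupOf C).map f, φb.symm b ∈ (N.subgroupOf C).map f := by
    rintro _ ⟨c, hc, rfl⟩
    refine ⟨φ.symm c, ?_, ?_⟩
    · have h := hdiff (φ.symm c)
      rw [MulEquiv.apply_symm_apply] at h
      have h2 := mul_mem (inv_mem h) hc
      simpa [mul_assoc] using h2
    · apply φb.injective
      rw [MulEquiv.apply_symm_apply, hφb, MulEquiv.apply_symm_apply]
  let z : ↥(K.map f) → ↥C ⧸ O := fun k => φb (k : ↥C ⧸ O) * (k : ↥C ⧸ O)⁻¹
  have hzN : ∀ k, z k ∈ (N.subgroupOf C).map f := by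
    rintro ⟨_, c, hc, rfl⟩
    exact ⟨φ c * c⁻¹, hdiff c, by show f (φ c * c⁻¹) = φb (f c) * (f c)⁻¹; rw [hφb, map_mul, map_inv]⟩
  have hzc : ∀ k b, b ∈ (N.subgroupOf C).map f → z k * b = b * z k := by
    intro k b hb
    have h1 : φb (k : ↥C ⧸ O) * b = b * φb k := by
      have := congrArg φb (hcent _ k.2 _ (hNφ b hb))
      simpa [map_mul] using this
    show φb (k : ↥C ⧸ O) * (k : ↥C ⧸ O)⁻¹ * b = _
    rw [mul_assoc, (Commute.inv_left (hcent _ k.2 b hb : Commute (k : ↥C ⧸ O) b)).eq, ← mul_assoc,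
      h1, mul_assoc]
  let Z : Subgroup (↥C ⧸ O) := (N.subgroupOf C).map f ⊓ centralizer ((N.subgroupOf C).map f : Set _)
  haveI hZs : Group.IsSolvable ↥Z := Group.isSolvable_of_comm fun a b =>
    Subtype.ext (mem_centralizer_iff.1 b.2.2 (a : ↥C ⧸ O) a.2.1)
  have hzZ : ∀ k, z k ∈ Z := fun k => ⟨hzN k, mem_centralizer_iff.2 fun b hb => (hzc k b hb).symm⟩
  let zh : ↥(K.map f) →* ↥Z := MonoidHom.mk' (fun k => ⟨z k, hzZ k⟩) fun a b => Subtype.ext (by
    show φb ((a : ↥C ⧸ O) * b) * ((a : ↥C ⧸ O) * b)⁻¹ = z a * z b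
    have e : (a : ↥C ⧸ O)⁻¹ * z b = z b * (a : ↥C ⧸ O)⁻¹ :=
      (Commute.inv_left (hcent _ a.2 _ (hzN b) : Commute (a : ↥C ⧸ O) (z b))).eq
    show _ = φb (a : ↥C ⧸ O) * (a : ↥C ⧸ O)⁻¹ * z b
    rw [mul_assoc (φb (a : ↥C ⧸ O)), e, map_mul, mul_inv_rev]
    show φb (a : ↥C ⧸ O) * φb b * ((b : ↥C ⧸ O)⁻¹ * (a : ↥C ⧸ O)⁻¹) =
      φb (a : ↥C ⧸ O) * (φb b * (b : ↥C ⧸ O)⁻¹ * (a : ↥C ⧸ O)⁻¹)
    group)
  have hz1 : ∀ k ∈ K.map f, φb k = k := fun k hk => by
    have h := congrArg Subtype.val (DFunLike.congr_fun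
      (perfect_hom_to_solvable hcomp.2.1.commutator_eq_top zh) ⟨k, hk⟩)
    exact mul_inv_eq_one.1 h
  -- descend to the centraliser of `T⟨x⟩`
  set T' := T ⊔ zpowers x with hT'
  have hT'p : IsPGroup 2 T' :=
    hT.to_sup_of_normal_left' hx2 (zpowers_le.2 hxN)
  have hlt : T < T' := lt_of_le_of_ne le_sup_left fun h =>
    hxT (h ▸ mem_sup_right (mem_zpowers x))
  set C' := centralizer (T' : Set X) with hC'
  have hC'C : C' ≤ C := centralizer_le (SetLike.coe_subset_coe.2 le_sup_left)
  let ι : ↥C' →* ↥C := inclusion hC'C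
  let K₁ : Subgroup ↥C' := ((K.map f).comap f).comap ι
  have hK₁s : K₁.IsSubnormal := (hcomp.1.comap _).comap _
  have hK₁map : (K₁.map ι).map f = K.map f := by
    refine le_antisymm ?_ fun y hy => ?_
    · rw [map_le_iff_le_comap]
      exact map_le_iff_le_comap.2 le_rfl
    obtain ⟨c, rfl⟩ := QuotientGroup.mk'_surjective O y
    have hfx : f (φ c) = f c := by rw [← hφb]; exact hz1 _ hy
    have hcO : (c : X)⁻¹ * (x * c * x⁻¹) ∈ O.map C.subtype :=
      ⟨c⁻¹ * φ c, (QuotientGroup.eq).1 hfx.symm, rfl⟩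
    have hOX : ¬ 2 ∣ Nat.card (O.map C.subtype) := by
      rw [Subgroup.card_map_of_injective C.subtype_injective]
      exact not_dvd_card_pPrimeCore 2 _
    have hxO : x ∈ normalizer (O.map C.subtype : Set X) := by
      refine mem_normalizer_iff_map_conj_eq.2 ?_
      show (O.map C.subtype).map (MulAut.conj x).toMonoidHom = _
      have e : (O.map C.subtype).map (MulAut.conj x).toMonoidHom =
          (O.map φ.toMonoidHom).map C.subtype := by
        rw [Subgroup.map_map, Subgroup.map_map]
        congr 1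
      rw [e, map_pPrimeCore_mulEquiv]
    obtain ⟨_, ⟨o, ho, rfl⟩, hfix⟩ := exists_fixed_in_coset hx2 hxO hOX hcO
    have hmem : ((c * o : ↥C) : X) ∈ C' := by
      refine mem_centralizer_iff.2 fun t ht => mem_centralizer_singleton_iff.1 ?_
      refine (sup_le (fun a ha => ?_) (zpowers_le.2 ?_) :
        T' ≤ centralizer ({((c * o : ↥C) : X)} : Set X)) ht
      · exact mem_centralizer_singleton_iff.2 (mem_centralizer_iff.1 (c * o).2 a ha)
      · exact mem_centralizer_singleton_iff.2 (mul_inv_eq_iff_eq_mul.1 hfix)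
    refine ⟨c * o, ⟨⟨_, hmem⟩, ?_, Subtype.ext rfl⟩, ?_⟩
    · show f (c * o) ∈ K.map f
      rw [map_mul, show f o = 1 from (QuotientGroup.eq_one_iff o).2 ho, mul_one]
      exact hy
    · rw [map_mul, show f o = 1 from (QuotientGroup.eq_one_iff o).2 ho, mul_one]
  set O' := pPrimeCore 2 ↥C' with hO'
  set f' := QuotientGroup.mk' O'
  have hO's : Group.IsSolvable ↥O' := isSolvable_oddCore _
  -- the image of `K₁` modulo `O(C')` is a component or trivial
  have hK₁ : K₁ ≤ N.subgroupOf C' ⊔ O' := by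
    let h₁ : ↥K₁ →* ↥(K.map f) := ((f.comp ι).comp K₁.subtype).codRestrict _ fun k => k.2
    have hh₁ : Function.Surjective h₁ := fun ⟨y, hy⟩ => by
      obtain ⟨_, ⟨c, hc, rfl⟩, hcy⟩ := hK₁map.symm ▸ hy
      exact ⟨⟨c, hc⟩, Subtype.ext hcy⟩
    have hkodd : ¬ 2 ∣ Nat.card h₁.ker := by
      intro hd
      obtain ⟨⟨⟨c, hc⟩, hck⟩, hord⟩ := exists_prime_orderOf_dvd_card' 2 hd
      have hcO : ι c ∈ O := (QuotientGroup.eq_one_iff _).1 (congrArg Subtype.val hck)
      have h2 : orderOf c = 2 :=
        (orderOf_injective (K₁.subtype.comp h₁.ker.subtype)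
          (K₁.subtype_injective.comp h₁.ker.subtype_injective) ⟨⟨c, hc⟩, hck⟩).trans hord
      have h3 := _root_.orderOf_dvd_natCard (⟨ι c, hcO⟩ : O)
      rw [← Subgroup.orderOf_coe, orderOf_injective ι (inclusion_injective hC'C) c, h2] at h3
      exact not_dvd_card_pPrimeCore 2 _ h3
    have hker : h₁.ker.map K₁.subtype ≤ O' := by
      refine le_pPrimeCore_of_isSubnormal ((Subgroup.Normal.isSubnormal inferInstance).trans' hK₁s) ?_
      rw [Subgroup.card_map_of_injective K₁.subtype_injective]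
      exact (Nat.prime_two.coprime_iff_not_dvd.2 hkodd).symm
    by_cases hb : K₁.map f' = ⊥
    · exact (map_mk'_eq_bot_iff.1 hb).trans le_sup_right
    · have hcomp' : IsComponent (K₁.map f') := by
        haveI := (nontrivial_iff_ne_bot _).2 hb
        have hle₁ : h₁.ker ≤ (f'.subgroupMap K₁).ker := fun k hk => Subtype.ext
          ((QuotientGroup.eq_one_iff (k : ↥C')).2 (hker ⟨k, hk, rfl⟩))
        exact ⟨hK₁s.quotient, isQuasisimple_of_surjective hcomp.2
          ((QuotientGroup.lift h₁.ker (f'.subgroupMap K₁) hle₁).comp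
            (QuotientGroup.quotientKerEquivOfSurjective h₁ hh₁).symm.toMonoidHom)
          ((QuotientGroup.lift_surjective_of_surjective _ (f'.subgroupMap K₁)
            (f'.subgroupMap_surjective K₁) hle₁).comp
            (QuotientGroup.quotientKerEquivOfSurjective h₁ hh₁).symm.surjective)⟩
      have hK₂ := isPComponent_pComponentOver hcomp'
      have hmeas : Nat.card X - Nat.card T' < Nat.card X - Nat.card T := by
        have h1 : Nat.card T < Nat.card T' := lt_of_not_ge fun h =>
          hlt.ne (eq_of_le_of_card_ge le_sup_left h)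
        have h2 : Nat.card T' ≤ Nat.card X := card_le_card_group T'
        omega
      have hind := ih _ hmeas T' hT'p rfl (pComponentOver (K₁.map f')) hK₂.1
        (pComponent_commutator_self hK₂) (Or.inr hK₂.2.1)
      have : pComponentOver (K₁.map f') ≤ N.subgroupOf C' :=
        map_le_iff_le_comap.1 (hind.trans layer_le_fstar)
      have h3 : K₁ ≤ (pComponentOver (K₁.map f')) ⊔ O' := by
        have h4 : K₁.map f' ≤ (pComponentOver (K₁.map f')).map f' := (map_pComponentOver hcomp').ge
        have := map_le_iff_le_comap.1 h4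
        rwa [comap_map_eq, QuotientGroup.ker_mk'] at this
      exact h3.trans (sup_le_sup_right this _)
  -- contradiction
  exfalso
  set W := (O'.map ι).map f with hW
  haveI hWs : Group.IsSolvable ↥W := by
    haveI := hO's
    haveI : Group.IsSolvable ↥(O'.map ι) :=
      Group.isSolvable_of_surjective (ι.subgroupMap_surjective O')
    exact Group.isSolvable_of_surjective (f.subgroupMap_surjective (O'.map ι))
  have hKW : K.map f ≤ normalizer (W : Set (↥C ⧸ O)) := by
    rw [← hK₁map, hW, Subgroup.map_map, Subgroup.map_map]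
    exact (map_mono le_normalizer_of_normal).trans (le_normalizer_map _)
  have hcW : ⁅K.map f, W⁆ = ⊥ :=
    component_commutator_eq_bot_of_normalizes hcomp hWs hKW
  have hle2 : K.map f ≤ (N.subgroupOf C).map f ⊔ W := by
    rw [← hK₁map, hW]
    refine (map_mono (map_mono hK₁)).trans ?_
    rw [Subgroup.map_sup, Subgroup.map_sup]
    refine sup_le_sup_right (map_mono ?_) _
    rintro _ ⟨c, hc, rfl⟩
    exact hc
  have hK_ab : ⁅K.map f, K.map f⁆ = ⊥ := by
    rw [commutator_eq_bot_iff_le_centralizer] at hcW hcomm ⊢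
    intro a ha
    refine mem_centralizer_iff.2 fun b hb => mem_centralizer_singleton_iff.1 ?_
    exact (sup_le (fun w hw => mem_centralizer_singleton_iff.2
      (mem_centralizer_iff.1 (hcomm ha) w hw)) (fun w hw => mem_centralizer_singleton_iff.2
      (mem_centralizer_iff.1 (hcW ha) w hw)) : (N.subgroupOf C).map f ⊔ W ≤ _) (hle2 hb)
  rw [component_commutator_self hcomp] at hK_ab
  exact component_ne_bot hcomp hK_ab

/-- **`L`-balance**. -/
theorem map_pLayer_centralizer_le (T : Subgroup X) (hT : IsPGroup 2 T) :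
    (pLayer 2 ↥(centralizer (T : Set X))).map (centralizer (T : Set X)).subtype ≤ pLayer 2 X := by
  set O := pPrimeCore 2 X
  set φ := QuotientGroup.mk' O with hφ
  set C := centralizer (T : Set X) with hC
  set Cb := centralizer ((T.map φ : Subgroup (X ⧸ O)) : Set (X ⧸ O)) with hCb
  have hmap : C.map φ = Cb := by
    refine le_antisymm ?_ fun y hy => ?_
    · rintro _ ⟨c, hc, rfl⟩
      refine mem_centralizer_iff.2 ?_
      rintro _ ⟨t, ht, rfl⟩
      rw [← map_mul, mem_centralizer_iff.1 hc t ht, map_mul]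
    · obtain ⟨n, hn, rfl⟩ : y ∈ (normalizer (T : Set X)).map φ := by
        rw [map_normalizer_of_coprime (pPrimeCore_coprime 2 X) hT]
        exact centralizer_le_normalizer _ hy
      refine ⟨n, mem_centralizer_iff.2 fun t ht => ?_, rfl⟩
      have h1 : n * t * n⁻¹ * t⁻¹ ∈ T := mul_mem ((mem_normalizer_iff.1 hn t).1 ht) (inv_mem ht)
      have h2 : n * t * n⁻¹ * t⁻¹ ∈ O := by
        rw [← QuotientGroup.eq_one_iff]
        show φ (n * t * n⁻¹ * t⁻¹) = 1
        rw [map_mul, map_mul, map_mul, map_inv, map_inv,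
          ← mem_centralizer_iff.1 hy (φ t) (mem_map_of_mem φ ht), mul_inv_cancel_right,
          mul_inv_cancel]
      have h3 : n * t * n⁻¹ * t⁻¹ = 1 :=
        mem_bot.1 ((inf_eq_bot_of_isPGroup_of_coprime hT (pPrimeCore_coprime 2 X)).le ⟨h1, h2⟩)
      exact (mul_inv_eq_iff_eq_mul.1 (mul_inv_eq_one.1 h3)).symm
  let g : C →* Cb := (φ.comp C.subtype).codRestrict Cb fun c => hmap ▸ ⟨c, c.2, rfl⟩
  have hg : Function.Surjective g := fun ⟨y, hy⟩ => by
    obtain ⟨c, hc, hcy⟩ := hmap.symm ▸ hy
    exact ⟨⟨c, hc⟩, Subtype.ext hcy⟩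
  rw [map_le_iff_le_comap]
  refine pLayer_le_iff.2 fun K hK => map_le_iff_le_comap.1 ?_
  have hKXp : ⁅K.map C.subtype, K.map C.subtype⁆ = K.map C.subtype := by
    rw [← map_commutator, pComponent_commutator_self hK]
  have hle : pPrimeCore 2 ↥C ≤ ((QuotientGroup.mk' (pPrimeCore 2 ↥Cb)).comp g).ker := fun c hc =>
    (QuotientGroup.eq_one_iff _).2 (map_pPrimeCore_le g hg ⟨c, hc, rfl⟩)
  let gb : ↥C ⧸ pPrimeCore 2 ↥C →* ↥Cb ⧸ pPrimeCore 2 ↥Cb := QuotientGroup.lift _ _ hle
  have hgb : Function.Surjective gb := QuotientGroup.lift_surjective_of_surjective _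
    ((QuotientGroup.mk' (pPrimeCore 2 ↥Cb)).comp g) ((QuotientGroup.mk'_surjective _).comp hg) hle
  have e : (K.map g).map (QuotientGroup.mk' (pPrimeCore 2 ↥Cb)) =
      (K.map (QuotientGroup.mk' (pPrimeCore 2 ↥C))).map gb := by
    rw [Subgroup.map_map, Subgroup.map_map]
    congr 1
  have hin := le_layer (pPrimeCore_quotient_pPrimeCore 2 X) (T.map φ) (hT.map φ) (K.map g)
    (hK.1.map hg) (by rw [← map_commutator, pComponent_commutator_self hK]) (by
      show (K.map g).map _ = ⊥ ∨ _
      rw [e]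
      by_cases hb : (K.map (QuotientGroup.mk' (pPrimeCore 2 ↥C))).map gb = ⊥
      · exact Or.inl hb
      · haveI := (nontrivial_iff_ne_bot _).mpr hb
        exact Or.inr ⟨hK.2.1.1.map hgb,
          isQuasisimple_of_surjective hK.2.1.2 (gb.subgroupMap _) (gb.subgroupMap_surjective _)⟩)
  have hKb : (K.map C.subtype).map φ ≤ (pLayer 2 X).map φ := by
    rw [map_pLayer]
    refine le_trans (le_of_eq ?_) hin
    rw [Subgroup.map_map, Subgroup.map_map]
    congr 1
  haveI : (pLayer 2 X).Normal := by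
    have : (pLayer 2 X).Characteristic :=
      characteristic_iff_map_eq.2 fun e => pLayer_map_equiv e
    infer_instance
  have h1 := map_le_iff_le_comap.1 hKb
  rw [comap_map_eq, QuotientGroup.ker_mk'] at h1
  exact le_of_perfect_of_le_sup hKXp (isSolvable_oddCore X) h1

end CfsgLib.LBalance
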