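import Cfsg.Agent.Lib.FT.Interface
import Cfsg.Agent.Lib.Base.MinimalNormal
import Cfsg.Agent.Lib.Coprime.Action
import Cfsg.Agent.Lib.PGroups.UniqueOrderP

/-!
"Abelian subgroups of equal order are conjugate" passes to quotients by normal subgroups of odd
order.
-/

set_option autoImplicit false
set_option linter.style.haveILetI false

universe u

namespace CfsgLib.FTCons

/-- Abelian subgroups of equal order are conjugate. -/
def AbelianConj (G : Type u) [Group G] : Prop :=
  ∀ A B : Subgroup G, IsMulCommutative ↥A → IsMulCommutative ↥B → Nat.card ↥A = Nat.card ↥B →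
    ∃ g : G, B = A.map (MulAut.conj g).toMonoidHom

variable {G : Type u} [Group G] [Finite G]

theorem isMulCommutative_zpowers (x : G) : IsMulCommutative (Subgroup.zpowers x) :=
  ⟨⟨fun a b => Subtype.ext (by
    obtain ⟨i, hi⟩ := Subgroup.mem_zpowers_iff.1 a.2
    obtain ⟨j, hj⟩ := Subgroup.mem_zpowers_iff.1 b.2
    simp only [Subgroup.coe_mul, ← hi, ← hj, ← zpow_add, add_comm])⟩⟩

section kernel

variable (hB : AbelianConj G) {H : Type u} [Group H] (f : G →* H) (hf : Function.Surjective f)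
  {r : ℕ} [hr : Fact r.Prime] (hr2 : r ≠ 2) (hcomm : IsMulCommutative f.ker)
  (hexp : ∀ x ∈ f.ker, x ^ r = 1) (hne : f.ker ≠ ⊥)

include hB hexp hne

theorem mem_ker_of_orderOf_eq {x : G} (hx : orderOf x = r) : x ∈ f.ker := by
  obtain ⟨n, hn, hn1⟩ : ∃ n ∈ f.ker, n ≠ 1 := by
    by_contra h
    push Not at h
    exact hne ((Subgroup.eq_bot_iff_forall _).2 h)
  have hno : orderOf n = r := orderOf_eq_prime (hexp n hn) hn1
  obtain ⟨g, hg⟩ := hB (Subgroup.zpowers n) (Subgroup.zpowers x) (isMulCommutative_zpowers n)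
    (isMulCommutative_zpowers x) (by rw [Nat.card_zpowers, Nat.card_zpowers, hno, hx])
  have hx' : x ∈ (Subgroup.zpowers n).map (MulAut.conj g).toMonoidHom :=
    hg ▸ Subgroup.mem_zpowers x
  obtain ⟨m, hm, rfl⟩ := hx'
  exact (MonoidHom.normal_ker f).conj_mem m (Subgroup.zpowers_le.2 hn hm) g

include hcomm in
/-- If `r` divides the order of `W` modulo the kernel, the kernel has order `r`. -/
theorem card_ker_eq {W : Subgroup G} (hd : r ∣ f.ker.relIndex W) (hle : f.ker ≤ W) :
    Nat.card f.ker = r := by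
  have hN : IsPGroup r f.ker := fun x => ⟨1, Subtype.ext (by simpa using hexp x x.2)⟩
  obtain ⟨k, hk⟩ := IsPGroup.iff_card.1 hN
  rcases Nat.lt_or_ge k 2 with hk2 | hk2
  · rcases Nat.eq_zero_or_pos k with rfl | hkp
    · exact absurd (f.ker.eq_bot_of_card_eq (by rw [hk, pow_zero])) hne
    · rw [hk, show k = 1 by omega, pow_one]
  exfalso
  obtain ⟨E, hE⟩ := Sylow.exists_subgroup_card_pow_prime r (n := 2)
    (show r ^ 2 ∣ Nat.card f.ker by rw [hk]; exact pow_dvd_pow r hk2)
  haveI : (f.ker.subgroupOf W).Normal := inferInstance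
  obtain ⟨w, hw⟩ := exists_prime_orderOf_dvd_card' (G := W ⧸ f.ker.subgroupOf W) r hd
  obtain ⟨v, rfl⟩ := QuotientGroup.mk_surjective w
  have hvo : r ∣ orderOf (v : G) := by
    rw [Subgroup.orderOf_coe, ← hw]
    exact orderOf_map_dvd (QuotientGroup.mk' _) v
  have hvo2 : r ^ 2 ∣ orderOf (v : G) := by
    obtain ⟨a, ha⟩ := hvo
    by_contra h2
    have hra : ¬ r ∣ a := fun hd' => h2 (by rw [ha, sq]; exact Nat.mul_dvd_mul_left r hd')
    have h0 : a ≠ 0 := by rintro rfl; exact absurd ha (by simpa using (orderOf_pos (v : G)).ne')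
    have hoa : orderOf ((v : G) ^ a) = r := by
      rw [orderOf_pow_of_dvd h0 (by rw [ha]; exact dvd_mul_left a r), ha,
        Nat.mul_div_cancel _ (Nat.pos_of_ne_zero h0)]
    have hmem := mem_ker_of_orderOf_eq hB f hexp hne hoa
    have h1 : (v : W ⧸ f.ker.subgroupOf W) ^ a = 1 := by
      rw [← QuotientGroup.mk_pow]
      exact (QuotientGroup.eq_one_iff _).2 (by simpa [Subgroup.mem_subgroupOf] using hmem)
    exact hra (hw ▸ orderOf_dvd_of_pow_eq_one h1)
  obtain ⟨b, hb⟩ := hvo2
  have hb0 : b ≠ 0 := by rintro rfl; exact absurd hb (by simpa using (orderOf_pos (v : G)).ne')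
  have hy : orderOf ((v : G) ^ b) = r ^ 2 := by
    rw [orderOf_pow_of_dvd hb0 (by rw [hb]; exact dvd_mul_left b _), hb,
      Nat.mul_div_cancel _ (Nat.pos_of_ne_zero hb0)]
  have hEab : IsMulCommutative (E.map f.ker.subtype) := ⟨⟨fun x y => by
    obtain ⟨_, a, ha, rfl⟩ := x
    obtain ⟨_, c, hc, rfl⟩ := y
    exact Subtype.ext (by simpa using congrArg Subtype.val (hcomm.is_comm.comm a c))⟩⟩
  obtain ⟨g, hg⟩ := hB (E.map f.ker.subtype) (Subgroup.zpowers ((v : G) ^ b)) hEab
    (isMulCommutative_zpowers _)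
    (by rw [Subgroup.card_map_of_injective f.ker.subtype_injective, hE, Nat.card_zpowers, hy])
  have hm : (v : G) ^ b ∈ (E.map f.ker.subtype).map (MulAut.conj g).toMonoidHom :=
    hg ▸ Subgroup.mem_zpowers _
  obtain ⟨_, ⟨e, -, rfl⟩, he⟩ := hm
  have h1 : ((v : G) ^ b) ^ r = 1 := by
    rw [← he, ← map_pow, Subgroup.coe_subtype, hexp e e.2, map_one]
  have h2 := hy ▸ orderOf_dvd_of_pow_eq_one h1
  have h3 := Nat.le_of_dvd hr.out.pos h2
  have : r < r ^ 2 := lt_self_pow₀ hr.out.one_lt one_lt_two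
  omega

include hr2 hcomm in
/-- A preimage of an abelian subgroup of order divisible by `r` is abelian. -/
theorem isMulCommutative_preimage {W : Subgroup G} (hle : f.ker ≤ W)
    (hd : r ∣ f.ker.relIndex W) (hab : ∀ a ∈ W, ∀ b ∈ W, a * b * a⁻¹ * b⁻¹ ∈ f.ker) :
    IsMulCommutative W := by
  have hcard := card_ker_eq hB f hcomm hexp hne hd hle
  obtain ⟨z, hz⟩ := exists_prime_orderOf_dvd_card' (G := f.ker) r (by rw [hcard])
  have hzr : orderOf (z : G) = r := by rw [Subgroup.orderOf_coe, hz]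
  have hker : f.ker = Subgroup.zpowers (z : G) :=
    (Subgroup.eq_of_le_of_card_ge (Subgroup.zpowers_le.2 z.2)
      (by rw [hcard, Nat.card_zpowers, hzr])).symm
  obtain ⟨P⟩ := (inferInstance : Nonempty (Sylow r W))
  let R : Subgroup G := (P : Subgroup W).map W.subtype
  have hRp : IsPGroup r R := P.2.map _
  have hRW : R ≤ W := Subgroup.map_subtype_le _
  have hKR : f.ker ≤ R := by
    intro x hx
    have hN : IsPGroup r (f.ker.subgroupOf W) := fun y =>
      ⟨1, Subtype.ext (Subtype.ext (by simpa using hexp _ y.2))⟩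
    haveI : (f.ker.subgroupOf W).Normal := inferInstance
    exact ⟨⟨x, hle hx⟩, hN.le_sylow_of_normal P hx, rfl⟩
  haveI hRc : IsCyclic R := by
    rcases CfsgLib.PGroups.isCyclic_or_quaternion_of_unique hRp (z := ⟨(z : G), hKR z.2⟩)
      (Subtype.ext (by simpa using hexp _ z.2)) (fun y hy => by
        have hy' : (y : G) ^ r = 1 := by simpa using congrArg Subtype.val hy
        have hmem : (y : G) ∈ f.ker := by
          rcases (Nat.dvd_prime hr.out).1 (orderOf_dvd_of_pow_eq_one hy') with h | h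
          · rw [orderOf_eq_one_iff.1 h]; exact f.ker.one_mem
          · exact mem_ker_of_orderOf_eq hB f hexp hne h
        rw [hker] at hmem
        obtain ⟨i, hi⟩ := Subgroup.mem_zpowers_iff.1 hmem
        exact ⟨i, Subtype.ext (by simpa using hi)⟩) with h | ⟨h, -⟩
    · exact h
    · exact absurd h hr2
  -- the kernel is central in `W`
  have hsq : r ^ 2 ∣ Nat.card R := by
    have h1 : Nat.card W = r * f.ker.relIndex W := by
      rw [← hcard, ← Nat.card_congr (Subgroup.subgroupOfEquivOfLe hle).toEquiv]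
      exact (Subgroup.card_mul_index _).symm
    rw [Subgroup.card_map_of_injective W.subtype_injective, P.card_eq_multiplicity]
    refine pow_dvd_pow r ((hr.out.pow_dvd_iff_le_factorization Nat.card_pos.ne').1 ?_)
    rw [h1, sq]
    exact Nat.mul_dvd_mul_left r hd
  obtain ⟨x, hx⟩ := IsCyclic.exists_generator (α := R)
  have hxo : orderOf (x : G) = Nat.card R := by
    rw [Subgroup.orderOf_coe]
    exact orderOf_eq_card_of_forall_mem_zpowers hx
  obtain ⟨c, hc⟩ := hsq
  have hzx : f.ker ≤ Subgroup.zpowers ((x : G) ^ r) := by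
    intro n hn
    obtain ⟨i, hi⟩ := Subgroup.mem_zpowers_iff.1 (hx ⟨n, hKR hn⟩)
    have hi' : (x : G) ^ i = n := by simpa using congrArg Subtype.val hi
    have h1 : (x : G) ^ (i * r) = 1 := by rw [zpow_mul, hi', zpow_natCast, hexp n hn]
    rw [← orderOf_dvd_iff_zpow_eq_one, hxo, hc] at h1
    obtain ⟨d, hd'⟩ := h1
    refine ⟨c * d, ?_⟩
    show ((x : G) ^ r) ^ ((c : ℤ) * d) = n
    rw [← hi', ← zpow_natCast, ← zpow_mul]
    congr 1
    have hr0 : (r : ℤ) ≠ 0 := by exact_mod_cast hr.out.ne_zero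
    push_cast at hd'
    exact mul_right_cancel₀ hr0 (by linear_combination -hd')
  have hRcomm : ∀ a ∈ R, ∀ b ∈ R, a * b = b * a := fun a ha b hb =>
    congrArg Subtype.val ((IsCyclic.commGroup (α := R)).mul_comm ⟨a, ha⟩ ⟨b, hb⟩)
  have hcent : ∀ w ∈ W, ∀ n ∈ f.ker, w * n = n * w := by
    intro w hw
    have hm := hab w hw x (hRW x.2)
    have hmx : Commute (w * x * w⁻¹ * (x : G)⁻¹) (x : G) :=
      hRcomm _ (hKR hm) _ x.2
    have h1 : w * (x : G) ^ r * w⁻¹ = (x : G) ^ r := by
      rw [← conj_pow, show w * (x : G) * w⁻¹ = w * x * w⁻¹ * (x : G)⁻¹ * x by group,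
        hmx.mul_pow, hexp _ hm, one_mul]
    intro n hn
    obtain ⟨i, hi⟩ := Subgroup.mem_zpowers_iff.1 (hzx hn)
    rw [← hi]
    have : Commute w ((x : G) ^ r) := by
      show w * _ = _ * w
      calc w * (x : G) ^ r = w * (x : G) ^ r * w⁻¹ * w := by group
        _ = (x : G) ^ r * w := by rw [h1]
    exact (this.zpow_right i).eq
  -- elements of order prime to `r` are central in `W`
  have hprime : ∀ b ∈ W, ¬ r ∣ orderOf b → ∀ a ∈ W, a * b = b * a := by
    intro b hb hbr a ha
    let m := a * b * a⁻¹ * b⁻¹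
    have hm : m ∈ f.ker := hab a ha b hb
    have hmb : Commute m b := (hcent b hb m hm).symm
    have h1 : a * b * a⁻¹ = m * b := by simp only [m]; group
    have h2 : m ^ orderOf b = 1 := by
      have h3 := congrArg (· ^ orderOf b) h1
      simp only [conj_pow, pow_orderOf_eq_one, mul_one, mul_inv_cancel, hmb.mul_pow] at h3
      exact h3.symm
    have h4 : m = 1 := by
      rw [← orderOf_eq_one_iff]
      refine Nat.eq_one_of_dvd_coprimes ?_ (orderOf_dvd_of_pow_eq_one (hexp m hm))
        (orderOf_dvd_of_pow_eq_one h2)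
      exact (hr.out.coprime_iff_not_dvd).2 hbr
    simp only [m] at h4
    rw [mul_inv_eq_one, mul_inv_eq_iff_eq_mul] at h4
    exact h4
  -- `W = R · C_W`
  let Z : Subgroup G := W ⊓ Subgroup.centralizer (W : Set G)
  have hidx : R ⊔ Z = W := by
    refine le_antisymm (sup_le hRW inf_le_left) ?_
    have hZn : W ≤ Subgroup.normalizer (Z : Set G) := by
      intro w hw
      refine Subgroup.mem_normalizer_iff.2 fun y => ⟨fun hy => ?_, fun hy => ?_⟩
      · rw [Subgroup.mem_centralizer_iff.1 hy.2 w hw, mul_inv_cancel_right]; exact hy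
      · have := Subgroup.mem_centralizer_iff.1 hy.2 w hw
        have h' : w * y * w⁻¹ = y := by
          calc w * y * w⁻¹ = w⁻¹ * (w * (w * y * w⁻¹)) := by group
            _ = w⁻¹ * ((w * y * w⁻¹) * w) := by rw [this]
            _ = y := by group
        rwa [h'] at hy
    intro a ha
    -- split `a` into its `r`-part and its `r'`-part
    obtain ⟨i, m, hm, hao⟩ :=
      Nat.exists_eq_pow_mul_and_not_dvd (orderOf_pos a).ne' r hr.out.ne_one
    have hb : a ^ r ^ i ∈ Z := by
      refine ⟨W.pow_mem ha _, Subgroup.mem_centralizer_iff.2 fun c hc => ?_⟩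
      refine hprime _ (W.pow_mem ha _) ?_ c hc
      rw [orderOf_pow_of_dvd (pow_ne_zero _ hr.out.ne_zero) (by rw [hao]; exact dvd_mul_right _ _),
        hao, Nat.mul_div_cancel_left _ (pow_pos hr.out.pos i)]
      exact hm
    have hc : a ^ m ∈ R := by
      have hp : IsPGroup r (Subgroup.zpowers (⟨a ^ m, W.pow_mem ha _⟩ : W)) := by
        intro ⟨y, hy⟩
        obtain ⟨j, rfl⟩ := Subgroup.mem_zpowers_iff.1 hy
        refine ⟨i, Subtype.ext (Subtype.ext ?_)⟩
        simp only [SubgroupClass.coe_pow, SubgroupClass.coe_zpow, Subgroup.coe_one]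
        rw [← zpow_natCast, ← zpow_mul, mul_comm, zpow_mul, zpow_natCast, ← pow_mul, mul_comm m,
          ← hao, pow_orderOf_eq_one, one_zpow]
      haveI : (P : Subgroup W).Normal := by
        refine ⟨fun y hy w => ?_⟩
        have hyR : (y : G) ∈ R := ⟨y, hy, rfl⟩
        have := R.mul_mem (hKR (hab w w.2 y y.2)) hyR
        rw [inv_mul_cancel_right] at this
        obtain ⟨y', hy', e⟩ := this
        rw [show w * y * w⁻¹ = y' from Subtype.ext (by simpa using e.symm)]
        exact hy'
      obtain ⟨Q, hQ⟩ := hp.exists_le_sylow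
      haveI := Sylow.unique_of_normal P inferInstance
      exact ⟨_, (Subsingleton.elim Q P) ▸ hQ (Subgroup.mem_zpowers _), rfl⟩
    have hg : Nat.gcd (r ^ i) m = 1 :=
      Nat.Coprime.pow_left i ((hr.out.coprime_iff_not_dvd).2 hm)
    have hb' := Nat.gcd_eq_gcd_ab (r ^ i) m
    rw [hg] at hb'
    have : a = (a ^ r ^ i) ^ Nat.gcdA (r ^ i) m * (a ^ m) ^ Nat.gcdB (r ^ i) m := by
      rw [← zpow_natCast a, ← zpow_natCast a, ← zpow_mul, ← zpow_mul, ← zpow_add, ← hb']
      simp
    rw [this]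
    exact Subgroup.mul_mem _ (Subgroup.mem_sup_right (Z.zpow_mem hb _))
      (Subgroup.mem_sup_left (R.zpow_mem hc _))
  have hWC : W ≤ Subgroup.centralizer (W : Set G) := by
    conv_lhs => rw [← hidx]
    refine sup_le (fun a ha => ?_) inf_le_right
    refine Subgroup.mem_centralizer_iff.2 fun b hb => ?_
    have : b ∈ Subgroup.centralizer ({a} : Set G) := by
      have hle' : W ≤ Subgroup.centralizer ({a} : Set G) := by
        rw [← hidx]
        refine sup_le (fun c hc => ?_) (fun c hc => ?_)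
        · exact Subgroup.mem_centralizer_singleton_iff.2 (hRcomm c hc a ha)
        · exact Subgroup.mem_centralizer_singleton_iff.2
            (Subgroup.mem_centralizer_iff.1 hc.2 a (hRW ha)).symm
      exact hle' hb
    exact Subgroup.mem_centralizer_singleton_iff.1 this
  exact ⟨⟨fun a b => Subtype.ext (Subgroup.mem_centralizer_iff.1 (hWC b.2) a a.2)⟩⟩

end kernel

/-- The property passes to the image under a map whose kernel is an elementary abelian `r`-group,
`r` odd. -/
theorem abelianConj_of_elementary_ker (hB : AbelianConj G) {H : Type u} [Group H] (f : G →* H)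
    (hf : Function.Surjective f) {r : ℕ} [hr : Fact r.Prime] (hr2 : r ≠ 2)
    (hcomm : IsMulCommutative f.ker) (hexp : ∀ x ∈ f.ker, x ^ r = 1) (hne : f.ker ≠ ⊥) :
    AbelianConj H := by
  have hlift : ∀ A : Subgroup H, IsMulCommutative A → ∃ A' : Subgroup G, IsMulCommutative A' ∧
      A'.map f = A ∧ Nat.card A' = if r ∣ Nat.card A then r * Nat.card A else Nat.card A := by
    intro A hA
    let W := A.comap f
    have hle : f.ker ≤ W := fun x hx => by
      rw [Subgroup.mem_comap, MonoidHom.mem_ker.1 hx]; exact A.one_mem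
    have hWA : W.map f = A := Subgroup.map_comap_eq_self_of_surjective hf A
    have hab : ∀ a ∈ W, ∀ b ∈ W, a * b * a⁻¹ * b⁻¹ ∈ f.ker := fun a ha b hb => by
      rw [MonoidHom.mem_ker, map_mul, map_mul, map_mul, map_inv, map_inv,
        show f a * f b = f b * f a from congrArg Subtype.val (hA.is_comm.comm ⟨f a, ha⟩ ⟨f b, hb⟩)]
      group
    have hidx : f.ker.relIndex W = Nat.card A := by
      rw [Subgroup.relIndex, Subgroup.index]
      refine Nat.card_congr ((QuotientGroup.liftEquiv (f.ker.subgroupOf W)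
        (φ := (f.comp W.subtype).codRestrict A fun w => w.2) ?_ ?_).toEquiv)
      · rintro ⟨y, hy⟩
        obtain ⟨x, rfl⟩ := hf y
        exact ⟨⟨x, hy⟩, rfl⟩
      · ext w
        rw [MonoidHom.mem_ker, Subgroup.mem_subgroupOf, MonoidHom.mem_ker]
        exact ⟨fun h => Subtype.ext h, fun h => congrArg Subtype.val h⟩
    by_cases hd : r ∣ Nat.card A
    · refine ⟨W, isMulCommutative_preimage hB f hr2 hcomm hexp hne hle (hidx ▸ hd) hab, hWA, ?_⟩
      rw [if_pos hd, ← hidx, ← card_ker_eq hB f hcomm hexp hne (hidx ▸ hd) hle,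
        ← Nat.card_congr (Subgroup.subgroupOfEquivOfLe hle).toEquiv]
      exact (Subgroup.card_mul_index _).symm
    · have hcop : (Nat.card f.ker).Coprime (f.ker.relIndex W) := by
        obtain ⟨k, hk⟩ := IsPGroup.iff_card.1
          (fun x => ⟨1, Subtype.ext (by simpa using hexp x x.2)⟩ : IsPGroup r f.ker)
        rw [hk, hidx]
        exact Nat.Coprime.pow_left k ((hr.out.coprime_iff_not_dvd).2 hd)
      obtain ⟨B, hBW, hBc, hBsup⟩ := CfsgLib.Coprime.exists_complement_in hle
        (fun w hw => Subgroup.le_normalizer_of_normal (K := W) hw) hcop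
      have hker : ∀ x ∈ B, f x = 1 → x = 1 := by
        intro x hx hx1
        have h1 := orderOf_dvd_of_pow_eq_one (hexp x hx1)
        have h2 : orderOf x ∣ Nat.card A := by
          rw [← hidx, ← hBc, ← Subgroup.orderOf_mk x hx]
          exact orderOf_dvd_natCard _
        rw [← orderOf_eq_one_iff]
        rcases (Nat.dvd_prime hr.out).1 h1 with e | e
        · exact e
        · exact absurd (e ▸ h2) hd
      refine ⟨B, ⟨⟨fun a b => Subtype.ext ?_⟩⟩, ?_, ?_⟩
      · have h1 : (a : G) * b * (a : G)⁻¹ * (b : G)⁻¹ = 1 := hker _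
          (B.mul_mem (B.mul_mem (B.mul_mem a.2 b.2) (B.inv_mem a.2)) (B.inv_mem b.2))
          (hab _ (hBW a.2) _ (hBW b.2))
        rw [mul_inv_eq_one, mul_inv_eq_iff_eq_mul] at h1
        exact h1
      · refine le_antisymm (hWA ▸ Subgroup.map_mono hBW) ?_
        rw [← hWA, ← hBsup, Subgroup.map_sup, (Subgroup.map_eq_bot_iff _).2 le_rfl, bot_sup_eq]
      · rw [if_neg hd, hBc, hidx]
  intro A B hA hBc hcard
  obtain ⟨A', hA', hAm, hAc⟩ := hlift A hA
  obtain ⟨B', hB', hBm, hBc'⟩ := hlift B hBc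
  obtain ⟨g, hg⟩ := hB A' B' hA' hB' (by rw [hAc, hBc', hcard])
  refine ⟨f g, ?_⟩
  rw [← hBm, ← hAm, hg, Subgroup.map_map, Subgroup.map_map]
  congr 1
  ext x
  simp

theorem abelianConj_aux (hFT : CfsgLib.FT.OddOrderThm.{u}) (n : ℕ) :
    ∀ {G : Type u} [Group G] [Finite G] {H : Type u} [Group H], AbelianConj G →
      ∀ f : G →* H, Function.Surjective f → Odd (Nat.card f.ker) → Nat.card G = n →
        AbelianConj H := by
  induction n using Nat.strong_induction_on with
  | _ n ih =>
  intro G _ _ H _ hB f hf hodd hn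
  rcases eq_or_ne f.ker ⊥ with hk | hk
  · have hinj : Function.Injective f := (MonoidHom.ker_eq_bot_iff f).1 hk
    intro A B hA hB' hcard
    let e : G ≃* H := MulEquiv.ofBijective f ⟨hinj, hf⟩
    have hc : ∀ C : Subgroup H, IsMulCommutative C → IsMulCommutative (C.comap f) := fun C hC =>
      ⟨⟨fun a b => Subtype.ext (hinj (by
        simpa using congrArg Subtype.val (hC.is_comm.comm ⟨f a, a.2⟩ ⟨f b, b.2⟩)))⟩⟩
    have hcc : ∀ C : Subgroup H, Nat.card (C.comap f) = Nat.card C := fun C => by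
      conv_rhs => rw [← Subgroup.map_comap_eq_self_of_surjective hf C]
      exact (Nat.card_congr ((C.comap f).equivMapOfInjective f hinj).toEquiv)
    obtain ⟨g, hg⟩ := hB _ _ (hc A hA) (hc B hB') (by rw [hcc, hcc, hcard])
    refine ⟨f g, ?_⟩
    rw [← Subgroup.map_comap_eq_self_of_surjective hf B,
      ← Subgroup.map_comap_eq_self_of_surjective hf A, hg, Subgroup.map_map, Subgroup.map_map]
    congr 1
    ext x
    simp
  obtain ⟨N, hNle, hN⟩ := CfsgLib.Base.exists_isMinimalNormal_le hk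
  haveI := hN.normal
  have hsol : Group.IsSolvable N :=
    hFT N (hodd.of_dvd_nat (Subgroup.card_dvd_of_le hNle))
  obtain ⟨r, hr, hcomm, hexp, hNp⟩ := hN.exists_prime hsol
  haveI := Fact.mk hr
  have hr2 : r ≠ 2 := by
    rintro rfl
    obtain ⟨k, hk'⟩ := IsPGroup.iff_card.1 hNp
    rcases Nat.eq_zero_or_pos k with rfl | hk0
    · exact hN.ne_bot (N.eq_bot_of_card_eq (by rw [hk', pow_zero]))
    · have := hodd.of_dvd_nat (Subgroup.card_dvd_of_le hNle)
      rw [hk'] at this
      exact absurd this (Nat.not_odd_iff_even.2 (Nat.even_pow.2 ⟨even_two, hk0.ne'⟩))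
  have hkerN : (QuotientGroup.mk' N).ker = N := QuotientGroup.ker_mk' N
  have hBN : AbelianConj (G ⧸ N) := abelianConj_of_elementary_ker hB (QuotientGroup.mk' N)
    (QuotientGroup.mk'_surjective N) hr2 (by rw [hkerN]; exact hcomm)
    (by rw [hkerN]; exact hexp) (by rw [hkerN]; exact hN.ne_bot)
  let f' : G ⧸ N →* H := QuotientGroup.lift N f hNle
  have hlt : Nat.card (G ⧸ N) < n := by
    rw [← hn, N.card_eq_card_quotient_mul_card_subgroup]
    exact lt_mul_of_one_lt_right Nat.card_pos (N.one_lt_card_iff_ne_bot.mpr hN.ne_bot)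
  refine ih _ hlt hBN f' (fun h => ?_) ?_ rfl
  · obtain ⟨g, rfl⟩ := hf h
    exact ⟨g, rfl⟩
  · refine hodd.of_dvd_nat ?_
    have hker : f'.ker = f.ker.map (QuotientGroup.mk' N) := QuotientGroup.ker_lift N f hNle
    rw [hker]
    exact Subgroup.card_map_dvd f.ker (QuotientGroup.mk' N)

/-- The statement for a quotient. -/
theorem abelianConj_quotient (hFT : CfsgLib.FT.OddOrderThm.{u}) (hB : AbelianConj G)
    (M : Subgroup G) [M.Normal] (hM : Odd (Nat.card M)) : AbelianConj (G ⧸ M) :=
  abelianConj_aux hFT _ hB (QuotientGroup.mk' M) (QuotientGroup.mk'_surjective M)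
    (by rw [QuotientGroup.ker_mk']; exact hM) rfl

end CfsgLib.FTCons
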