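import Cfsg.Agent.Lib.Base.ThompsonFPF

/-!
A solvable subgroup which is central in every solvable overgroup is central.

A minimal counterexample has `C(A)` as its greatest proper overgroup of `A`; modulo the centre
this centraliser is a Frobenius complement, and the kernel together with `A` is everything, so the
group is solvable.
-/

set_option autoImplicit false
set_option linter.style.haveILetI false

universe u

namespace CfsgLib.FTCons

open Cfsg
open scoped Pointwise

theorem le_center_aux (n : ℕ) : ∀ (G : Type u) [Group G] [Finite G], Nat.card G = n →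
    ∀ A : Subgroup G, Group.IsSolvable A →
    (∀ S : Subgroup G, A ≤ S → Group.IsSolvable S → ∀ a ∈ A, ∀ s ∈ S, a * s = s * a) →
    A ≤ Subgroup.center G := by
  induction n using Nat.strong_induction_on with
  | _ n ih =>
  intro G _ _ hcard A hA hc
  by_contra hZ
  set M := Subgroup.centralizer (A : Set G) with hMdef
  have hcomm : ∀ a ∈ A, ∀ b ∈ A, a * b = b * a := hc A le_rfl hA
  have hAM : A ≤ M := fun a ha => Subgroup.mem_centralizer_iff.2 fun b hb => hcomm b hb a ha
  have hMtop : M ≠ ⊤ := fun e => hZ fun a ha => Subgroup.mem_center_iff.2 fun g => by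
    have hg : g ∈ M := by rw [e]; exact Subgroup.mem_top g
    exact (Subgroup.mem_centralizer_iff.1 hg a ha).symm
  -- every proper overgroup of `A` centralises `A`
  have hmax : ∀ H : Subgroup G, A ≤ H → H ≠ ⊤ → H ≤ M := by
    intro H hAH hH s hs
    have hlt : Nat.card H < n := by
      rw [← hcard]
      exact lt_of_le_of_ne (Subgroup.card_le_card_group H)
        (fun e => hH (Subgroup.eq_top_of_card_eq H e))
    haveI : Group.IsSolvable (A.subgroupOf H) := by
      haveI := hA
      exact solvable_of_solvable_injective (f := (Subgroup.subgroupOfEquivOfLe hAH).toMonoidHom)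
        (Subgroup.subgroupOfEquivOfLe hAH).injective
    have hloc := ih _ hlt H rfl (A.subgroupOf H) inferInstance (fun S hAS hS a ha t ht => by
      refine Subtype.ext (hc (S.map H.subtype) (fun b hb => ⟨⟨b, hAH hb⟩, hAS hb, rfl⟩)
        ?_ a ha t ⟨t, ht, rfl⟩)
      haveI := hS
      exact solvable_of_surjective (f := (S.equivMapOfInjective H.subtype
        H.subtype_injective).toMonoidHom)
        (S.equivMapOfInjective H.subtype H.subtype_injective).surjective)
    refine Subgroup.mem_centralizer_iff.2 fun a ha => ?_
    have h1 := Subgroup.mem_center_iff.1 (hloc (show (⟨a, hAH ha⟩ : H) ∈ A.subgroupOf H from ha))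
      ⟨s, hs⟩
    exact (congrArg Subtype.val h1).symm
  -- a group generated by `A` and one more element is not solvable unless it centralises `A`
  have hsolvG : ¬ Group.IsSolvable G := fun hG => hZ fun a ha => Subgroup.mem_center_iff.2 fun g =>
    (hc ⊤ le_top (by
      haveI := hG
      exact solvable_of_solvable_injective (f := (⊤ : Subgroup G).subtype)
        (⊤ : Subgroup G).subtype_injective) a ha g (Subgroup.mem_top g)).symm
  set Z := Subgroup.center G with hZdef
  have hZM : Z ≤ M := fun z hz => Subgroup.mem_centralizer_iff.2 fun a _ =>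
    Subgroup.mem_center_iff.1 hz a
  -- a conjugate of `M` containing `A` is `M`
  have hconj : ∀ g : G, (∀ a ∈ A, g⁻¹ * a * g ∈ M) → g ∈ Subgroup.normalizer (M : Set G) := by
    intro g hg
    let P := M.map (MulAut.conj g).toMonoidHom
    have hAP : A ≤ P := fun a ha => ⟨g⁻¹ * a * g, hg a ha, by simp [mul_assoc]⟩
    have hcardP : Nat.card P = Nat.card M :=
      Subgroup.card_map_of_injective (MulAut.conj g).injective
    have hPtop : P ≠ ⊤ := fun e => hMtop (Subgroup.eq_top_of_card_eq M (by
      rw [← hcardP, e, Subgroup.card_top]))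
    have heq : P = M := Subgroup.eq_of_le_of_card_ge (hmax P hAP hPtop) hcardP.symm.le
    refine Subgroup.mem_normalizer_iff.2 fun h => ⟨fun hh => ?_, fun hh => ?_⟩
    · rw [← heq]; exact ⟨h, hh, rfl⟩
    · have hh' : g * h * g⁻¹ ∈ P := by rw [heq]; exact hh
      obtain ⟨k, hk, hk'⟩ := hh'
      have : k = h := (MulAut.conj g).injective hk'
      exact this ▸ hk
  have hnorm : Subgroup.normalizer (M : Set G) = M := by
    rcases eq_or_ne (Subgroup.normalizer (M : Set G)) ⊤ with e | e
    · -- `M` normal: the normal closure of `A` is abelian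
      haveI hMn : M.Normal := Subgroup.normalizer_eq_top_iff.1 e
      exfalso
      have hN : Subgroup.normalClosure (A : Set G) ≤ M := Subgroup.normalClosure_le_normal hAM
      set N := Subgroup.normalClosure (A : Set G) with hNdef
      have hAN : A ≤ N := Subgroup.le_normalClosure
      refine hZ fun a ha => Subgroup.mem_center_iff.2 fun g => ?_
      have hNab : ∀ x ∈ N, ∀ y ∈ N, x * y = y * x := by
        have hsub : A ≤ Subgroup.centralizer (N : Set G) := fun b hb =>
          Subgroup.mem_centralizer_iff.2 fun y hy =>
            (Subgroup.mem_centralizer_iff.1 (hN hy) b hb).symm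
        haveI : (Subgroup.centralizer (N : Set G)).Normal := inferInstance
        have hNC : N ≤ Subgroup.centralizer (N : Set G) := Subgroup.normalClosure_le_normal hsub
        exact fun x hx y hy => (Subgroup.mem_centralizer_iff.1 (hNC hx) y hy).symm
      haveI : Group.IsSolvable N := isSolvable_of_comm fun x y =>
        Subtype.ext (hNab x x.2 y y.2)
      have hS : Group.IsSolvable ↥(N ⊔ Subgroup.zpowers g) := by
        set H := N ⊔ Subgroup.zpowers g with hH
        haveI hns : (N.subgroupOf H).Normal := Subgroup.normal_subgroupOf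
        haveI : Group.IsSolvable (N.subgroupOf H) :=
          solvable_of_solvable_injective
            (f := (Subgroup.subgroupOfEquivOfLe (le_sup_left : N ≤ H)).toMonoidHom)
            (Subgroup.subgroupOfEquivOfLe (le_sup_left : N ≤ H)).injective
        haveI : IsCyclic (H ⧸ N.subgroupOf H) := by
          refine ⟨⟨QuotientGroup.mk ⟨g, Subgroup.mem_sup_right (Subgroup.mem_zpowers g)⟩,
            fun q => ?_⟩⟩
          induction q using QuotientGroup.induction_on with
          | _ x =>
          obtain ⟨m, hm, w, hw, hx⟩ := (Subgroup.mem_sup_of_normal_left).1 x.2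
          obtain ⟨k, rfl⟩ := Subgroup.mem_zpowers_iff.1 hw
          refine ⟨k, ?_⟩
          simp only [← QuotientGroup.mk_zpow]
          rw [QuotientGroup.eq, Subgroup.mem_subgroupOf]
          simp only [Subgroup.coe_mul, InvMemClass.coe_inv, SubgroupClass.coe_zpow, ← hx]
          have hnN : (g ^ k)⁻¹ * m * g ^ k ∈ N := by
            have := Subgroup.Normal.conj_mem (inferInstance : N.Normal) m hm (g ^ k)⁻¹
            simpa using this
          simpa [mul_assoc] using hnN
        exact solvable_of_ker_le_range (N.subgroupOf H).subtype (QuotientGroup.mk' (N.subgroupOf H)) (by simp)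
      exact (hc _ (hAN.trans le_sup_left) hS a ha g
        (Subgroup.mem_sup_right (Subgroup.mem_zpowers g))).symm
    · exact le_antisymm (hmax _ (hAM.trans Subgroup.le_normalizer) e) Subgroup.le_normalizer
  -- modulo the centre, `M` is a Frobenius complement
  let f := QuotientGroup.mk' Z
  have hcomap : (M.map f).comap f = M := by
    rw [Subgroup.comap_map_eq, QuotientGroup.ker_mk']
    exact sup_eq_left.2 hZM
  have hF : IsFrobeniusComplement (M.map f) := by
    refine ⟨fun e => ?_, fun e => ?_, fun gb hgb => ?_⟩
    · rw [e, MonoidHom.comap_bot, QuotientGroup.ker_mk'] at hcomap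
      exact hZ (hAM.trans_eq hcomap.symm)
    · rw [e, Subgroup.comap_top] at hcomap
      exact hMtop hcomap.symm
    · rw [eq_bot_iff]
      intro xb hxb
      obtain ⟨hx1, hx2⟩ := hxb
      obtain ⟨g, rfl⟩ := QuotientGroup.mk'_surjective Z gb
      obtain ⟨x, rfl⟩ := QuotientGroup.mk'_surjective Z xb
      have hxM : x ∈ M := by rw [← hcomap]; exact hx1
      have hgxM : g⁻¹ * x * g ∈ M := by
        rw [← hcomap, Subgroup.mem_comap, map_mul, map_mul, map_inv]
        exact CfsgLib.Base.Frobenius.mem_conj_iff.1 hx2
      rw [Subgroup.mem_bot]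
      by_contra hx
      have hxZ : x ∉ Z := fun h => hx ((QuotientGroup.eq_one_iff x).2 h)
      have hAx : A ≤ Subgroup.centralizer ({x} : Set G) := fun a ha => by
        rw [Subgroup.mem_centralizer_singleton_iff]
        exact Subgroup.mem_centralizer_iff.1 hxM a ha
      have hCx : Subgroup.centralizer ({x} : Set G) ≠ ⊤ := fun e => hxZ
        (Subgroup.mem_center_iff.2 fun y => by
          have hy : y ∈ Subgroup.centralizer ({x} : Set G) := by rw [e]; trivial
          exact Subgroup.mem_centralizer_singleton_iff.1 hy)
      refine hgb (Subgroup.mem_map_of_mem f (hnorm.le (hconj g fun a ha => ?_)))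
      have hga : g * a * g⁻¹ ∈ Subgroup.centralizer ({x} : Set G) := by
        rw [Subgroup.mem_centralizer_singleton_iff]
        have h1 := Subgroup.mem_centralizer_iff.1 hgxM a ha
        calc g * a * g⁻¹ * x = g * (a * (g⁻¹ * x * g)) * g⁻¹ := by group
          _ = g * (g⁻¹ * x * g * a) * g⁻¹ := by rw [h1]
          _ = x * (g * a * g⁻¹) := by group
      have hgaM : g * a * g⁻¹ ∈ M := hmax _ hAx hCx hga
      refine Subgroup.mem_centralizer_iff.2 fun b hb => ?_
      have hgbM : g * b * g⁻¹ ∈ M := hmax _ hAx hCx (by
        rw [Subgroup.mem_centralizer_singleton_iff]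
        have h1 := Subgroup.mem_centralizer_iff.1 hgxM b hb
        calc g * b * g⁻¹ * x = g * (b * (g⁻¹ * x * g)) * g⁻¹ := by group
          _ = g * (g⁻¹ * x * g * b) * g⁻¹ := by rw [h1]
          _ = x * (g * b * g⁻¹) := by group)
      have h2 := Subgroup.mem_centralizer_iff.1 hgbM a ha
      calc b * (g⁻¹ * a * g) = g⁻¹ * (g * b * g⁻¹ * a) * g := by group
        _ = g⁻¹ * (a * (g * b * g⁻¹)) * g := by rw [h2]
        _ = g⁻¹ * a * g * b := by group
  obtain ⟨N, -, hNn, hNc, hNnil⟩ := CfsgLib.Base.Frobenius.exists_nilpotent_kernel hF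
  haveI := hNn
  set K := N.comap f with hKdef
  haveI hKn : K.Normal := hNn.comap f
  refine hsolvG ?_
  haveI : Group.IsSolvable N := by haveI := hNnil; infer_instance
  haveI hKs : Group.IsSolvable K := by
    let φ : K →* N := (f.comp K.subtype).codRestrict N fun x => x.2
    haveI : Group.IsSolvable Z := isSolvable_of_comm fun x y =>
      Subtype.ext (Subgroup.mem_center_iff.1 y.2 x)
    have hZK : Z ≤ K := fun z hz => by
      rw [hKdef, Subgroup.mem_comap, show f z = 1 from (QuotientGroup.eq_one_iff z).2 hz]
      exact N.one_mem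
    refine solvable_of_ker_le_range (Subgroup.inclusion hZK) φ ?_
    intro x hx
    have h1 : f (x : G) = 1 := congrArg Subtype.val hx
    exact ⟨⟨x, (QuotientGroup.eq_one_iff _).1 h1⟩, Subtype.ext rfl⟩
  have htop : A ⊔ K = ⊤ := by
    by_contra e
    have hKM : K ≤ M := le_sup_right.trans (hmax _ le_sup_left e)
    have hNM : N ≤ M.map f := fun y hy => by
      obtain ⟨x, rfl⟩ := QuotientGroup.mk'_surjective Z y
      exact Subgroup.mem_map_of_mem f (hKM hy)
    have hNbot : N = ⊥ := by
      have := hNc.disjoint.eq_bot
      rwa [inf_eq_left.2 hNM] at this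
    exact hF.2.1 (Subgroup.isComplement'_bot_left.1 (hNbot ▸ hNc))
  haveI : Group.IsSolvable (G ⧸ K) := by
    haveI := hA
    refine solvable_of_surjective (f := (QuotientGroup.mk' K).comp A.subtype) fun q => ?_
    obtain ⟨g, rfl⟩ := QuotientGroup.mk'_surjective K q
    have hg : g ∈ A ⊔ K := by rw [htop]; trivial
    obtain ⟨a, ha, k, hk, rfl⟩ := Subgroup.mem_sup_of_normal_right.1 hg
    refine ⟨⟨a, ha⟩, ?_⟩
    rw [map_mul, show (QuotientGroup.mk' K) k = 1 from (QuotientGroup.eq_one_iff k).2 hk, mul_one]
    rfl
  exact solvable_of_ker_le_range K.subtype (QuotientGroup.mk' K) (by simp)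

end CfsgLib.FTCons
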