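import Cfsg.Agent.Lib.FTCons.LBalance

/-!
# A component of an involution centraliser inside the layer

If `L_{2'}(G) = E(G)`, a component `L` of `C(t)` lies in the product of one `⟨t⟩`-orbit of components.
-/

set_option autoImplicit false
set_option linter.style.haveILetI false
set_option linter.unusedSectionVars false

open scoped commutatorElement Pointwise

namespace CfsgLib.LBalance

open Cfsg Subgroup CfsgLib.Base CfsgLib.Components

universe u

variable {G : Type u} [Group G] [Finite G]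

/-- An element centralised by an involution of a product of two commuting invariant factors has its
commutators in the product of the fixed points. -/
theorem commutator_le_sup_fixed {t : G} {M R L : Subgroup G}
    (hcomm : ⁅M, R⁆ = ⊥) (hM : ∀ x ∈ M, t * x * t⁻¹ ∈ M) (hR : ∀ x ∈ R, t * x * t⁻¹ ∈ R)
    (hL : L ≤ M ⊔ R) (hLt : L ≤ centralizer ({t} : Set G)) (hperf : ⁅L, L⁆ = L) :
    L ≤ (M ⊓ centralizer ({t} : Set G)) ⊔ (R ⊓ centralizer ({t} : Set G)) := by
  have hc : ∀ m ∈ M, ∀ r ∈ R, m * r = r * m := fun m hm r hr =>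
    (mem_centralizer_iff.1 (commutator_eq_bot_iff_le_centralizer.1 hcomm hm) r hr).symm
  have hMR : R ≤ normalizer (M : Set G) :=
    ((commutator_eq_bot_iff_le_centralizer.1 (by rw [commutator_comm]; exact hcomm)).trans
      (centralizer_le_normalizer _))
  let σ : G →* G := (MulAut.conj t).toMonoidHom
  have hσ : ∀ x, σ x = t * x * t⁻¹ := fun x => rfl
  -- the two parts of a fixed element are fixed up to an element of `M ⊓ R`
  have hsplit : ∀ a ∈ L, ∃ m ∈ M, ∃ r ∈ R, a = m * r ∧
      m⁻¹ * σ m ∈ M ⊓ R ∧ r⁻¹ * σ r ∈ M ⊓ R := by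
    intro a ha
    have hmem := hL ha
    rw [← SetLike.mem_coe, coe_mul_of_right_le_normalizer_left M R hMR] at hmem
    obtain ⟨m, hm, r, hr, rfl⟩ := hmem
    have hfix : σ m * σ r = m * r := by
      rw [← map_mul, hσ, mul_inv_eq_iff_eq_mul]
      exact (mem_centralizer_singleton_iff.1 (hLt ha)).symm
    have hmM : m⁻¹ * σ m ∈ M := mul_mem (inv_mem hm) (hM m hm)
    have hrR : r * (σ r)⁻¹ ∈ R := mul_mem hr (inv_mem (hR r hr))
    have e : m⁻¹ * σ m = r * (σ r)⁻¹ := by
      rw [eq_mul_inv_iff_mul_eq, mul_assoc, hfix, inv_mul_cancel_left]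
    have hz : m⁻¹ * σ m ∈ M ⊓ R := ⟨hmM, e ▸ hrR⟩
    have h3 : r⁻¹ * σ r = (m⁻¹ * σ m)⁻¹ := by
      have hcr : (r * (σ r)⁻¹) * r = r * (r * (σ r)⁻¹) := hc _ (e ▸ hmM) r hr
      rw [e]
      calc r⁻¹ * σ r = r⁻¹ * ((r * (σ r)⁻¹)⁻¹ * r) := by group
        _ = r⁻¹ * (r * (r * (σ r)⁻¹)⁻¹) := by
            rw [(Commute.inv_left (show Commute _ r from hcr)).eq]
        _ = (r * (σ r)⁻¹)⁻¹ := by rw [inv_mul_cancel_left]
    exact ⟨m, hm, r, hr, rfl, hz, h3 ▸ inv_mem hz⟩
  conv_lhs => rw [← hperf]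
  rw [Subgroup.commutator_le]
  intro a ha b hb
  obtain ⟨m, hm, r, hr, rfl, hzm, hzr⟩ := hsplit a ha
  obtain ⟨m', hm', r', hr', rfl, hzm', hzr'⟩ := hsplit b hb
  -- commuting elements
  have hmr : ∀ x ∈ M, ∀ y ∈ R, Commute x y := hc
  have hmul : ∀ {X : Subgroup G}, (∀ z ∈ M ⊓ R, ∀ x ∈ X, Commute z x) → ∀ x y : G, x ∈ X → y ∈ X →
      x⁻¹ * σ x ∈ M ⊓ R → y⁻¹ * σ y ∈ M ⊓ R → t * ⁅x, y⁆ = ⁅x, y⁆ * t := by
    intro X hX x y hx hy hxz hyz
    have hfix : σ ⁅x, y⁆ = ⁅x, y⁆ := by
      have cz : Commute (x⁻¹ * σ x) (y⁻¹ * σ y) := hmr _ hxz.1 _ hyz.2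
      rw [map_commutatorElement, show σ x = x * (x⁻¹ * σ x) by group,
        show σ y = y * (y⁻¹ * σ y) by group]
      generalize x⁻¹ * σ x = z at cz hxz
      generalize y⁻¹ * σ y = w at cz hyz
      have cx : ∀ {v}, v ∈ X → Commute z v ∧ Commute w v := fun hv => ⟨hX _ hxz _ hv, hX _ hyz _ hv⟩
      rw [commutatorElement_def, commutatorElement_def]
      calc x * z * (y * w) * (x * z)⁻¹ * (y * w)⁻¹
          = x * (z * y) * (w * z⁻¹ * x⁻¹) * (w⁻¹ * y⁻¹) := by group
        _ = x * (y * z) * (w * z⁻¹ * x⁻¹) * (w⁻¹ * y⁻¹) := by rw [(cx hy).1.eq]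
        _ = x * y * (z * w * z⁻¹ * (x⁻¹ * w⁻¹)) * y⁻¹ := by group
        _ = x * y * (w * (x⁻¹ * w⁻¹)) * y⁻¹ := by rw [cz.eq, mul_inv_cancel_right]
        _ = x * y * x⁻¹ * y⁻¹ := by
            rw [← mul_assoc w, (cx (inv_mem hx)).2.eq, mul_inv_cancel_right]
    rw [hσ, mul_inv_eq_iff_eq_mul] at hfix
    exact hfix
  have hcM := hmul (X := M) (fun z hz x hx => (hmr x hx z hz.2).symm) m m' hm hm' hzm hzm'
  have hcR := hmul (X := R) (fun z hz x hx => hmr z hz.1 x hx) r r' hr hr' hzr hzr'
  have e : ⁅m * r, m' * r'⁆ = ⁅m, m'⁆ * ⁅r, r'⁆ := by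
    have c1 : Commute r m' := (hmr m' hm' r hr).symm
    have c2 : Commute (r * r' * r⁻¹) m⁻¹ :=
      (hmr _ (inv_mem hm) _ (mul_mem (mul_mem hr hr') (inv_mem hr))).symm
    have c3 : Commute (r * r' * r⁻¹ * r'⁻¹) m'⁻¹ :=
      (hmr _ (inv_mem hm') _ (mul_mem (mul_mem (mul_mem hr hr') (inv_mem hr)) (inv_mem hr'))).symm
    rw [commutatorElement_def, commutatorElement_def, commutatorElement_def]
    calc m * r * (m' * r') * (m * r)⁻¹ * (m' * r')⁻¹
        = m * (r * m') * r' * r⁻¹ * m⁻¹ * r'⁻¹ * m'⁻¹ := by group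
      _ = m * (m' * r) * r' * r⁻¹ * m⁻¹ * r'⁻¹ * m'⁻¹ := by rw [c1.eq]
      _ = m * m' * (r * r' * r⁻¹ * m⁻¹) * r'⁻¹ * m'⁻¹ := by group
      _ = m * m' * (m⁻¹ * (r * r' * r⁻¹)) * r'⁻¹ * m'⁻¹ := by rw [c2.eq]
      _ = m * m' * m⁻¹ * (r * r' * r⁻¹ * r'⁻¹ * m'⁻¹) := by group
      _ = m * m' * m⁻¹ * (m'⁻¹ * (r * r' * r⁻¹ * r'⁻¹)) := by rw [c3.eq]
      _ = m * m' * m⁻¹ * m'⁻¹ * (r * r' * r⁻¹ * r'⁻¹) := by group
  rw [e]
  exact mul_mem
    (mem_sup_left (show ⁅m, m'⁆ ∈ M ⊓ centralizer ({t} : Set G) from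
      mem_inf.2 ⟨mul_mem (mul_mem (mul_mem hm hm') (inv_mem hm)) (inv_mem hm'),
      mem_centralizer_singleton_iff.2 hcM.symm⟩))
    (mem_sup_right (show ⁅r, r'⁆ ∈ R ⊓ centralizer ({t} : Set G) from
      mem_inf.2 ⟨mul_mem (mul_mem (mul_mem hr hr') (inv_mem hr)) (inv_mem hr'),
      mem_centralizer_singleton_iff.2 hcR.symm⟩))

/-- The trichotomy for a component of an involution centraliser. -/
theorem component_trichotomy (hL2 : pLayer 2 G = layer G) (t : G) (ht : orderOf t = 2)
    (L : Subgroup G) (hLt : L ≤ centralizer ({t} : Set G))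
    (hL : IsComponent (L.subgroupOf (centralizer ({t} : Set G)))) :
    ∃ D : Subgroup G, IsComponent D ∧ (L = D ∨ (L < D ∧ D = ⁅D, zpowers t⁆) ∨
      (D.map (MulAut.conj t).toMonoidHom ≠ D ∧ L = (layer
        ↥((D ⊔ D.map (MulAut.conj t).toMonoidHom) ⊓ centralizer ({t} : Set G))).map
          ((D ⊔ D.map (MulAut.conj t).toMonoidHom) ⊓ centralizer ({t} : Set G)).subtype)) := by
  classical
  set C := centralizer ({t} : Set G) with hCdef
  set LC := L.subgroupOf C with hLC
  have hperf : ⁅L, L⁆ = L := by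
    have h := congrArg (Subgroup.map C.subtype) (component_commutator_self hL)
    rwa [map_commutator, map_subgroupOf_eq_of_le hLt] at h
  have hLne : L ≠ ⊥ := fun h => component_ne_bot hL (by rw [hLC, h, bot_subgroupOf])
  -- `L` lies in `E(G)`
  have hLE : L ≤ layer G := by
    have h2 : 2 ∣ Nat.card LC := by
      by_contra h
      exact quasisimple_not_isSolvable hL.2
        (CfsgLib.FT.isSolvable_of_odd (Nat.odd_iff.2 (Nat.two_dvd_ne_zero.1 h)))
    have h3 : IsPComponent 2 LC := (component_isPComponent_iff hL).2 h2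
    have hT : IsPGroup 2 (zpowers t) := IsPGroup.of_card (n := 1) (by rw [Nat.card_zpowers, ht, pow_one])
    have h4 := map_pLayer_centralizer_le (zpowers t) hT
    rw [zpowers_eq_closure, centralizer_closure, ← hCdef] at h4
    rw [← map_subgroupOf_eq_of_le hLt, ← hL2]
    exact (map_mono (pComponent_le_pLayer h3)).trans h4
  have htt : ∀ x : G, t * (t * x * t⁻¹) * t⁻¹ = x := by
    have h2 : t * t = 1 := by rw [← sq, ← ht, pow_orderOf_eq_one]
    intro x
    rw [show t * (t * x * t⁻¹) * t⁻¹ = (t * t) * x * (t * t)⁻¹ by group, h2]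
    group
  let τ : Subgroup G → Subgroup G := fun D => D.map (MulAut.conj t).toMonoidHom
  have hττ : ∀ D, τ (τ D) = D := fun D => by
    ext x
    constructor
    · rintro ⟨_, ⟨y, hy, rfl⟩, rfl⟩
      show t * (t * y * t⁻¹) * t⁻¹ ∈ D
      rwa [htt]
    · intro hx
      exact ⟨t * x * t⁻¹, ⟨x, hx, rfl⟩, htt x⟩
  -- some orbit contains `L`
  obtain ⟨D, hD, hLD⟩ : ∃ D, IsComponent D ∧ L ≤ D ⊔ τ D := by
    by_contra hne
    push Not at hne
    haveI : Fintype (Subgroup G) := Fintype.ofFinite _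
    suffices H : ∀ S : Finset (Subgroup G), (∀ D ∈ S, IsComponent D) → (∀ D ∈ S, τ D ∈ S) →
        ¬ L ≤ S.sup id by
      refine H (Finset.univ.filter fun D => IsComponent D) (by simp)
        (fun D hD => Finset.mem_filter.2 ⟨Finset.mem_univ _, isComponent_conj (Finset.mem_filter.1 hD).2 t⟩) (hLE.trans ?_)
      exact layer_le_iff.2 fun D hD => Finset.le_sup (f := id) (by simp [hD])
    intro S
    induction S using Finset.strongInduction with
    | H S ih =>
    intro hS hinv hle
    rcases S.eq_empty_or_nonempty with rfl | ⟨D, hD⟩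
    · exact hLne (le_bot_iff.1 (hle.trans (le_of_eq Finset.sup_empty)))
    set S' := (S.erase D).erase (τ D) with hS'
    set R := S'.sup id with hR
    set M := D ⊔ τ D with hM
    have hS'sub : ∀ E ∈ S', E ∈ S ∧ E ≠ D ∧ E ≠ τ D := fun E hE => by
      rw [hS', Finset.mem_erase, Finset.mem_erase] at hE
      exact ⟨hE.2.2, hE.2.1, hE.1⟩
    have hinv' : ∀ E ∈ S', τ E ∈ S' := fun E hE => by
      obtain ⟨h1, h2, h3⟩ := hS'sub E hE
      rw [hS', Finset.mem_erase, Finset.mem_erase]
      exact ⟨fun h => h2 (by rw [← hττ E, h, hττ]), fun h => h3 (by rw [← hττ E, h]), hinv E h1⟩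
    have hτmap : ∀ X : Subgroup G, (∀ y ∈ X, t * y * t⁻¹ ∈ X) ↔ τ X ≤ X := fun X =>
      ⟨fun h => by rintro _ ⟨y, hy, rfl⟩; exact h y hy, fun h y hy => h ⟨y, hy, rfl⟩⟩
    have hMinv : τ M ≤ M := by
      show (D ⊔ τ D).map _ ≤ _
      rw [Subgroup.map_sup]
      exact sup_le le_sup_right ((hττ D).le.trans le_sup_left)
    have hRinv : τ R ≤ R := by
      rw [show τ R ≤ R ↔ R ≤ Subgroup.comap (MulAut.conj t).toMonoidHom R from map_le_iff_le_comap]
      refine Finset.sup_le fun E hE => map_le_iff_le_comap.1 ?_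
      exact Finset.le_sup (f := id) (hinv' E hE)
    have hMR : ⁅M, R⁆ = ⊥ := by
      rw [commutator_eq_bot_iff_le_centralizer, le_centralizer_iff]
      refine Finset.sup_le fun E hE => ?_
      obtain ⟨h1, h2, h3⟩ := hS'sub E hE
      rw [id, le_centralizer_iff, hM]
      exact sup_le (commutator_eq_bot_iff_le_centralizer.1 (components_commute (hS D hD) (hS E h1) (Ne.symm h2)))
        (commutator_eq_bot_iff_le_centralizer.1
          (components_commute (hS _ (hinv D hD)) (hS E h1) (Ne.symm h3)))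
    have hsup : S.sup id ≤ M ⊔ R := Finset.sup_le fun E hE => by
      by_cases h2 : E = D
      · exact h2 ▸ le_sup_of_le_left le_sup_left
      by_cases h3 : E = τ D
      · exact h3 ▸ le_sup_of_le_left le_sup_right
      exact le_sup_of_le_right (Finset.le_sup (f := id) (by simp [hS', h2, h3, hE]))
    have hfix := commutator_le_sup_fixed hMR ((hτmap M).2 hMinv) ((hτmap R).2 hRinv)
      (hle.trans hsup) hLt hperf
    have hMsub : M.IsSubnormal := by
      have hn : (M.subgroupOf (layer G)).Normal := by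
        refine normal_subgroupOf_of_le_normalizer fun x hx => mem_normalizer_iff_map_conj_eq.2 ?_
        have h1 := mem_normalizer_iff_map_conj_eq.1 (layer_le_normalizer_of_subnormal (hS D hD).1 hx)
        have h2 := mem_normalizer_iff_map_conj_eq.1
          (layer_le_normalizer_of_subnormal (hS _ (hinv D hD)).1 hx)
        rw [hM, Subgroup.map_sup, h1, h2]
      exact IsSubnormal.step _ _ (sup_le (component_le_layer (hS D hD))
        (component_le_layer (hS _ (hinv D hD)))) (layer_normal).isSubnormal hn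
    have hRsub : R.IsSubnormal := by
      have hn : (R.subgroupOf (layer G)).Normal := by
        refine normal_subgroupOf_of_le_normalizer fun x hx => ?_
        refine mem_normalizer_iff_map_conj_eq.2 (eq_of_le_of_card_ge ?_
          (Subgroup.card_map_of_injective (MulAut.conj x).injective).ge)
        rw [map_le_iff_le_comap]
        refine Finset.sup_le fun E hE => map_le_iff_le_comap.1 ?_
        have he := mem_normalizer_iff_map_conj_eq.1
          (layer_le_normalizer_of_subnormal (hS E (hS'sub E hE).1).1 hx)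
        exact he.le.trans (Finset.le_sup (f := id) hE)
      exact IsSubnormal.step _ _ (Finset.sup_le fun E hE => component_le_layer (hS E (hS'sub E hE).1))
        (layer_normal).isSubnormal hn
    have hnotM : ¬ L ≤ M := hne D (hS D hD)
    have hcM : L ≤ centralizer ((M ⊓ C : Subgroup G) : Set G) := by
      rcases component_le_or_commutator_eq_bot hL (hMsub.subgroupOf (K := C)) with h | h
      · exact absurd (fun x hx => h (show (⟨x, hLt hx⟩ : C) ∈ LC from hx)) hnotM
      · have h' := congrArg (Subgroup.map C.subtype) h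
        rw [map_commutator, map_subgroupOf_eq_of_le hLt, Subgroup.map_bot, subgroupOf_map_subtype,
          commutator_eq_bot_iff_le_centralizer] at h'
        exact h'
    have hcR : L ≤ R := by
      rcases component_le_or_commutator_eq_bot hL (hRsub.subgroupOf (K := C)) with h | h
      · exact fun x hx => h (show (⟨x, hLt hx⟩ : C) ∈ LC from hx)
      · exfalso
        have h' := congrArg (Subgroup.map C.subtype) h
        rw [map_commutator, map_subgroupOf_eq_of_le hLt, Subgroup.map_bot, subgroupOf_map_subtype,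
          commutator_eq_bot_iff_le_centralizer] at h'
        have hab : L ≤ centralizer (L : Set G) := fun a ha => mem_centralizer_iff.2 fun b hb =>
          mem_centralizer_singleton_iff.1 ((hfix.trans (sup_le
            (fun w hw => mem_centralizer_singleton_iff.2 (mem_centralizer_iff.1 (hcM ha) w hw))
            (fun w hw => mem_centralizer_singleton_iff.2 (mem_centralizer_iff.1 (h' ha) w hw))))
            hb : b ∈ centralizer ({a} : Set G))
        rw [← commutator_eq_bot_iff_le_centralizer, hperf] at hab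
        exact hLne hab
    exact ih S' (Finset.ssubset_of_subset_of_ssubset (Finset.erase_subset _ _)
      (Finset.erase_ssubset hD)) (fun E hE => hS E (hS'sub E hE).1) hinv' hcR
  refine ⟨D, hD, ?_⟩
  by_cases hfixD : τ D = D
  · rw [hfixD, sup_idem] at hLD
    by_cases hLeq : L = D
    · exact Or.inl hLeq
    refine Or.inr (Or.inl ⟨lt_of_le_of_ne hLD hLeq, ?_⟩)
    have htN : zpowers t ≤ normalizer (D : Set G) :=
      zpowers_le.2 (mem_normalizer_iff_map_conj_eq.2 hfixD)
    have hle : ⁅D, zpowers t⁆ ≤ D := by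
      rw [Subgroup.commutator_le]
      intro a ha b hb
      rw [commutatorElement_def, show a * b * a⁻¹ * b⁻¹ = a * (b * a⁻¹ * b⁻¹) by group]
      exact mul_mem ha ((mem_normalizer_iff.1 (htN hb) _).1 (inv_mem ha))
    haveI hn : (⁅D, zpowers t⁆.subgroupOf D).Normal :=
      normal_subgroupOf_of_le_normalizer (normalizer_commutator_ge_left _ _)
    rcases quasisimple_normal_eq_top_or_le_center hD.2 (⁅D, zpowers t⁆.subgroupOf D) with h | h
    · exact le_antisymm (subgroupOf_eq_top.1 h) hle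
    · exfalso
      have hφ := eq_self_of_mod_center hD.2.1.commutator_eq_top
        (D.normalizerMonoidHom ⟨t, htN (mem_zpowers t)⟩) fun a => by
          refine h (show t * a * t⁻¹ * (a : G)⁻¹ ∈ ⁅D, zpowers t⁆ from ?_)
          rw [commutator_comm]
          exact commutator_mem_commutator (mem_zpowers t) a.2
      have hDC : D ≤ C := fun a ha => mem_centralizer_singleton_iff.2
        (mul_inv_eq_iff_eq_mul.1 (show t * a * t⁻¹ = a from congrArg Subtype.val (hφ ⟨a, ha⟩))).symm
      have := component_eq_of_le hL (isComponent_subgroupOf hDC hD)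
        (fun x hx => hLD hx)
      apply hLeq
      rw [← map_subgroupOf_eq_of_le hLt, ← hLC, this, map_subgroupOf_eq_of_le hDC]
  · refine Or.inr (Or.inr ⟨hfixD, ?_⟩)
    set W := (D ⊔ τ D) ⊓ C with hW
    have hcomm : ∀ a ∈ D, ∀ b ∈ τ D, Commute a b := fun a ha b hb =>
      (mem_centralizer_iff.1 (commutator_eq_bot_iff_le_centralizer.1
        (components_commute hD (isComponent_conj hD t) (Ne.symm hfixD)) ha) b hb).symm
    let δ : D →* W := MonoidHom.mk' (fun d => ⟨(d : G) * (t * d * t⁻¹),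
      mem_inf.2 ⟨mul_mem (mem_sup_left d.2) (mem_sup_right ⟨d, d.2, rfl⟩),
        mem_centralizer_singleton_iff.2 (by
          have h : Commute (d : G) (t * d * t⁻¹) := hcomm d d.2 _ ⟨d, d.2, rfl⟩
          have h2 : t * ((d : G) * (t * d * t⁻¹)) * t⁻¹ = t * d * t⁻¹ * d := by
            rw [show t * ((d : G) * (t * d * t⁻¹)) * t⁻¹ =
              t * d * t⁻¹ * (t * (t * d * t⁻¹) * t⁻¹) by group, htt]
          rw [← h.eq] at h2
          exact (mul_inv_eq_iff_eq_mul.1 h2).symm)⟩⟩) fun a b => Subtype.ext (by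
        show (a : G) * b * (t * ((a : G) * b) * t⁻¹) = a * (t * a * t⁻¹) * (b * (t * b * t⁻¹))
        have h : Commute (b : G) (t * a * t⁻¹) := hcomm b b.2 _ ⟨a, a.2, rfl⟩
        calc (a : G) * b * (t * ((a : G) * b) * t⁻¹)
            = a * (b * (t * a * t⁻¹)) * (t * b * t⁻¹) := by group
          _ = a * (t * a * t⁻¹ * b) * (t * b * t⁻¹) := by rw [h.eq]
          _ = _ := by group)
    set Z := (center ↥W) with hZ
    have hcover : ∀ w : W, w ∈ δ.range ⊔ Z := by
      rintro ⟨w, hw⟩
      obtain ⟨hwM, hwt⟩ := mem_inf.1 hw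
      have hMR : τ D ≤ normalizer (D : Set G) := fun b hb => centralizer_le_normalizer _
        (mem_centralizer_iff.2 fun a ha => hcomm a ha b hb)
      rw [← SetLike.mem_coe, coe_mul_of_right_le_normalizer_left D (τ D) hMR] at hwM
      obtain ⟨d, hd, e, he, rfl⟩ := hwM
      have hσe : t * e * t⁻¹ ∈ D := by
        obtain ⟨y, hy, rfl⟩ := he
        show t * (t * y * t⁻¹) * t⁻¹ ∈ D
        rwa [htt]
      have hfix : t * d * t⁻¹ * (t * e * t⁻¹) = d * e := by
        rw [show t * d * t⁻¹ * (t * e * t⁻¹) = t * (d * e) * t⁻¹ by group, mul_inv_eq_iff_eq_mul]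
        exact (mem_centralizer_singleton_iff.1 hwt).symm
      -- `z = (tdt)⁻¹ e` lies in both factors
      set z := (t * d * t⁻¹)⁻¹ * e with hz
      have hzE : z ∈ τ D := mul_mem (inv_mem ⟨d, hd, rfl⟩) he
      have hzD : z ∈ D := by
        have h : Commute d (t * d * t⁻¹) := hcomm d hd _ ⟨d, hd, rfl⟩
        have h5 : z = d⁻¹ * (t * e * t⁻¹) := by
          rw [hz, inv_mul_eq_iff_eq_mul, ← mul_assoc,
            ← (Commute.inv_left h).eq, mul_assoc, hfix, inv_mul_cancel_left]
        rw [h5]; exact mul_mem (inv_mem hd) hσe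
      have hcen : ∀ x ∈ D ⊔ τ D, x * z = z * x := by
        intro x hx
        have hle : D ⊔ τ D ≤ centralizer ({z} : Set G) := sup_le
          (fun a ha => mem_centralizer_singleton_iff.2 (hcomm a ha z hzE).eq)
          (fun b hb => mem_centralizer_singleton_iff.2 (hcomm z hzD b hb).symm.eq)
        exact mem_centralizer_singleton_iff.1 (hle hx)
      have hzW : z ∈ W := by
        have h : d * e = (δ ⟨d, hd⟩ : G) * z := by
          show d * e = d * (t * d * t⁻¹) * z
          rw [hz, mul_assoc, mul_inv_cancel_left]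
        have h6 : z = ((δ ⟨d, hd⟩ : W) : G)⁻¹ * (d * e) := by rw [h, inv_mul_cancel_left]
        rw [h6]; exact mul_mem (inv_mem (δ ⟨d, hd⟩).2) hw
      have hw' : (⟨d * e, hw⟩ : W) = δ ⟨d, hd⟩ * ⟨z, hzW⟩ := Subtype.ext (by
        show d * e = d * (t * d * t⁻¹) * z
        rw [hz, mul_assoc, mul_inv_cancel_left])
      rw [hw']
      exact mul_mem (mem_sup_left ⟨_, rfl⟩) (mem_sup_right (mem_center_iff.2 fun y =>
        Subtype.ext (hcen y y.2.1)))
    have hsupT : δ.range ⊔ Z = ⊤ := eq_top_iff.2 fun w _ => hcover w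
    haveI hδn : δ.range.Normal := by
      refine ⟨fun x hx g => ?_⟩
      obtain ⟨a, ha, b, hb, hab⟩ := mem_sup_of_normal_right.1 (hcover g)
      rw [← hab, show a * b * x * (a * b)⁻¹ = a * (b * x * b⁻¹) * a⁻¹ by group,
        ← (mem_center_iff.1 hb x), mul_inv_cancel_right]
      exact mul_mem (mul_mem ha hx) (inv_mem ha)
    have hLW : L ≤ W := le_inf hLD hLt
    haveI hZs : Group.IsSolvable ↥Z := Group.isSolvable_of_comm fun a b =>
      Subtype.ext (mem_center_iff.1 b.2 a)
    have hperfle : ∀ K : Subgroup W, ⁅K, K⁆ = K → K ≤ δ.range := fun K hK =>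
      le_of_perfect_of_le_sup hK hZs (le_top.trans hsupT.ge)
    have hLW' : IsComponent (L.subgroupOf W) := by
      have h := isComponent_subgroupOf (H := W.subgroupOf C)
        (fun x (hx : x ∈ LC) => hLW hx) hL
      have h2 := isComponent_map_equiv (subgroupOfEquivOfLe (inf_le_right : W ≤ C)) h
      convert h2 using 1
      ext ⟨x, hx⟩
      simp only [Subgroup.mem_map, mem_subgroupOf, hLC]
      constructor
      · intro h
        exact ⟨⟨⟨x, hx.2⟩, hx⟩, h, rfl⟩
      · rintro ⟨⟨⟨y, _⟩, _⟩, hy, hyx⟩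
        have e : y = x := congrArg Subtype.val hyx
        exact e ▸ hy
    haveI : Nontrivial δ.range := by
      rw [nontrivial_iff_ne_bot]
      intro h
      exact component_ne_bot hLW' (le_bot_iff.1 (h ▸ hperfle _ (component_commutator_self hLW')))
    have hδc : IsComponent δ.range :=
      ⟨hδn.isSubnormal, isQuasisimple_of_surjective hD.2 δ.rangeRestrict δ.rangeRestrict_surjective⟩
    have heq : ∀ K : Subgroup W, IsComponent K → K = δ.range := fun K hK =>
      component_eq_of_le hK hδc (hperfle K (component_commutator_self hK))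
    have hlay : layer W = δ.range :=
      le_antisymm (layer_le_iff.2 fun K hK => (heq K hK).le) (component_le_layer hδc)
    show L = (layer W).map W.subtype
    rw [hlay, ← heq _ hLW', map_subgroupOf_eq_of_le hLW]

end CfsgLib.LBalance
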