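import Cfsg.Agent.Lib.Involutions.BaerSuzuki
import Cfsg.Agent.Lib.Coprime.Action2
import Cfsg.Agent.Lib.Base.Rank
import Cfsg.Agent.Lib.Base.MinimalNormal
import Cfsg.Agent.Lib.PGroups.Basic

/-!
Two automorphisms of prime power order which move a group of exponent `p` only inside a cyclic
subgroup generate a `p`-group or a group of even order; as a consequence, a Sylow subgroup with
cyclic derived group of a solvable group of odd order lies in `O_{p',p}`.
-/

set_option autoImplicit false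
set_option linter.style.haveILetI false

universe u

namespace CfsgLib.FTCons

open scoped Pointwise commutatorElement
open Cfsg

variable {p : ℕ} [hp : Fact p.Prime] {W : Type u} [Group W] [Finite W]

/-- `a` moves every element inside `U`. -/
def MovesIn (U : Subgroup W) (a : MulAut W) : Prop := ∀ w : W, w⁻¹ * a w ∈ U

theorem apply_eq_of_movesIn {L : Subgroup W} (hL : Nat.card L = p) {σ : MulAut W}
    (hσ : IsPGroup p (Subgroup.zpowers σ)) (hmem : ∀ l ∈ L, σ l ∈ L) : ∀ l ∈ L, σ l = l := by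
  haveI : IsMulCommutative L := by
    haveI := isCyclic_of_prime_card hL
    exact ⟨⟨fun a b => (IsCyclic.commGroup (α := L)).mul_comm a b⟩⟩
  obtain ⟨k, hk⟩ := hσ ⟨σ, Subgroup.mem_zpowers σ⟩
  have hk' : σ ^ p ^ k = 1 := congrArg Subtype.val hk
  intro l hl
  rcases eq_or_ne l 1 with rfl | hl1
  · exact map_one σ
  have hgen : Subgroup.zpowers (⟨l, hl⟩ : L) = ⊤ :=
    zpowers_eq_top_of_prime_card hL (fun e => hl1 (congrArg Subtype.val e))
  obtain ⟨m, hm⟩ : ∃ m : ℕ, σ l = l ^ m := by
    have h1 : (⟨σ l, hmem l hl⟩ : L) ∈ Subgroup.zpowers (⟨l, hl⟩ : L) := by rw [hgen]; trivial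
    rw [← mem_powers_iff_mem_zpowers] at h1
    obtain ⟨m, hm⟩ := h1
    exact ⟨m, (congrArg Subtype.val hm).symm⟩
  have hpow : ∀ i : ℕ, (σ ^ i) l = l ^ m ^ i := by
    intro i
    induction i with
    | zero => simp
    | succ i ih => rw [pow_succ, MulAut.mul_apply, hm, map_pow, ih, ← pow_mul, ← pow_succ]
  have ho : orderOf l = p := by
    have := Subgroup.orderOf_dvd_natCard L hl
    rw [hL] at this
    exact ((Nat.dvd_prime hp.out).1 this).resolve_left (fun e => hl1 (orderOf_eq_one_iff.1 e))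
  have h2 : m ^ p ^ k ≡ 1 [MOD p] := by
    have h4 := hpow (p ^ k)
    rw [hk', MulAut.one_apply] at h4
    rw [← ho, ← pow_eq_pow_iff_modEq, pow_one, ho]
    exact h4.symm
  have h3 : m ≡ 1 [MOD p] := by
    rw [← ZMod.natCast_eq_natCast_iff] at h2 ⊢
    rw [Nat.cast_pow, ZMod.pow_card_pow] at h2
    exact h2
  rw [hm]
  nth_rw 2 [← pow_one l]
  rw [pow_eq_pow_iff_modEq, ho]; exact h3

/-- The automorphisms trivial on `U` and on the cosets of `U` have exponent `p`. -/
theorem pow_prime_eq_one (hW : ∀ w : W, w ^ p = 1) {U : Subgroup W} {a : MulAut W}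
    (h1 : ∀ u ∈ U, a u = u) (h2 : MovesIn U a) : a ^ p = 1 := by
  refine MulEquiv.ext fun w => ?_
  have key : ∀ i : ℕ, (a ^ i) w = w * (w⁻¹ * a w) ^ i := by
    intro i
    induction i with
    | zero => simp
    | succ i ih =>
      rw [pow_succ', MulAut.mul_apply, ih, map_mul, map_pow, h1 _ (h2 w), pow_succ',
        ← mul_assoc w, mul_inv_cancel_left]
  rw [key, hW, mul_one, MulAut.one_apply]

/-- Two such automorphisms generate a `p`-group if the first is trivial on `U`. -/
theorem isPGroup_closure_of_trivial (hW : ∀ w : W, w ^ p = 1) {U : Subgroup W} {σ τ : MulAut W}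
    (hσU : ∀ u ∈ U, σ u = u) (hσ : MovesIn U σ) (hτ : MovesIn U τ)
    (hτp : IsPGroup p (Subgroup.zpowers τ)) :
    IsPGroup p (Subgroup.closure ({σ, τ} : Set (MulAut W))) := by
  obtain ⟨k, hk⟩ := hτp ⟨τ, Subgroup.mem_zpowers τ⟩
  have hk' : τ ^ p ^ k = 1 := congrArg Subtype.val hk
  let P : MulAut W → Prop := fun a => MovesIn U a ∧ ∃ i : ℤ, ∀ u ∈ U, a u = (τ ^ i) u
  have hmemU : ∀ a : MulAut W, MovesIn U a → ∀ u ∈ U, a u ∈ U := fun a ha u hu => by
    have := U.mul_mem hu (ha u)
    simpa using this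
  have hone : P 1 := ⟨fun w => by simp, 0, fun u _ => by simp⟩
  have hmul : ∀ a b, P a → P b → P (a * b) := by
    rintro a b ⟨ha, i, hi⟩ ⟨hb, j, hj⟩
    refine ⟨fun w => ?_, i + j, fun u hu => ?_⟩
    · have := U.mul_mem (hb w) (ha (b w))
      simpa [mul_assoc] using this
    · rw [MulAut.mul_apply, hi _ (hmemU b hb u hu), hj u hu, zpow_add, MulAut.mul_apply]
  have hgen : ∀ a ∈ Subgroup.closure ({σ, τ} : Set (MulAut W)), P a := by
    intro a ha
    rw [← Subgroup.mem_toSubmonoid, Subgroup.closure_toSubmonoid_of_finite] at ha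
    induction ha using Submonoid.closure_induction with
    | mem x hx =>
      rcases hx with rfl | hx
      · exact ⟨hσ, 0, fun u hu => by simpa using hσU u hu⟩
      · rw [Set.mem_singleton_iff] at hx
        subst hx
        exact ⟨hτ, 1, fun u _ => by simp⟩
    | one => exact hone
    | mul a b _ _ iha ihb => exact hmul a b iha ihb
  rintro ⟨a, ha⟩
  obtain ⟨-, i, hi⟩ := hgen a ha
  refine ⟨k + 1, Subtype.ext ?_⟩
  rw [SubmonoidClass.coe_pow, pow_succ, pow_mul]
  obtain ⟨hmv, -, -⟩ := hgen _ (pow_mem ha (p ^ k))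
  refine pow_prime_eq_one hW (fun u hu => ?_) hmv
  have key : ∀ n : ℕ, (a ^ n) u = (τ ^ (i * n)) u := by
    intro n
    induction n with
    | zero => simp
    | succ n ih =>
      obtain ⟨hmn, -, -⟩ := hgen _ (pow_mem ha n)
      rw [pow_succ', MulAut.mul_apply, hi _ (hmemU _ hmn u hu), ih, Nat.cast_succ, mul_add, mul_one,
        add_comm, zpow_add, MulAut.mul_apply]
  rw [key, mul_comm, zpow_mul, zpow_natCast, hk', one_zpow, MulAut.one_apply]

theorem card_orbit_ge {M : Type*} [Group M] [Finite M] {β : Type*} [MulAction M β]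
    (hM : IsPGroup p M) {x : β} {m : M} (h : m • x ≠ x) : p ≤ (MulAction.orbit M x).ncard := by
  haveI : Finite (MulAction.orbit M x) := Set.finite_range _ |>.to_subtype
  obtain ⟨n, hn⟩ := hM.card_orbit x
  rw [← Nat.card_coe_set_eq, hn]
  rcases n with _ | n
  · exfalso
    rw [pow_zero, Nat.card_eq_one_iff_unique] at hn
    exact h (congrArg Subtype.val (@Subsingleton.elim _ hn.1 (⟨m • x, MulAction.mem_orbit x m⟩ :
      MulAction.orbit M x) ⟨x, MulAction.mem_orbit_self x⟩))
  · exact Nat.le_self_pow n.succ_ne_zero p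

/-- Two automorphisms of `p`-power order of a group of exponent `p`, each moving elements only
inside a subgroup of order at most `p`, generate a `p`-group if they generate a group of odd
order. -/
theorem isPGroup_closure_pair (hW : ∀ w : W, w ^ p = 1) (hc : ∀ a b : W, a * b = b * a)
    {L L' : Subgroup W} (hL : Nat.card L ∣ p) (hL' : Nat.card L' ∣ p) {σ τ : MulAut W}
    (hσp : IsPGroup p (Subgroup.zpowers σ)) (hτp : IsPGroup p (Subgroup.zpowers τ))
    (hσ : MovesIn L σ) (hτ : MovesIn L' τ)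
    (hodd : Odd (Nat.card (Subgroup.closure ({σ, τ} : Set (MulAut W))))) :
    IsPGroup p (Subgroup.closure ({σ, τ} : Set (MulAut W))) := by
  let U := L ⊔ L'
  have hσU : MovesIn U σ := fun w => Subgroup.mem_sup_left (hσ w)
  have hτU : MovesIn U τ := fun w => Subgroup.mem_sup_right (hτ w)
  have hsmul : ∀ (ρ : MulAut W) (K : Subgroup W) (x : W), x ∈ ρ • K ↔ ρ⁻¹ x ∈ K := fun ρ K x =>
    Subgroup.mem_pointwise_smul_iff_inv_smul_mem
  have hfix : ∀ (ρ : MulAut W) (K : Subgroup W), (∀ k ∈ K, ρ k = k) → ρ • K = K := by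
    intro ρ K h
    ext x
    rw [hsmul]
    refine ⟨fun hx => ?_, fun hx => ?_⟩
    · have := h _ hx
      rw [MulAut.apply_inv_self] at this
      exact this ▸ hx
    · have h1 := congrArg (ρ⁻¹ ·) (h x hx)
      simp only [MulAut.inv_apply_self] at h1
      exact h1 ▸ hx
  have hinv : ∀ (ρ : MulAut W) (K : Subgroup W), ρ • K = K → ∀ k ∈ K, ρ k ∈ K := fun ρ K h k hk =>
    h ▸ Subgroup.smul_mem_pointwise_smul k ρ K hk
  -- `σ` fixes `L` and `τ` fixes `L'`
  have hpt : ∀ {K : Subgroup W}, Nat.card K ∣ p → ∀ {ρ : MulAut W},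
      IsPGroup p (Subgroup.zpowers ρ) → (∀ k ∈ K, ρ k ∈ K) → ∀ k ∈ K, ρ k = k := by
    intro K hK ρ hρ hmem
    rcases (Nat.dvd_prime hp.out).1 hK with h1 | h1
    · intro k hk
      rw [Subgroup.card_eq_one] at h1
      rw [h1, Subgroup.mem_bot] at hk
      rw [hk, map_one]
    · exact apply_eq_of_movesIn h1 hρ hmem
  have hmv : ∀ {K : Subgroup W} {ρ : MulAut W}, MovesIn K ρ → ∀ k ∈ K, ρ k ∈ K := fun hρ k hk => by
    simpa using mul_mem hk (hρ k)
  have hσL := hpt hL hσp (hmv hσ)
  have hτL' := hpt hL' hτp (hmv hτ)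
  have hcomm : ({σ, τ} : Set (MulAut W)) = {τ, σ} := Set.pair_comm σ τ
  have htriv : ∀ ρ : MulAut W, (∀ k ∈ L, ρ k = k) → (∀ k ∈ L', ρ k = k) → ∀ u ∈ U, ρ u = u := by
    intro ρ h1 h2 u hu
    have : U ≤ MonoidHom.eqLocus ρ.toMonoidHom (MonoidHom.id W) := sup_le h1 h2
    exact this hu
  by_cases hσ' : σ • L' = L'
  · exact isPGroup_closure_of_trivial hW (htriv σ hσL (hpt hL' hσp (hinv σ L' hσ'))) hσU hτU hτp
  by_cases hτ' : τ • L = L
  · rw [hcomm]
    exact isPGroup_closure_of_trivial hW (htriv τ (hpt hL hτp (hinv τ L hτ')) hτL') hτU hσU hσp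
  exfalso
  -- both orbits lie among at most `p + 1` lines
  have hcard' : Nat.card L' = p := ((Nat.dvd_prime hp.out).1 hL').resolve_left fun h1 => hσ' (by
    rw [Subgroup.card_eq_one.1 h1, Subgroup.smul_bot])
  have hcardL : Nat.card L = p := ((Nat.dvd_prime hp.out).1 hL).resolve_left fun h1 => hτ' (by
    rw [Subgroup.card_eq_one.1 h1, Subgroup.smul_bot])
  set A := Subgroup.closure ({σ, τ} : Set (MulAut W)) with hA
  have hσA : σ ∈ A := Subgroup.subset_closure (by simp)
  have hτA : τ ∈ A := Subgroup.subset_closure (by simp)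
  have hAU : ∀ ρ ∈ A, ρ • U = U := by
    have : A ≤ MulAction.stabilizer (MulAut W) U := by
      rw [hA, Subgroup.closure_le]
      have key : ∀ ρ : MulAut W, MovesIn U ρ → ρ • U = U := fun ρ hρ => by
        refine Subgroup.eq_of_le_of_card_ge ?_
          (Nat.card_congr (Subgroup.equivSMul ρ U).toEquiv).le
        intro x hx
        rw [hsmul] at hx
        have := U.mul_mem hx (hρ (ρ⁻¹ x))
        simpa using this
      rintro x (rfl | rfl)
      · exact key _ hσU
      · exact key _ hτU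
    exact fun ρ hρ => this hρ
  let S : Set (Subgroup W) := {K | K ≤ U ∧ Nat.card K = p}
  have hU2 : Nat.card U ≤ p * p := by
    have h1 : Nat.card ↥(L ⊔ L') ∣ Nat.card L * Nat.card L' :=
      CfsgLib.Coprime.card_sup_dvd fun a _ => Subgroup.mem_normalizer_iff.2 fun n => by
        rw [hc a n, mul_inv_cancel_right]
    rw [hcardL, hcard'] at h1
    exact Nat.le_of_dvd (mul_pos hp.out.pos hp.out.pos) h1
  have hS : S.ncard ≤ p + 1 := by
    classical
    have hSfin : S.Finite := Set.toFinite _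
    let f : Subgroup W → Finset W := fun K => (Set.toFinite ((K : Set W) \ {1})).toFinset
    have hdisj : ((hSfin.toFinset : Finset (Subgroup W)) : Set (Subgroup W)).PairwiseDisjoint f := by
      intro K hK K' hK' hne
      rw [Set.Finite.coe_toFinset] at hK hK'
      rw [Function.onFun, Finset.disjoint_left]
      intro x hx hx'
      rw [Set.Finite.mem_toFinset] at hx hx'
      refine hne ?_
      have e : ∀ M : Subgroup W, Nat.card M = p → x ∈ M → Subgroup.zpowers x = M := by
        intro M hM hxM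
        refine Subgroup.eq_of_le_of_card_ge (Subgroup.zpowers_le.2 hxM) ?_
        have h1 := Subgroup.card_dvd_of_le (Subgroup.zpowers_le.2 hxM)
        rw [hM] at h1 ⊢
        rcases (Nat.dvd_prime hp.out).1 h1 with h2 | h2
        · exact absurd (Subgroup.zpowers_eq_bot.1 (Subgroup.card_eq_one.1 h2)) hx.2
        · exact h2.ge
      exact (e K hK.2 hx.1).symm.trans (e K' hK'.2 hx'.1)
    have hsub : hSfin.toFinset.biUnion f ⊆ (Set.toFinite ((U : Set W) \ {1})).toFinset := by
      intro x hx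
      rw [Finset.mem_biUnion] at hx
      obtain ⟨K, hK, hx⟩ := hx
      rw [Set.Finite.mem_toFinset] at hK hx ⊢
      exact ⟨hK.1 hx.1, hx.2⟩
    have h1 := Finset.card_le_card hsub
    rw [Finset.card_biUnion hdisj] at h1
    have hcardf : ∀ K ∈ hSfin.toFinset, (f K).card = p - 1 := by
      intro K hK
      rw [Set.Finite.mem_toFinset] at hK
      rw [← Set.ncard_eq_toFinset_card _, Set.ncard_diff_singleton_of_mem K.one_mem,
        ← Nat.card_coe_set_eq]
      exact congrArg (· - 1) hK.2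
    rw [Finset.sum_congr rfl hcardf, Finset.sum_const, smul_eq_mul,
      ← Set.ncard_eq_toFinset_card _, ← Set.ncard_eq_toFinset_card _,
      Set.ncard_diff_singleton_of_mem U.one_mem, ← Nat.card_coe_set_eq] at h1
    have h2 : S.ncard * (p - 1) ≤ p * p - 1 := h1.trans (Nat.sub_le_sub_right hU2 1)
    have h3 : p * p - 1 = (p + 1) * (p - 1) := by
      have := Nat.sq_sub_sq p 1
      simpa [pow_two] using this
    rw [h3] at h2
    exact Nat.le_of_mul_le_mul_right h2 (by have := hp.out.two_le; omega)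
  -- the orbits
  have horb : ∀ K : Subgroup W, K ≤ U → Nat.card K = p → ∀ ρ ∈ A, ρ • K ∈ S := fun K hK hKp ρ hρ =>
    ⟨(Subgroup.pointwise_smul_le_pointwise_smul_iff.2 hK).trans (hAU ρ hρ).le,
      (Nat.card_congr (Subgroup.equivSMul ρ K).toEquiv).symm.trans hKp⟩
  let O₁ := MulAction.orbit (Subgroup.zpowers σ) L'
  let O₂ := MulAction.orbit (Subgroup.zpowers τ) L
  have h1 : p ≤ O₁.ncard := card_orbit_ge hσp (m := ⟨σ, Subgroup.mem_zpowers σ⟩) hσ'
  have h2 : p ≤ O₂.ncard := card_orbit_ge hτp (m := ⟨τ, Subgroup.mem_zpowers τ⟩) hτ'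
  have hz : ∀ {ρ : MulAut W}, ρ ∈ A → Subgroup.zpowers ρ ≤ A := fun h => Subgroup.zpowers_le.2 h
  have hO₁ : O₁ ⊆ S := by
    rintro - ⟨m, rfl⟩
    exact horb L' le_sup_right hcard' _ (hz hσA m.2)
  have hO₂ : O₂ ⊆ S := by
    rintro - ⟨m, rfl⟩
    exact horb L le_sup_left hcardL _ (hz hτA m.2)
  have hLO₁ : L ∉ O₁ := by
    rintro ⟨m, hm⟩
    have h3 : (m : MulAut W)⁻¹ • L = L' := by rw [← hm]; exact inv_smul_smul (m : MulAut W) L'
    have h4 : (m : MulAut W)⁻¹ • L = L := by
      have hst : Subgroup.zpowers σ ≤ MulAction.stabilizer (MulAut W) L :=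
        Subgroup.zpowers_le.2 (hfix σ L hσL)
      exact hst (inv_mem m.2)
    have e : L' = L := h3.symm.trans h4
    exact hσ' (by rw [e]; exact hfix σ L hσL)
  obtain ⟨K, hK1, hK2⟩ : (O₁ ∩ O₂).Nonempty := by
    by_contra hne
    rw [Set.not_nonempty_iff_eq_empty] at hne
    have h5 : (O₁ ∪ O₂).ncard = O₁.ncard + O₂.ncard :=
      Set.ncard_union_eq (Set.disjoint_iff_inter_eq_empty.2 hne)
    have h6 := (Set.ncard_le_ncard (Set.union_subset hO₁ hO₂)).trans hS
    have := hp.out.two_le
    omega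
  let O := MulAction.orbit A L'
  have hO : O ⊆ S := by
    rintro - ⟨m, rfl⟩
    exact horb L' le_sup_right hcard' _ m.2
  have hLO : insert L O₁ ⊆ O := by
    obtain ⟨m₁, hm₁⟩ := hK1
    obtain ⟨m₂, hm₂⟩ := hK2
    refine Set.insert_subset ⟨⟨_, mul_mem (inv_mem (hz hτA m₂.2)) (hz hσA m₁.2)⟩, ?_⟩ ?_
    · show ((m₂ : MulAut W)⁻¹ * (m₁ : MulAut W)) • L' = L
      rw [mul_smul, inv_smul_eq_iff]
      exact (hm₁.trans hm₂.symm)
    · rintro - ⟨m, rfl⟩
      exact ⟨⟨_, hz hσA m.2⟩, rfl⟩
  have h7 : O.ncard = p + 1 := by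
    refine le_antisymm ((Set.ncard_le_ncard hO).trans hS) ?_
    refine le_trans ?_ (Set.ncard_le_ncard hLO)
    rw [Set.ncard_insert_of_notMem hLO₁]
    omega
  have h8 : p + 1 ∣ Nat.card A := by
    rw [← h7, ← Nat.card_coe_set_eq,
      Nat.card_congr (MulAction.orbitEquivQuotientStabilizer A L')]
    exact Subgroup.card_quotient_dvd_card _
  have h9 : Odd (p + 1) := hodd.of_dvd_nat h8
  rcases hp.out.eq_two_or_odd' with h10 | h10
  · obtain ⟨j, hj⟩ := hσp ⟨σ, Subgroup.mem_zpowers σ⟩
    have hne : σ ≠ 1 := fun e => hσ' (by rw [e, one_smul])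
    rw [h10] at hj
    have h11 : orderOf σ ∣ 2 ^ j := orderOf_dvd_of_pow_eq_one (congrArg Subtype.val hj)
    obtain ⟨i, -, hi⟩ := (Nat.dvd_prime_pow Nat.prime_two).1 h11
    rcases i with _ | i
    · exact hne (orderOf_eq_one_iff.1 (by simpa using hi))
    · exact Nat.not_even_iff_odd.2 hodd (even_iff_two_dvd.2
        ((hi ▸ dvd_pow_self 2 i.succ_ne_zero).trans (Subgroup.orderOf_dvd_natCard A hσA)))
  · exact Nat.not_even_iff_odd.2 h9 h10.add_one

section

variable {G : Type u} [Group G] [Finite G] [Group.IsSolvable G]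

theorem sylow_le_pCore_of_cyclic_commutator (hodd : Odd (Nat.card G))
    (hO : pPrimeCore p G = ⊥) (S : Sylow p G)
    (hS : IsCyclic (commutator (S : Subgroup G))) : (S : Subgroup G) ≤ pCore p G := by
  set V := pCore p G with hV
  haveI : V.Normal := inferInstance
  have hVp : IsPGroup p V := CfsgLib.Base.isPGroup_pCore p G
  have hVS : V ≤ (S : Subgroup G) := by
    have := IsPGroup.to_sup_of_normal_right S.2 hVp
    exact sup_eq_left.1 (S.3 this le_sup_left)
  haveI : (frattini V).Characteristic := frattini_characteristic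
  let π := QuotientGroup.mk' (frattini V)
  have hW : ∀ w : V ⧸ frattini V, w ^ p = 1 := by
    intro w
    obtain ⟨v, rfl⟩ := QuotientGroup.mk_surjective w
    rw [← QuotientGroup.mk_pow]
    exact (QuotientGroup.eq_one_iff _).2 (CfsgLib.PGroups.pow_mem_frattini hVp v)
  have hc : ∀ a b : V ⧸ frattini V, a * b = b * a := by
    intro a b
    obtain ⟨x, rfl⟩ := QuotientGroup.mk_surjective a
    obtain ⟨y, rfl⟩ := QuotientGroup.mk_surjective b
    rw [← QuotientGroup.mk_mul, ← QuotientGroup.mk_mul]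
    refine QuotientGroup.eq.2 (CfsgLib.PGroups.commutator_le_frattini hVp ?_)
    rw [show (x * y)⁻¹ * (y * x) = ⁅y⁻¹, x⁻¹⁆ by rw [commutatorElement_def]; group]
    exact Subgroup.commutator_mem_commutator trivial trivial
  let ψ : G →* MulAut V := MulAut.conjNormal
  have hψ : ∀ g : G, (frattini V).map (ψ g).toMonoidHom = frattini V := fun g =>
    Subgroup.characteristic_iff_map_eq.1 inferInstance (ψ g)
  let φ : G →* MulAut (V ⧸ frattini V) :=
    { toFun := fun g => QuotientGroup.congr _ _ (ψ g) (hψ g)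
      map_one' := MulEquiv.ext fun x => by
        obtain ⟨m, rfl⟩ := QuotientGroup.mk_surjective x
        show ((ψ 1 m : V) : V ⧸ frattini V) = _
        rw [map_one]; rfl
      map_mul' := fun a b => MulEquiv.ext fun x => by
        obtain ⟨m, rfl⟩ := QuotientGroup.mk_surjective x
        show ((ψ (a * b) m : V) : V ⧸ frattini V) = _
        rw [map_mul]; rfl }
  have hfr : ((frattini V).map V.subtype : Subgroup G) ≤ V := Subgroup.map_subtype_le _
  have hker : IsPGroup p φ.ker := by
    rw [IsPGroup.iff_card]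
    refine ⟨_, Nat.eq_prime_pow_of_unique_prime_dvd Nat.card_pos.ne' fun {r} hr hd => ?_⟩
    haveI := Fact.mk hr
    by_contra hrp
    obtain ⟨x, hx⟩ := exists_prime_orderOf_dvd_card' r hd
    have hxo : orderOf (x : G) = r := by rw [Subgroup.orderOf_coe, hx]
    have hcen : Subgroup.zpowers (x : G) ≤ Subgroup.centralizer (V : Set G) := by
      refine CfsgLib.Coprime.le_centralizer_of_trivial_mod_frattini
        Subgroup.le_normalizer_of_normal ?_ ?_
      · obtain ⟨j, hj⟩ := IsPGroup.iff_card.1 (hVp.to_subgroup (frattini V))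
        rw [Nat.card_zpowers, hxo, hj]
        exact ((Nat.coprime_primes hr hp.out).2 hrp).pow_right j
      · intro a ha k hk
        have hak : a ∈ φ.ker := Subgroup.zpowers_le.2 x.2 ha
        have h1 : ((ψ a ⟨k, hk⟩ : V) : V ⧸ frattini V) = ((⟨k, hk⟩ : V) : V ⧸ frattini V) :=
          DFunLike.congr_fun (MonoidHom.mem_ker.1 hak) ((⟨k, hk⟩ : V) : V ⧸ frattini V)
        have h2 := (inferInstance : (frattini V).Normal).conj_mem _
          (inv_mem (QuotientGroup.eq.1 h1)) ⟨k, hk⟩
        refine ⟨_, h2, ?_⟩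
        show k * (((a * k * a⁻¹)⁻¹ * k)⁻¹) * k⁻¹ = a * k * a⁻¹ * k⁻¹
        group
    have hxV : (x : G) ∈ V := (CfsgLib.Base.centralizer_pCore_le_of_isSolvable hO)
      (hcen (Subgroup.mem_zpowers _))
    obtain ⟨j, hj⟩ := IsPGroup.iff_card.1 hVp
    have h3 := Subgroup.orderOf_dvd_natCard V hxV
    rw [hxo, hj] at h3
    exact hrp ((Nat.prime_dvd_prime_iff_eq hr hp.out).1 (hr.dvd_of_dvd_pow h3))
  -- the line moved by `s`
  let D : Subgroup G := (commutator (S : Subgroup G)).map (S : Subgroup G).subtype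
  let L : Subgroup (V ⧸ frattini V) := (D.subgroupOf V).map π
  have hLc : IsCyclic L := by
    haveI := hS
    haveI : IsCyclic D := isCyclic_of_surjective _
      ((commutator (S : Subgroup G)).equivMapOfInjective _
        (S : Subgroup G).subtype_injective).surjective
    haveI : IsCyclic (D.subgroupOf V) :=
      isCyclic_of_injective ((V.subtype.comp (D.subgroupOf V).subtype).codRestrict D fun z => z.2)
        (fun a b e => Subtype.ext (Subtype.ext (congrArg Subtype.val e :)))
    exact isCyclic_of_surjective _ (π.subgroupMap_surjective (D.subgroupOf V))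
  have hLp : Nat.card L ∣ p := by
    haveI := hLc
    obtain ⟨z, hz⟩ := IsCyclic.exists_generator (α := L)
    rw [← orderOf_eq_card_of_forall_mem_zpowers hz]
    exact orderOf_dvd_of_pow_eq_one (Subtype.ext (by simpa using hW (z : V ⧸ frattini V)))
  intro s hs
  have hmv : MovesIn L (φ s) := by
    intro w
    obtain ⟨v, rfl⟩ := QuotientGroup.mk_surjective w
    refine ⟨v⁻¹ * ψ s v, ⟨⁅(⟨(v : G), hVS v.2⟩ : (S : Subgroup G))⁻¹, ⟨s, hs⟩⁆,
      Subgroup.commutator_mem_commutator trivial trivial, ?_⟩, rfl⟩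
    show (v : G)⁻¹ * s * ((v : G)⁻¹)⁻¹ * s⁻¹ = (v : G)⁻¹ * (s * v * s⁻¹)
    group
  have hφp : ∀ g : G, IsPGroup p (Subgroup.zpowers g) → IsPGroup p (Subgroup.zpowers (φ g)) :=
    fun g hg => by rw [← MonoidHom.map_zpowers]; exact hg.map φ
  have hsp : IsPGroup p (Subgroup.zpowers s) := S.2.to_le (Subgroup.zpowers_le.2 hs)
  obtain ⟨N, hNn, hNp, hXN⟩ := CfsgLib.Involutions.baerSuzuki (p := p) (Subgroup.zpowers s)
    fun g => by
      rw [MonoidHom.map_zpowers]
      set t := (MulAut.conj g).toMonoidHom s with ht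
      set H := Subgroup.zpowers s ⊔ Subgroup.zpowers t with hH
      have htp : IsPGroup p (Subgroup.zpowers t) := by
        rw [ht, ← MonoidHom.map_zpowers]; exact hsp.map _
      have hmvt : MovesIn (L.map (φ g).toMonoidHom) (φ t) := by
        intro w
        refine ⟨(φ g)⁻¹ w⁻¹ * (φ s) ((φ g)⁻¹ w), ?_, ?_⟩
        · rw [map_inv]; exact hmv _
        · show φ g ((φ g)⁻¹ w⁻¹ * (φ s) ((φ g)⁻¹ w)) = w⁻¹ * φ (g * s * g⁻¹) w
          simp [map_mul, map_inv, MulAut.apply_inv_self, MulAut.mul_apply]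
      have hLp' : Nat.card (L.map (φ g).toMonoidHom) ∣ p :=
        (Subgroup.card_map_dvd L _).trans hLp
      have e : H.map φ = Subgroup.closure {φ s, φ t} := by
        rw [hH, Subgroup.map_sup, MonoidHom.map_zpowers, MonoidHom.map_zpowers,
          Subgroup.zpowers_eq_closure, Subgroup.zpowers_eq_closure, ← Subgroup.closure_union,
          Set.singleton_union]
      have hM : IsPGroup p (H.map φ) := by
        have hodd' : Odd (Nat.card ↥(H.map φ)) := hodd.of_dvd_nat
          ((Subgroup.card_map_dvd H φ).trans H.card_subgroup_dvd_card)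
        rw [e] at hodd' ⊢
        exact isPGroup_closure_pair hW hc hLp hLp' (hφp s hsp) (hφp t htp) hmv hmvt hodd'
      rintro ⟨x, hx⟩
      obtain ⟨a, ha⟩ := hM ⟨φ x, Subgroup.mem_map_of_mem φ hx⟩
      have hxk : x ^ p ^ a ∈ φ.ker := by
        rw [MonoidHom.mem_ker, map_pow]
        exact congrArg Subtype.val ha
      obtain ⟨b, hb⟩ := hker ⟨_, hxk⟩
      refine ⟨a + b, Subtype.ext ?_⟩
      have hb' : (x ^ p ^ a) ^ p ^ b = 1 := congrArg Subtype.val hb
      rw [SubmonoidClass.coe_pow, pow_add, pow_mul]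
      exact hb'
  haveI := hNn
  exact CfsgLib.Base.le_pCore hNp (hXN (Subgroup.mem_zpowers s))

/-- In a solvable group of odd order, a Sylow `p`-subgroup with cyclic derived group together with
`O_{p'}` forms a normal subgroup. -/
theorem normal_pPrimeCore_sup_sylow (hodd : Odd (Nat.card G)) (S : Sylow p G)
    (hS : IsCyclic (commutator (S : Subgroup G))) :
    (pPrimeCore p G ⊔ (S : Subgroup G)).Normal := by
  let f := QuotientGroup.mk' (pPrimeCore p G)
  have hf : Function.Surjective f := QuotientGroup.mk'_surjective _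
  let T := S.mapSurjective hf
  haveI := hS
  have hT : IsCyclic (commutator (T : Subgroup (G ⧸ pPrimeCore p G))) := by
    let ρ : (S : Subgroup G) →* (T : Subgroup (G ⧸ pPrimeCore p G)) :=
      (f.comp (S : Subgroup G).subtype).codRestrict _ fun z => ⟨z, z.2, rfl⟩
    have hρ : Function.Surjective ρ := by
      rintro ⟨y, x, hx, rfl⟩
      exact ⟨⟨x, hx⟩, rfl⟩
    have hm : (commutator (S : Subgroup G)).map ρ = commutator _ := by
      rw [commutator_def, Subgroup.map_commutator, Subgroup.map_top_of_surjective ρ hρ]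
      rfl
    rw [← hm]
    exact isCyclic_of_surjective _ (ρ.subgroupMap_surjective _)
  haveI : Group.IsSolvable (G ⧸ pPrimeCore p G) := solvable_of_surjective (f := f) hf
  have hle := sylow_le_pCore_of_cyclic_commutator (G := G ⧸ pPrimeCore p G)
    (hodd.of_dvd_nat (Subgroup.card_quotient_dvd_card _))
    (CfsgLib.Base.pPrimeCore_quotient_pPrimeCore p G) T hT
  have heq : (T : Subgroup (G ⧸ pPrimeCore p G)) = pCore p (G ⧸ pPrimeCore p G) :=
    le_antisymm hle (T.3 (CfsgLib.Base.isPGroup_pCore p _) hle).le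
  have hcomap : pPrimeCore p G ⊔ (S : Subgroup G)
      = (T : Subgroup (G ⧸ pPrimeCore p G)).comap f := by
    show _ = ((S : Subgroup G).map f).comap f
    rw [Subgroup.comap_map_eq, QuotientGroup.ker_mk', sup_comm]
  rw [hcomap, heq]
  exact Subgroup.Normal.comap inferInstance f

end

end CfsgLib.FTCons
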