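import Cfsg.Agent.Lib.FgsB.OrderType
import Cfsg.Agent.Lib.Perm.Zass.Apply
import Cfsg.Agent.Lib.Perm.Zass.ZPresentation
import Cfsg.Agent.Lib.Perm.Zass.Complement
import Cfsg.Agent.Lib.Base.Frobenius
import Cfsg.Agent.Lib.Base.ThompsonFPF
import Cfsg.Agent.Lib.Base.MinimalNormal

/-!
Elements of order five in solvable fixed point free groups, and the order type of a Frobenius group.
-/

set_option autoImplicit false
set_option linter.style.haveILetI false

universe u v

namespace CfsgLib.FTCons

open Cfsg CfsgLib.Perm.Zass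
open scoped Pointwise

section
variable {C : Type*} [Group C] [Finite C] {k : Type*} [Field k] [IsAlgClosed k] {V : Type*}
  [AddCommGroup V] [Module k V] [FiniteDimensional k V] [Nontrivial V] {ρ : C →* Module.End k V}

/-- An element of order five centralises every cyclic subgroup which it normalises. -/
theorem commute_of_five_normalizes (hρ : Fpf ρ) {x b : C} (hx : orderOf x = 5)
    (hxb : x⁻¹ * b * x ∈ Subgroup.zpowers b) : x * b = b * x := by
  haveI : Fact (Nat.Prime 5) := ⟨by norm_num⟩
  rw [← mem_powers_iff_mem_zpowers] at hxb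
  obtain ⟨s, hs⟩ := hxb
  exact commute_of_prime_normalizes hρ (p := 5) (s := s) (hx ▸ pow_orderOf_eq_one x)
    (fun e => by rw [e, orderOf_one] at hx; norm_num at hx) hs.symm

/-- An element of order five centralises every normal `q`-subgroup. -/
theorem mem_centralizer_of_five (hρ : Fpf ρ) {x : C} (hx : orderOf x = 5) {q : ℕ} [Fact q.Prime]
    {R : Subgroup C} (hR : IsPGroup q R) [R.Normal] : x ∈ Subgroup.centralizer (R : Set C) := by
  have hx5 : x ^ 5 = 1 := hx ▸ pow_orderOf_eq_one x
  refine Subgroup.mem_centralizer_iff.2 fun r hr => ?_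
  rcases pgroup_cases hρ hR with hc | ⟨rfl, n, hn, ⟨e⟩⟩
  · obtain ⟨g, hg⟩ := hc.exists_generator
    have h1 : Subgroup.zpowers (g : C) = R := by
      refine le_antisymm (Subgroup.zpowers_le.2 g.2) fun y hy => ?_
      obtain ⟨i, hi⟩ := Subgroup.mem_zpowers_iff.1 (hg ⟨y, hy⟩)
      exact Subgroup.mem_zpowers_iff.2 ⟨i, congrArg Subtype.val hi⟩
    have h2 : x * (g : C) = (g : C) * x := commute_of_five_normalizes hρ hx (h1.symm ▸ by
      simpa using (inferInstance : R.Normal).conj_mem _ g.2 x⁻¹)
    obtain ⟨i, rfl⟩ := Subgroup.mem_zpowers_iff.1 (h1.symm ▸ hr : r ∈ Subgroup.zpowers (g : C))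
    exact ((Commute.symm h2).zpow_left i).eq
  · let σ : MulAut R := MulAut.conjNormal x
    have hσ : σ ^ 5 = 1 := by rw [← map_pow, hx5, map_one]
    haveI : Fact (Nat.Prime 5) := ⟨by norm_num⟩
    suffices h : ∀ y : R, σ y = y by
      have := congrArg Subtype.val (h ⟨r, hr⟩)
      exact (mul_inv_eq_iff_eq_mul.1 this).symm
    rcases eq_or_ne n 1 with rfl | hn1
    · -- the quaternion group of order eight
      intro y
      let Fx : Subgroup R := MonoidHom.eqLocus σ.toMonoidHom (MonoidHom.id R)
      have hcard : Nat.card R = 8 := by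
        rw [Nat.card_congr e.toEquiv, Nat.card_eq_fintype_card, QuaternionGroup.card]; norm_num
      let A := Subgroup.zpowers σ
      have hA : IsPGroup 5 A := by
        rintro ⟨a, ha⟩
        obtain ⟨i, rfl⟩ := Subgroup.mem_zpowers_iff.1 ha
        refine ⟨1, Subtype.ext ?_⟩
        show (σ ^ i) ^ (5 ^ 1) = 1
        rw [pow_one, ← zpow_natCast, ← zpow_mul, mul_comm, zpow_mul, zpow_natCast, hσ, one_zpow]
      have hmod := hA.card_modEq_card_fixedPoints R
      have hfx : Nat.card (MulAction.fixedPoints A R) = Nat.card Fx := by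
        refine Nat.card_congr (Equiv.subtypeEquivRight fun z => ⟨fun h => ?_, fun h a => ?_⟩)
        · exact h ⟨σ, Subgroup.mem_zpowers σ⟩
        · have hst : A ≤ MulAction.stabilizer (MulAut R) z := Subgroup.zpowers_le.2 h
          exact hst a.2
      rw [hfx, hcard] at hmod
      have hd : Nat.card Fx ∣ 2 ^ 3 := by
        have := Fx.card_subgroup_dvd_card
        rwa [hcard] at this
      obtain ⟨j, hj, hjc⟩ := (Nat.dvd_prime_pow Nat.prime_two).1 hd
      have htop : Fx = ⊤ := by
        refine Subgroup.eq_top_of_card_eq _ ?_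
        rw [hcard, hjc]
        rw [hjc] at hmod
        interval_cases j <;> simp_all [Nat.ModEq]
      exact (htop ▸ Subgroup.mem_top y : y ∈ Fx)
    · intro y
      let τ : MulAut (QuaternionGroup (2 ^ n)) := (MulAut.congr e) σ
      haveI : NeZero (2 ^ n) := ⟨(pow_pos (by norm_num) n).ne'⟩
      have hτ : τ = 1 := mulAut_quaternion_odd rfl (by omega) (p := 5) (by norm_num) τ
        (by rw [← map_pow, hσ, map_one])
      have hσ1 : σ = 1 := (MulAut.congr e).injective (by rw [map_one]; exact hτ)
      rw [hσ1]; rfl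

/-- In a solvable group with a fixed point free representation there are at most four elements of
order five. -/
theorem card_order_five_le (hρ : Fpf ρ) [Group.IsSolvable C] :
    Nat.card {x : C // orderOf x = 5} ≤ 4 := by
  classical
  rcases isEmpty_or_nonempty {x : C // orderOf x = 5} with he | ⟨⟨x₀, hx₀⟩⟩
  · simp
  haveI : Fact (Nat.Prime 5) := ⟨by norm_num⟩
  set F := fittingSubgroup C with hF
  haveI : Group.IsNilpotent F := CfsgLib.Base.isNilpotent_fittingSubgroup C
  haveI hFn : F.Normal := CfsgLib.Base.fittingSubgroup_normal' C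
  have hsyl : ∀ (q : ℕ) [Fact q.Prime] (S : Sylow q F),
      ((S : Subgroup F).map F.subtype).Normal := by
    intro q hq S
    haveI : (S : Subgroup F).Normal :=
      ((Group.isNilpotent_of_finite_tfae (G := F)).out 0 3 rfl rfl).1 inferInstance q hq S
    haveI := S.characteristic_of_normal inferInstance
    infer_instance
  have h5 : 5 ∣ Nat.card F := by
    by_contra h5
    have hle : F ≤ Subgroup.centralizer ({x₀} : Set C) := by
      let Z := F ⊓ Subgroup.centralizer ({x₀} : Set C)
      have hd : Nat.card F ∣ Nat.card Z := by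
        rw [← Nat.factorization_le_iff_dvd Nat.card_pos.ne' Nat.card_pos.ne']
        intro q
        by_cases hq : q.Prime
        swap
        · rw [Nat.factorization_eq_zero_of_not_prime _ hq]; exact Nat.zero_le _
        haveI := Fact.mk hq
        obtain ⟨S⟩ : Nonempty (Sylow q F) := inferInstance
        haveI := hsyl q S
        have hR : (S : Subgroup F).map F.subtype ≤ Z := le_inf (Subgroup.map_subtype_le _)
          fun r hr => Subgroup.mem_centralizer_singleton_iff.2
            (Subgroup.mem_centralizer_iff.1 (mem_centralizer_of_five hρ hx₀ (S.2.map _)) r hr)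
        have hc := Subgroup.card_dvd_of_le hR
        rw [Subgroup.card_map_of_injective F.subtype_injective, S.card_eq_multiplicity] at hc
        exact (hq.pow_dvd_iff_le_factorization Nat.card_pos.ne').1 hc
      have := Subgroup.eq_of_le_of_card_ge (inf_le_left : Z ≤ F) (Nat.le_of_dvd Nat.card_pos hd)
      exact this.ge.trans inf_le_right
    have hx : x₀ ∈ F := CfsgLib.Base.centralizer_fittingSubgroup_le
      (Subgroup.mem_centralizer_iff.2 fun f hf => Subgroup.mem_centralizer_singleton_iff.1 (hle hf))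
    exact h5 (hx₀ ▸ Subgroup.orderOf_dvd_natCard F hx)
  obtain ⟨S⟩ : Nonempty (Sylow 5 F) := inferInstance
  haveI hRn := hsyl 5 S
  set R := (S : Subgroup F).map F.subtype with hRdef
  have hRp : IsPGroup 5 R := S.2.map _
  have hall : ∀ y : C, orderOf y = 5 → y ∈ R := by
    intro y hy
    have hsup : IsPGroup 5 ↥(R ⊔ Subgroup.zpowers y) :=
      IsPGroup.to_sup_of_normal_left hRp (IsPGroup.of_card (n := 1) (by
        rw [Nat.card_zpowers, hy, pow_one]))
    rcases pgroup_cases hρ hsup with hc | ⟨h2, -⟩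
    swap
    · norm_num at h2
    haveI := hc
    have hRc : 5 ∣ Nat.card R := by
      rw [hRdef, Subgroup.card_map_of_injective F.subtype_injective]
      exact S.dvd_card_of_dvd_card h5
    obtain ⟨z, hz⟩ := exists_prime_orderOf_dvd_card' 5 hRc
    letI := IsCyclic.commGroup (α := ↥(R ⊔ Subgroup.zpowers y))
    let P := R ⊔ Subgroup.zpowers y
    let z' : P := ⟨z, Subgroup.mem_sup_left z.2⟩
    let y' : P := ⟨y, Subgroup.mem_sup_right (Subgroup.mem_zpowers y)⟩
    have key : ∀ w : P, orderOf w = 5 → Subgroup.zpowers w = (powMonoidHom 5 : P →* P).ker := by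
      intro w hw
      refine Subgroup.eq_of_le_of_card_ge (Subgroup.zpowers_le.2 ?_) ?_
      · rw [MonoidHom.mem_ker, powMonoidHom_apply, ← hw, pow_orderOf_eq_one]
      · rw [IsCyclic.card_powMonoidHom_ker, Nat.card_zpowers, hw]
        exact Nat.le_of_dvd (by norm_num) (Nat.gcd_dvd_right _ _)
    have hU : Subgroup.zpowers z' = Subgroup.zpowers y' := by
      rw [key z' (by rw [Subgroup.orderOf_mk, Subgroup.orderOf_coe, hz]),
        key y' (by rw [Subgroup.orderOf_mk, hy])]
    obtain ⟨i, hi⟩ := Subgroup.mem_zpowers_iff.1 (hU.symm ▸ Subgroup.mem_zpowers y' :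
      y' ∈ Subgroup.zpowers z')
    have : (z : C) ^ i = y := congrArg Subtype.val hi
    exact this ▸ zpow_mem z.2 i
  -- the group `R` is cyclic, so it has four elements of order five
  rcases pgroup_cases hρ hRp with hc | ⟨h2, -⟩
  swap
  · norm_num at h2
  haveI := hc
  letI := Fintype.ofFinite R
  calc Nat.card {x : C // orderOf x = 5} ≤ Nat.card {r : R // orderOf r = 5} := by
        refine Nat.card_le_card_of_injective
          (fun x => ⟨⟨x.1, hall x.1 x.2⟩, by rw [Subgroup.orderOf_mk]; exact x.2⟩) fun a b e =>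
          Subtype.ext (congrArg (fun t => ((t.1 : R) : C)) e)
    _ ≤ 4 := by
        by_cases h5R : 5 ∣ Fintype.card R
        · rw [Nat.card_eq_fintype_card, Fintype.card_subtype, IsCyclic.card_orderOf_eq_totient h5R]
          decide
        · have : IsEmpty {r : R // orderOf r = 5} :=
            ⟨fun r => h5R (r.2 ▸ orderOf_dvd_card)⟩
          simp

end

theorem five_lt_card_order_five_SL :
    4 < Nat.card {g : Matrix.SpecialLinearGroup (Fin 2) (ZMod 5) // orderOf g = 5} := by
  rw [Nat.card_eq_fintype_card]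
  let f : Fin 2 → Fin 4 → Matrix.SpecialLinearGroup (Fin 2) (ZMod 5) := fun b i =>
    if b = 0 then ⟨!![1, ((i : ℕ) + 1 : ZMod 5); 0, 1], by simp [Matrix.det_fin_two]⟩
    else ⟨!![1, 0; ((i : ℕ) + 1 : ZMod 5), 1], by simp [Matrix.det_fin_two]⟩
  have h1 : ∀ b i, (f b i) ^ 5 = 1 := by decide
  have h2 : ∀ b i, f b i ≠ 1 := by decide
  have h3 : Function.Injective (fun t : Fin 2 × Fin 4 => f t.1 t.2) := by decide
  haveI : Fact (Nat.Prime 5) := ⟨by norm_num⟩
  refine lt_of_lt_of_le (by simp : 4 < Fintype.card (Fin 2 × Fin 4))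
    (Fintype.card_le_of_injective (fun t => ⟨f t.1 t.2, orderOf_eq_prime (h1 _ _) (h2 _ _)⟩)
      fun a b e => h3 (congrArg Subtype.val e))

/-- Two groups of the same order type with fixed point free representations are solvable together. -/
theorem isSolvable_of_sameOrderType {A : Type u} {B : Type v} [Group A] [Finite A] [Group B] [Finite B]
    [Group.IsSolvable A] (hA : HasIntFpf A) (hB : HasIntFpf B)
    (hT : CfsgLib.FgsB.SameOrderType A B) : Group.IsSolvable B := by
  by_contra hns
  obtain ⟨n, ρ, hρ⟩ := hB.exists_fpf (AlgebraicClosure ℚ)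
  obtain ⟨m, σ, hσ⟩ := hA.exists_fpf (AlgebraicClosure ℚ)
  obtain ⟨R, -, hR1, hRp⟩ := exists_perfect_normal hns
  haveI : Nontrivial R := (Subgroup.nontrivial_iff_ne_bot R).2 hR1
  obtain ⟨e⟩ := mulEquiv_SL_five_of_perfect (hρ.comp_subtype R) hRp
  have h1 : Nat.card {g : Matrix.SpecialLinearGroup (Fin 2) (ZMod 5) // orderOf g = 5}
      ≤ Nat.card {b : B // orderOf b = 5} := by
    refine Nat.card_le_card_of_injective (fun g => ⟨(e.symm g.1 : B), ?_⟩) fun a b h => ?_
    · rw [Subgroup.orderOf_coe, MulEquiv.orderOf_eq]; exact g.2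
    · have h' := congrArg Subtype.val h
      simp only at h'
      exact Subtype.ext (e.symm.injective (Subtype.ext h'))
  have h2 := card_order_five_le hσ
  rw [hT 5] at h2
  have := five_lt_card_order_five_SL
  omega

theorem hasIntFpf_complement {L : Type u} [Group L] [Finite L] {H : Subgroup L}
    (hH : IsFrobeniusComplement H) : HasIntFpf H := by
  obtain ⟨N, -, hN, -, hN1, hfpf⟩ := CfsgLib.Base.Frobenius.exists_isFPF hH
  haveI := hN
  haveI : Nontrivial H := (Subgroup.nontrivial_iff_ne_bot H).2 hH.1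
  haveI : Nontrivial N := (Subgroup.nontrivial_iff_ne_bot N).2 hN1
  refine hasIntFpf_of_action ((MulAut.conjNormal (H := N)).comp H.subtype) fun g hg x hx => ?_
  by_contra hx1
  refine hx1 (Subtype.ext (hfpf.eq_one_of_commute g.2 (fun e => hg (Subtype.ext e)) x.2
    (mul_inv_eq_iff_eq_mul.1 (congrArg Subtype.val hx))))

/-- The number of elements of given order in a Frobenius group. -/
theorem card_orderOf_frobenius {L : Type u} [Group L] [Finite L] {H K : Subgroup L}
    (hH : IsFrobeniusComplement H) (hKn : K.Normal) (hc : K.IsComplement' H) {m : ℕ} (hm : m ≠ 1)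
    (hmH : m ∣ Nat.card H) :
    Nat.card {g : L // orderOf g = m} = Nat.card K * Nat.card {h : H // orderOf h = m} := by
  rw [← Nat.card_prod]
  refine (Nat.card_congr (Equiv.ofBijective (fun t : K × {h : H // orderOf h = m} =>
    (⟨(t.1 : L) * t.2.1 * (t.1 : L)⁻¹, by
      have h := orderOf_injective (MulAut.conj (t.1 : L)).toMonoidHom
        (MulAut.conj (t.1 : L)).injective (t.2.1 : L)
      rw [Subgroup.orderOf_coe, t.2.2] at h
      exact h⟩ : {g : L // orderOf g = m})) ⟨?_, ?_⟩)).symm
  · rintro ⟨k₁, c₁, hc₁⟩ ⟨k₂, c₂, hc₂⟩ he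
    have he' : (k₁ : L) * c₁ * (k₁ : L)⁻¹ = (k₂ : L) * c₂ * (k₂ : L)⁻¹ := congrArg Subtype.val he
    have hc1 : (c₁ : L) ≠ 1 := fun e => hm (by rw [← hc₁, ← Subgroup.orderOf_coe, e, orderOf_one])
    have h1 : ((k₂ : L)⁻¹ * k₁) * c₁ * ((k₂ : L)⁻¹ * k₁)⁻¹ ∈ H := by
      rw [show ((k₂ : L)⁻¹ * k₁) * c₁ * ((k₂ : L)⁻¹ * k₁)⁻¹
        = (k₂ : L)⁻¹ * (k₁ * c₁ * (k₁ : L)⁻¹) * k₂ by group, he']
      simpa [mul_assoc] using c₂.2
    have h2 : (k₂ : L)⁻¹ * k₁ ∈ H := by
      by_contra hn
      refine hc1 ?_
      have h3 : (k₂ : L)⁻¹ * k₁ * c₁ * ((k₂ : L)⁻¹ * k₁)⁻¹ ∈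
          H ⊓ MulAut.conj ((k₂ : L)⁻¹ * k₁) • H :=
        ⟨h1, Subgroup.smul_mem_pointwise_smul _ _ _ c₁.2⟩
      rw [hH.2.2 _ hn, Subgroup.mem_bot, conj_eq_one_iff] at h3
      exact h3
    have h4 : (k₂ : L)⁻¹ * k₁ = 1 :=
      Subgroup.mem_bot.1 (hc.disjoint.le_bot ⟨K.mul_mem (K.inv_mem k₂.2) k₁.2, h2⟩)
    have hk : (k₁ : L) = k₂ := (inv_mul_eq_one.1 h4).symm
    rw [hk] at he'
    obtain rfl : k₁ = k₂ := Subtype.ext hk
    obtain rfl : c₁ = c₂ := Subtype.ext (mul_left_cancel (mul_right_cancel he'))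
    rfl
  · rintro ⟨g, hg⟩
    have hgK : g ∉ K := by
      intro hgK
      refine hm (hg.symm.trans (Nat.eq_one_of_dvd_coprimes ?_ (Subgroup.orderOf_dvd_natCard K hgK)
        (hg ▸ hmH)))
      have h := CfsgLib.Base.Frobenius.coprime_card_index hH
      rwa [hc.index_eq_card, Nat.coprime_comm] at h
    have hker := CfsgLib.Base.Frobenius.frobeniusKernel_eq hH K hc
    have : g ∉ frobeniusKernel H := fun h => hgK (by rw [hker] at h; exact h)
    simp only [frobeniusKernel, Set.mem_setOf_eq, not_or, not_forall, not_not] at this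
    obtain ⟨-, a, ha⟩ := this
    rw [CfsgLib.Base.Frobenius.mem_conj_iff] at ha
    obtain ⟨⟨⟨k, hk⟩, ⟨c, hcH⟩⟩, hkc : k * c = a⟩ := hc.2 a
    have h1 : k⁻¹ * g * k ∈ H := by
      have := H.mul_mem (H.mul_mem hcH ha) (H.inv_mem hcH)
      rw [← hkc] at this
      simpa [mul_assoc] using this
    refine ⟨(⟨k, hk⟩, ⟨⟨_, h1⟩, ?_⟩), Subtype.ext (by simp [mul_assoc])⟩
    rw [Subgroup.orderOf_mk, ← hg]
    simpa using orderOf_injective (MulAut.conj k⁻¹).toMonoidHom (MulAut.conj k⁻¹).injective g

theorem sameOrderType_complement {F : Type u} {G : Type v} [Group F] [Finite F] [Group G] [Finite G]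
    (hT : CfsgLib.FgsB.SameOrderType F G) {C K : Subgroup F} (hC : IsFrobeniusComplement C)
    (hK : K.Normal) (hKC : K.IsComplement' C) {C' N : Subgroup G} (hC' : IsFrobeniusComplement C')
    (hN : N.Normal) (hNC : N.IsComplement' C') (hcK : Nat.card N = Nat.card K) :
    CfsgLib.FgsB.SameOrderType C C' := by
  have hcC : Nat.card C' = Nat.card C := by
    have h1 := hKC.card_mul
    have h2 := hNC.card_mul
    rw [← hT.card_eq, ← h1, hcK] at h2
    exact Nat.eq_of_mul_eq_mul_left Nat.card_pos h2
  intro m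
  by_cases hm : m = 1
  · subst hm
    simp only [orderOf_eq_one_iff]
    rw [Nat.card_unique, Nat.card_unique]
  by_cases hd : m ∣ Nat.card C
  · have h := hT m
    rw [card_orderOf_frobenius hC hK hKC hm hd,
      card_orderOf_frobenius hC' hN hNC hm (hcC.symm ▸ hd), hcK] at h
    exact Nat.eq_of_mul_eq_mul_left Nat.card_pos h
  · haveI : IsEmpty {c : C // orderOf c = m} := ⟨fun c => hd (c.2 ▸ orderOf_dvd_natCard c.1)⟩
    haveI : IsEmpty {c : C' // orderOf c = m} :=
      ⟨fun c => hd (hcC ▸ c.2 ▸ orderOf_dvd_natCard c.1)⟩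
    simp

theorem isSolvable_iff_complement {L : Type u} [Group L] [Finite L] {H : Subgroup L}
    (hH : IsFrobeniusComplement H) : Group.IsSolvable L ↔ Group.IsSolvable H := by
  refine ⟨fun h => inferInstance, fun h => ?_⟩
  obtain ⟨N, -, hNn, hc, hnil⟩ := CfsgLib.Base.Frobenius.exists_nilpotent_kernel hH
  haveI := hNn
  haveI := hnil
  haveI : Group.IsSolvable N := inferInstance
  haveI : Group.IsSolvable (L ⧸ N) :=
    solvable_of_surjective (f := hc.symm.QuotientMulEquiv.symm.toMonoidHom)
      hc.symm.QuotientMulEquiv.symm.surjective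
  exact solvable_of_ker_le_range N.subtype (QuotientGroup.mk' N) (by simp)

/-- A group with the order type of a Frobenius group is a Frobenius group, solvable exactly when
the first one is. -/
theorem frobenius_orderType {F : Type u} {G : Type v} [Group F] [Finite F] [Group G] [Finite G]
    (hF : ∃ C : Subgroup F, IsFrobeniusComplement C) (hT : CfsgLib.FgsB.SameOrderType F G) :
    (∃ C : Subgroup G, IsFrobeniusComplement C) ∧ (Group.IsSolvable G ↔ Group.IsSolvable F) := by
  obtain ⟨C, hC⟩ := hF
  obtain ⟨K, hKer, hKn, hKC, hKnil⟩ := CfsgLib.Base.Frobenius.exists_nilpotent_kernel hC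
  haveI := hKn
  haveI := hKnil
  have hcop : (Nat.card C).Coprime (Nat.card K) := by
    have h := CfsgLib.Base.Frobenius.coprime_card_index hC
    rwa [hKC.index_eq_card] at h
  let π : Set ℕ := {q | q.Prime ∧ q ∣ Nat.card K}
  -- the Sylow subgroups for `π` are normal
  have hsylF : ∀ (q : ℕ) [Fact q.Prime], q ∣ Nat.card K →
      ∃ S : Sylow q F, (S : Subgroup F).Normal := by
    intro q hq hd
    obtain ⟨P⟩ : Nonempty (Sylow q K) := inferInstance
    haveI : (P : Subgroup K).Normal :=
      ((Group.isNilpotent_of_finite_tfae (G := K)).out 0 3 rfl rfl).1 inferInstance q hq P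
    haveI := P.characteristic_of_normal inferInstance
    have hn : ((P : Subgroup K).map K.subtype).Normal := inferInstance
    obtain ⟨S, hS⟩ := (P.2.map K.subtype).exists_le_sylow
    refine ⟨S, ?_⟩
    have he : ((P : Subgroup K).map K.subtype) = S := by
      refine Subgroup.eq_of_le_of_card_ge hS (le_of_eq ?_)
      rw [S.card_eq_multiplicity, Subgroup.card_map_of_injective K.subtype_injective,
        P.card_eq_multiplicity]
      congr 1
      rw [← hKC.card_mul, Nat.factorization_mul Nat.card_pos.ne' Nat.card_pos.ne',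
        Finsupp.add_apply, Nat.factorization_eq_zero_of_not_dvd (n := Nat.card C) fun h =>
          hq.out.not_dvd_one (hcop ▸ Nat.dvd_gcd h hd), add_zero]
    rw [← he]; exact hn
  let N := piCore π G
  haveI hNn : N.Normal := inferInstance
  have hNpi : ∀ q : ℕ, q.Prime → q ∣ Nat.card N → q ∈ π := CfsgLib.Base.piCore_primes π G
  have hcN : Nat.card N = Nat.card K := by
    refine Nat.eq_of_factorization_eq Nat.card_pos.ne' Nat.card_pos.ne' fun q => ?_
    by_cases hq : q.Prime
    swap
    · rw [Nat.factorization_eq_zero_of_not_prime _ hq, Nat.factorization_eq_zero_of_not_prime _ hq]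
    haveI := Fact.mk hq
    by_cases hd : q ∣ Nat.card K
    · obtain ⟨S, hS⟩ := hsylF q hd
      obtain ⟨P⟩ : Nonempty (Sylow q G) := inferInstance
      haveI := hT.normal_sylow S hS P
      have hPN : (P : Subgroup G) ≤ N := by
        refine CfsgLib.Base.le_piCore fun r hr hrd => ?_
        obtain ⟨j, hj⟩ := IsPGroup.iff_card.1 P.2
        rw [hj] at hrd
        rw [(Nat.prime_dvd_prime_iff_eq hr hq).1 (hr.dvd_of_dvd_pow hrd)]
        exact ⟨hq, hd⟩
      have h1 : (Nat.card N).factorization q = (Nat.card G).factorization q := by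
        refine le_antisymm ((Nat.factorization_le_iff_dvd Nat.card_pos.ne' Nat.card_pos.ne').2
          N.card_subgroup_dvd_card q) ?_
        have h2 := Subgroup.card_dvd_of_le hPN
        rw [P.card_eq_multiplicity] at h2
        exact (hq.pow_dvd_iff_le_factorization Nat.card_pos.ne').1 h2
      rw [h1, ← hT.card_eq, ← hKC.card_mul,
        Nat.factorization_mul Nat.card_pos.ne' Nat.card_pos.ne', Finsupp.add_apply,
        Nat.factorization_eq_zero_of_not_dvd (n := Nat.card C) fun h =>
          hq.not_dvd_one (hcop ▸ Nat.dvd_gcd h hd), add_zero]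
    · rw [Nat.factorization_eq_zero_of_not_dvd hd,
        Nat.factorization_eq_zero_of_not_dvd fun h => hd (hNpi q hq h).2]
  have hidx : N.index = Nat.card C := by
    have h1 := N.card_mul_index
    rw [← hT.card_eq, ← hKC.card_mul, hcN] at h1
    exact Nat.eq_of_mul_eq_mul_left Nat.card_pos h1
  obtain ⟨C', hNC⟩ := Subgroup.exists_right_complement'_of_coprime (N := N)
    (by rw [hcN, hidx]; exact hcop.symm)
  have hcC : Nat.card C' = Nat.card C := hNC.symm.index_eq_card.symm.trans hidx
  have hC1 : Nat.card C ≠ 1 := fun e => hC.1 (C.eq_bot_of_card_eq e)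
  have hK1 : Nat.card K ≠ 1 := fun e => by
    have := hKC.card_mul
    rw [e, one_mul] at this
    exact hC.2.1 (C.eq_top_of_card_eq this)
  have hC' : IsFrobeniusComplement C' := by
    refine (CfsgLib.Base.Frobenius.isFrobeniusComplement_iff N C' hNC
      (fun e => hK1 (by rw [← hcN, e, Subgroup.card_bot]))
      (fun e => hC1 (by rw [← hcC, e, Subgroup.card_bot]))).2 fun c hc hc1 => ?_
    rw [Subgroup.eq_bot_iff_forall]
    rintro n ⟨hn, hnc⟩
    by_contra hn1
    have hdn : orderOf n ∣ Nat.card K := hcN ▸ Subgroup.orderOf_dvd_natCard N hn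
    have hdc : orderOf c ∣ Nat.card C := hcC ▸ Subgroup.orderOf_dvd_natCard C' hc
    have hcomm : Commute n c := Subgroup.mem_centralizer_singleton_iff.1 hnc
    have ho : orderOf (n * c) = orderOf n * orderOf c := hcomm.orderOf_mul_eq_mul_orderOf_of_coprime
      (Nat.Coprime.coprime_dvd_left hdn (hcop.symm.coprime_dvd_right hdc))
    obtain ⟨e, he⟩ := hT.exists_equiv
    obtain ⟨f, hf⟩ := e.surjective (n * c)
    have hfo : orderOf f = orderOf n * orderOf c := by rw [← he f, hf, ho]
    by_cases hfK : f ∈ K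
    · refine hc1 (orderOf_eq_one_iff.1 (Nat.eq_one_of_dvd_coprimes hcop hdc ?_))
      exact ((Dvd.intro_left _ hfo.symm : orderOf c ∣ orderOf f)).trans
        (Subgroup.orderOf_dvd_natCard K hfK)
    · have hf' : f ∉ frobeniusKernel C := by rw [← hKer]; exact hfK
      simp only [frobeniusKernel, Set.mem_setOf_eq, not_or, not_forall, not_not] at hf'
      obtain ⟨-, a, ha⟩ := hf'
      rw [CfsgLib.Base.Frobenius.mem_conj_iff] at ha
      refine hn1 (orderOf_eq_one_iff.1 (Nat.eq_one_of_dvd_coprimes hcop ?_ hdn))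
      have h2 : orderOf (a⁻¹ * f * a) = orderOf f := by
        simpa using orderOf_injective (MulAut.conj a⁻¹).toMonoidHom (MulAut.conj a⁻¹).injective f
      exact ((Dvd.intro _ hfo.symm : orderOf n ∣ orderOf f)).trans
        (h2 ▸ Subgroup.orderOf_dvd_natCard C ha)
  have hS := sameOrderType_complement hT hC hKn hKC hC' hNn hNC hcN
  refine ⟨⟨C', hC'⟩, ?_⟩
  rw [isSolvable_iff_complement hC, isSolvable_iff_complement hC']
  exact ⟨fun h => isSolvable_of_sameOrderType (hasIntFpf_complement hC') (hasIntFpf_complement hC)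
    (fun m => (hS m).symm), fun h => isSolvable_of_sameOrderType (hasIntFpf_complement hC)
    (hasIntFpf_complement hC') hS⟩

end CfsgLib.FTCons
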