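import Mathlib
import Cfsg.Agent.S0581
import Cfsg.Agent.Lib.Coprime.Hall
import Cfsg.Agent.Lib.Transfer.Alperin
import Cfsg.Agent.Lib.Base.MinNonNilpotent
import Cfsg.Prelude.Def_HallClasses

/-!
Hall's criterion: a Hall subgroup `Hs × Ht` with `Hs` nilpotent, together with `D_τ`, gives `D_π`.
-/

set_option autoImplicit false

open scoped Pointwise

namespace CfsgLib.FTCons.HallProduct

open CfsgLib.Coprime CfsgLib.Transfer Subgroup

universe u

variable {G : Type u} [Group G] [Finite G]

theorem orderOf_conj' (g x : G) : orderOf (g * x * g⁻¹) = orderOf x := by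
  rw [← MulAut.conj_apply, MulEquiv.orderOf_eq]

/-- Hall's `D`-criterion. -/
theorem isDPiGroup_of_product {σ τ π : Set ℕ} (hπ : π = σ ∪ τ) (hd : Disjoint σ τ)
    {H Hs Ht : Subgroup G} (hH : Cfsg.IsPiHall π H) (hs : Cfsg.IsPiSubgroup σ Hs)
    (ht : Cfsg.IsPiSubgroup τ Ht) (hsn : Group.IsNilpotent Hs) (hjoin : Hs ⊔ Ht = H)
    (hcomm : ∀ a ∈ Hs, ∀ b ∈ Ht, a * b = b * a) (hD : Cfsg.IsDPiGroup τ G) :
    Cfsg.IsDPiGroup π G := by
  have hnorm : Hs ≤ normalizer (Ht : Set G) := fun a ha =>
    centralizer_le_normalizer _ fun b hb => (hcomm a ha b hb).symm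
  have hbot : Hs ⊓ Ht = ⊥ := CfsgLib.Coprime.inf_eq_bot_of_coprime (coprime_of_pi hs fun p hp hpσ hpd =>
    hd.notMem_of_mem_left hpσ (ht p hp hpd))
  have hcard : Nat.card H = Nat.card Hs * Nat.card Ht := by
    rw [← hjoin, card_sup_of_inf_eq_bot hnorm hbot]
  have hsH : Hs ≤ H := le_sup_left.trans hjoin.le
  have htH : Ht ≤ H := le_sup_right.trans hjoin.le
  have hσπ : σ ⊆ π := hπ ▸ Set.subset_union_left
  have hτπ : τ ⊆ π := hπ ▸ Set.subset_union_right
  have hidx : ∀ K : Subgroup G, K ≤ H → Nat.card K * K.index = Nat.card H * H.index := fun K _ => by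
    rw [K.card_mul_index, H.card_mul_index]
  have hHs : Cfsg.IsPiHall σ Hs := by
    refine ⟨hs, fun p hp hpσ hpd => ?_⟩
    have e : Hs.index = Nat.card Ht * H.index := by
      refine Nat.eq_of_mul_eq_mul_left (Nat.card_pos (α := Hs)) ?_
      rw [hidx Hs hsH, hcard, mul_assoc]
    rw [e] at hpd
    exact (hp.dvd_mul.mp hpd).elim (fun h => hd.notMem_of_mem_left hpσ (ht p hp h))
      (hH.2 p hp (hσπ hpσ))
  have hHt : Cfsg.IsPiHall τ Ht := by
    refine ⟨ht, fun p hp hpτ hpd => ?_⟩
    have e : Ht.index = Nat.card Hs * H.index := by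
      refine Nat.eq_of_mul_eq_mul_left (Nat.card_pos (α := Ht)) ?_
      rw [hidx Ht htH, hcard]; ring
    rw [e] at hpd
    exact (hp.dvd_mul.mp hpd).elim (fun h => hd.notMem_of_mem_left (hs p hp h) hpτ)
      (hH.2 p hp (hτπ hpτ))
  -- `τ`-subgroups are conjugate into `Ht`
  have hτconj : ∀ U : Subgroup G, Cfsg.IsPiSubgroup τ U → ∃ g : G, MulAut.conj g • U ≤ Ht := by
    intro U hU
    obtain ⟨V, hUV, hV⟩ := Finite.exists_le_maximal (p := Cfsg.IsPiSubgroup τ) (a := U) hU
    obtain ⟨g, hg⟩ := hD V Ht hV ⟨ht, fun W hW hle => (piHall_eq_of_le hHt hW hle).ge⟩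
    refine ⟨g, ?_⟩
    rw [hg, ← conj_smul_eq_map]
    exact pointwise_smul_le_pointwise_smul_iff.mpr hUV
  -- `π`-subgroups are conjugate into `H`
  have hπconj : ∀ U : Subgroup G, Cfsg.IsPiSubgroup π U → ∃ g : G, MulAut.conj g • U ≤ H := by
    intro U hU
    have hcompl : ∀ p : ℕ, p.Prime → p ∈ σ → ¬ p ∣ Nat.card (Cfsg.pResidual p U) := by
      intro p hp hpσ
      haveI := Fact.mk hp
      refine hasNormalPComplement_iff_pResidual.mp ?_
      obtain ⟨P0⟩ : Nonempty (Sylow p U) := inferInstance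
      rw [hasNormalPComplement_iff_forall_centralizing P0]
      intro R hR g hg hcop
      set R' := R.map U.subtype with hR'
      have hR'p : IsPGroup p R' := (P0.2.to_le hR).map _
      obtain ⟨x, hx⟩ := Cfsg.Agent.S0581.result Hs R' hsn (piHall_coprime hHs) (fun q hq hqd => by
        obtain ⟨k, hk⟩ := IsPGroup.iff_card.mp hR'p
        have hqp : q = p := (Nat.prime_dvd_prime_iff_eq hq hp).mp
          (hq.dvd_of_dvd_pow (hk ▸ hqd))
        subst hqp
        have h1 : q ∣ Nat.card Hs * Hs.index := by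
          rw [Hs.card_mul_index]
          exact hqd.trans (R'.card_subgroup_dvd_card)
        exact (hq.dvd_mul.mp h1).resolve_right (hHs.2 q hq hpσ))
      set R'' := MulAut.conj x⁻¹ • R' with hR''
      have hR''le : R'' ≤ Hs := by
        rw [hR'', map_inv, pointwise_smul_subset_iff, inv_inv]
        exact hx
      have hR''p : IsPGroup p R'' := by
        rw [hR'', conj_smul_eq_map]; exact hR'p.map _
      set C := centralizer (R'' : Set G) with hC
      have hCidx : ∀ q : ℕ, q.Prime → q ∈ π \ {p} → ¬ q ∣ C.index := by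
        rintro q hq ⟨hqπ, hqp⟩ hqd
        rw [hπ] at hqπ
        rcases hqπ with hqσ | hqτ
        · haveI := Fact.mk hq
          obtain ⟨Q⟩ : Nonempty (Sylow q Hs) := inferInstance
          set Qm := (Q : Subgroup Hs).map Hs.subtype with hQm
          have hQC : Qm ≤ C := by
            intro y hy
            refine CfsgLib.Base.MinNonNilpotent.commute_of_nilpotent hsn hR''p hR''le
              (map_subtype_le _ hy) ?_
            obtain ⟨k, hk⟩ := IsPGroup.iff_orderOf.1 (Q.2.map Hs.subtype) ⟨y, hy⟩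
            rw [← Subgroup.orderOf_mk y hy, hk]
            exact ((Nat.coprime_primes hq hp).mpr hqp).pow_left k
          have h1 : q ∣ Qm.index := hqd.trans (index_dvd_of_le hQC)
          rw [hQm, index_map_subtype] at h1
          exact (hq.dvd_mul.mp h1).elim Q.not_dvd_index (hHs.2 q hq hqσ)
        · refine hHt.2 q hq hqτ (hqd.trans (index_dvd_of_le fun y hy => ?_))
          exact fun r hr => hcomm r (hR''le hr) y hy
      -- the conjugate of `g` centralizes `R''`
      set y := x⁻¹ * (g : G) * x⁻¹⁻¹ with hy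
      have hgN : (g : G) ∈ normalizer (R' : Set G) :=
        le_normalizer_map U.subtype ⟨g, hg, rfl⟩
      have hyN : y ∈ normalizer (R'' : Set G) := by
        rw [hR'', conj_smul_eq_map]
        exact le_normalizer_map (MulAut.conj x⁻¹).toMonoidHom ⟨g, hgN, rfl⟩
      have hCn : (C.subgroupOf (normalizer (R'' : Set G))).Normal := by
        rw [hC, ← normalizerMonoidHom_ker]; infer_instance
      have hyC : y ∈ C := by
        haveI := hCn
        set N := normalizer (R'' : Set G) with hN
        have h1 : orderOf (QuotientGroup.mk' (C.subgroupOf N) ⟨y, hyN⟩) ∣ orderOf (g : G) := by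
          refine (orderOf_map_dvd _ _).trans ?_
          rw [Subgroup.orderOf_mk, hy, orderOf_conj']
        have h2 : orderOf (QuotientGroup.mk' (C.subgroupOf N) ⟨y, hyN⟩) ∣ C.index :=
          (_root_.orderOf_dvd_natCard _).trans (relIndex_dvd_index_of_le
            (centralizer_le_normalizer _))
        have h3 : orderOf (QuotientGroup.mk' (C.subgroupOf N) ⟨y, hyN⟩) = 1 := by
          refine Nat.eq_one_of_dvd_coprimes (coprime_of_pi (π := π \ {p}) ?_ hCidx) h1 h2
          intro q hq hqd
          rw [orderOf_coe] at hqd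
          refine ⟨hU q hq (hqd.trans (_root_.orderOf_dvd_natCard g)), ?_⟩
          rintro (rfl : q = p)
          exact hq.ne_one (Nat.eq_one_of_dvd_coprimes hcop hqd dvd_rfl)
        rw [orderOf_eq_one_iff] at h3
        exact (QuotientGroup.eq_one_iff (⟨y, hyN⟩ : N)).mp h3
      rw [mem_centralizer_iff]
      intro r hr
      have h1 : x⁻¹ * (r : G) * x⁻¹⁻¹ ∈ R'' := by
        rw [hR'', conj_smul_eq_map]
        exact ⟨r, ⟨r, hr, rfl⟩, rfl⟩
      have h2 := hyC _ h1
      refine Subtype.ext ?_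
      rw [hy] at h2
      simp only [inv_inv] at h2
      show (r : G) * g = g * r
      calc (r : G) * g = x * (x⁻¹ * r * x * (x⁻¹ * g * x)) * x⁻¹ := by group
        _ = x * (x⁻¹ * g * x * (x⁻¹ * r * x)) * x⁻¹ := by rw [h2]
        _ = _ := by group
    -- the normal Hall `τ`-subgroup of `U`
    let D : Subgroup U := ⨅ p : {p : ℕ // p.Prime ∧ p ∈ σ}, Cfsg.pResidual p.1 U
    haveI hDn : D.Normal := normal_iInf_normal fun p => pResidual_normal
    have hDτ : ∀ q : ℕ, q.Prime → q ∣ Nat.card D → q ∈ τ := by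
      intro q hq hqd
      have hqπ := hU q hq (hqd.trans D.card_subgroup_dvd_card)
      rw [hπ] at hqπ
      exact hqπ.resolve_left fun hqσ => hcompl q hq hqσ
        (hqd.trans (card_dvd_of_le (iInf_le _ (⟨q, hq, hqσ⟩ : {p : ℕ // p.Prime ∧ p ∈ σ}))))
    have hDσ : ∀ q : ℕ, q.Prime → q ∣ D.index → q ∈ σ := by
      intro q hq hqd
      haveI := Fact.mk hq
      obtain ⟨z, hz⟩ := exists_prime_orderOf_dvd_card' (G := U ⧸ D) q hqd
      obtain ⟨w, rfl⟩ := QuotientGroup.mk'_surjective D z
      have hwD : w ∉ D := fun h => by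
        rw [show QuotientGroup.mk' D w = 1 from (QuotientGroup.eq_one_iff w).mpr h,
          orderOf_one] at hz
        exact hq.ne_one hz.symm
      simp only [D, mem_iInf, not_forall] at hwD
      obtain ⟨⟨p, hp, hpσ⟩, hw⟩ := hwD
      haveI := Fact.mk hp
      haveI := pResidual_normal (G := U) (p := p)
      obtain ⟨k, hk⟩ := exists_index_pResidual (G := U) (p := p)
      have hpow : w ^ q ∈ D :=
        (QuotientGroup.eq_one_iff _).mp (orderOf_dvd_iff_pow_eq_one.mp hz.dvd)
      have h1 : orderOf (QuotientGroup.mk' (Cfsg.pResidual p U) w) ∣ q :=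
        orderOf_dvd_of_pow_eq_one ((QuotientGroup.eq_one_iff _).mpr
          ((iInf_le (fun p : {p : ℕ // p.Prime ∧ p ∈ σ} => Cfsg.pResidual p.1 U) ⟨p, hp, hpσ⟩ :
            D ≤ Cfsg.pResidual p U) hpow))
      have h2 : orderOf (QuotientGroup.mk' (Cfsg.pResidual p U) w) ∣ p ^ k :=
        hk ▸ _root_.orderOf_dvd_natCard _
      rcases (Nat.dvd_prime hq).mp h1 with h | h
      · rw [orderOf_eq_one_iff] at h
        exact absurd ((QuotientGroup.eq_one_iff w).mp h) hw
      · rw [h] at h2
        exact ((Nat.prime_dvd_prime_iff_eq hq hp).mp (hq.dvd_of_dvd_pow h2)) ▸ hpσ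
    obtain ⟨E, hE⟩ := exists_right_complement'_of_coprime (N := D)
      (coprime_of_pi hDτ fun q hq hqτ hqd => hd.notMem_of_mem_left (hDσ q hq hqd) hqτ)
    have hcE : Nat.card E = D.index := hE.symm.index_eq_card.symm
    set D' := D.map U.subtype with hD'
    set E' := E.map U.subtype with hE'
    have hUeq : U = D' ⊔ E' := by
      rw [hD', hE', ← Subgroup.map_sup, hE.sup_eq_top, ← MonoidHom.range_eq_map, range_subtype]
    have hED : E' ≤ normalizer (D' : Set G) := by
      refine (map_subtype_le E).trans ?_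
      rw [← normal_subgroupOf_iff_le_normalizer (map_subtype_le D), subgroupOf,
        comap_map_eq_self_of_injective U.subtype_injective]
      exact hDn
    obtain ⟨a, ha⟩ := hτconj D' (fun q hq hqd => hDτ q hq (by
      rwa [card_map_of_injective U.subtype_injective] at hqd))
    set M := normalizer ((MulAut.conj a • D' : Subgroup G) : Set G) with hM
    have hEM : MulAut.conj a • E' ≤ M := by
      rw [hM, conj_smul_eq_map a D', conj_smul_eq_map]
      exact (map_mono hED).trans (le_normalizer_map _)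
    have hsM : Hs ≤ M := fun s hs' => centralizer_le_normalizer _ fun d hd' =>
      (hcomm s hs' d (ha hd')).symm
    haveI hsn' : Group.IsNilpotent (Hs.subgroupOf M) :=
      Group.nilpotent_of_mulEquiv (subgroupOfEquivOfLe hsM).symm
    have hsMhall : (Nat.card (Hs.subgroupOf M)).Coprime (Hs.subgroupOf M).index := by
      rw [Nat.card_congr (subgroupOfEquivOfLe hsM).toEquiv]
      exact (piHall_coprime hHs).coprime_dvd_right (relIndex_dvd_index_of_le hsM)
    obtain ⟨m, hm⟩ := Cfsg.Agent.S0581.result (Hs.subgroupOf M)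
      ((MulAut.conj a • E').subgroupOf M) hsn' hsMhall (fun q hq hqd => by
        rw [Nat.card_congr (subgroupOfEquivOfLe hEM).toEquiv, card_conj_smul,
          card_map_of_injective U.subtype_injective, hcE] at hqd
        rw [Nat.card_congr (subgroupOfEquivOfLe hsM).toEquiv]
        have h1 : q ∣ Nat.card Hs * Hs.index := by
          rw [Hs.card_mul_index]
          exact hqd.trans (D.index_dvd_card.trans U.card_subgroup_dvd_card)
        exact (hq.dvd_mul.mp h1).resolve_right (hHs.2 q hq (hDσ q hq hqd)))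
    have hE'' : MulAut.conj (m : G)⁻¹ • MulAut.conj a • E' ≤ Hs := by
      rw [map_inv, pointwise_smul_subset_iff, inv_inv]
      have h := map_mono (f := M.subtype) hm
      rw [map_subgroupOf_eq_of_le hEM, ← conj_smul_map, map_subgroupOf_eq_of_le hsM] at h
      exact h
    refine ⟨(m : G)⁻¹ * a, ?_⟩
    rw [hUeq, map_mul, mul_smul, smul_sup, smul_sup]
    refine sup_le ?_ (hE''.trans hsH)
    rw [conj_smul_eq_self_of_mem_normalizer (M.inv_mem m.2)]
    exact ha.trans htH
  intro V W hV hW
  have hmax : ∀ V : Subgroup G, Maximal (Cfsg.IsPiSubgroup π) V → ∃ g : G, MulAut.conj g • V = H := by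
    intro V hV
    obtain ⟨g, hg⟩ := hπconj V hV.prop
    refine ⟨g, le_antisymm hg ?_⟩
    rw [subset_pointwise_smul_iff, ← map_inv]
    refine hV.le_of_ge (isPiSubgroup_conj_smul g⁻¹ hH.1) ?_
    rw [map_inv]
    exact pointwise_smul_subset_iff.mp hg
  obtain ⟨g, hg⟩ := hmax V hV
  obtain ⟨g', hg'⟩ := hmax W hW
  refine ⟨g'⁻¹ * g, ?_⟩
  rw [← conj_smul_eq_map, map_mul, mul_smul, hg, ← hg', ← mul_smul, ← map_mul, inv_mul_cancel,
    map_one, one_smul]

end CfsgLib.FTCons.HallProduct
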