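import Mathlib
import Cfsg.Agent.Lib.Coprime.Action
import Cfsg.Agent.Lib.Transfer.ZJComplement
import Cfsg.Agent.Lib.Transfer.Control
import Cfsg.Agent.Lib.Base.Fitting
import Cfsg.Agent.Lib.FT.Interface

/-!
Coprime action with all maximal invariant subgroups nilpotent (via the odd order theorem).
-/

set_option autoImplicit false

namespace CfsgLib.FTCons

open Cfsg

universe v u

variable {A : Type v} [Group A] {G : Type u} [Group G]

/-- `H` is invariant under the action `φ`. -/
def ActInv (φ : A →* MulAut G) (H : Subgroup G) : Prop := ∀ a : A, ∀ x ∈ H, φ a x ∈ H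

/-- Every proper invariant subgroup is nilpotent. -/
def AllNilp (φ : A →* MulAut G) : Prop :=
  ∀ H : Subgroup G, H ≠ ⊤ → ActInv φ H → Group.IsNilpotent H

theorem ActInv.map_eq {φ : A →* MulAut G} {H : Subgroup G} (h : ActInv φ H) (a : A) :
    H.map (φ a).toMonoidHom = H := by
  refine le_antisymm ?_ ?_
  · rintro _ ⟨x, hx, rfl⟩
    exact h a x hx
  · intro x hx
    exact ⟨φ a⁻¹ x, h a⁻¹ x hx, by simp [map_inv]⟩

theorem actInv_of_map_eq {φ : A →* MulAut G} {H : Subgroup G}
    (h : ∀ a, H.map (φ a).toMonoidHom = H) : ActInv φ H := fun a x hx => by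
  have : (φ a).toMonoidHom x ∈ H.map (φ a).toMonoidHom := ⟨x, hx, rfl⟩
  rwa [h a] at this

theorem ActInv.normalizer {φ : A →* MulAut G} {H : Subgroup G} (h : ActInv φ H) :
    ActInv φ (Subgroup.normalizer (H : Set G)) := fun a x hx => by
  have := Subgroup.le_normalizer_map (H := H) (φ a).toMonoidHom
    ⟨x, hx, rfl⟩
  rwa [h.map_eq a] at this

theorem ActInv.sup {φ : A →* MulAut G} {H K : Subgroup G} (h : ActInv φ H) (h' : ActInv φ K) :
    ActInv φ (H ⊔ K) :=
  actInv_of_map_eq fun a => by rw [Subgroup.map_sup, h.map_eq, h'.map_eq]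

theorem allNilp_of_maximal [Finite G] {φ : A →* MulAut G}
    (hmax : ∀ H : Subgroup G, H ≠ ⊤ → (∀ a : A, ∀ x ∈ H, φ a x ∈ H) →
      (∀ K : Subgroup G, H < K → (∀ a : A, ∀ x ∈ K, φ a x ∈ K) → K = ⊤) → Group.IsNilpotent H) :
    AllNilp φ := by
  intro H hne hinv
  obtain ⟨M, hHM, hM⟩ := Finite.exists_le_maximal
    (p := fun K : Subgroup G => K ≠ ⊤ ∧ ActInv φ K) (a := H) ⟨hne, hinv⟩
  exact CfsgLib.Base.isNilpotent_of_le hHM (hmax M hM.prop.1 hM.prop.2 fun K hK hKinv =>
    by_contra fun hK' => hK.not_ge (hM.le_of_ge ⟨hK', hKinv⟩ hK.le))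

/-- A coprime action admits an invariant Sylow subgroup. -/
theorem exists_actInv_sylow [Finite A] [Finite G] (φ : A →* MulAut G)
    (hcop : (Nat.card A).Coprime (Nat.card G))
    (hsolv : Group.IsSolvable A ∨ Group.IsSolvable G) (p : ℕ) [Fact p.Prime] :
    ∃ P : Sylow p G, ActInv φ (P : Subgroup G) := by
  haveI : Finite (G ⋊[φ] A) := Finite.of_equiv _ SemidirectProduct.equivProd.symm
  set K : Subgroup (G ⋊[φ] A) := (SemidirectProduct.inl : G →* G ⋊[φ] A).range with hK
  set A' : Subgroup (G ⋊[φ] A) := (SemidirectProduct.inr : A →* G ⋊[φ] A).range with hA'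
  have hKn : K.Normal := by
    rw [hK, SemidirectProduct.range_inl_eq_ker_rightHom]; infer_instance
  have cK : Nat.card K = Nat.card G :=
    Nat.card_congr (MonoidHom.ofInjective SemidirectProduct.inl_injective).toEquiv.symm
  have cA : Nat.card A' = Nat.card A :=
    Nat.card_congr (MonoidHom.ofInjective SemidirectProduct.inr_injective).toEquiv.symm
  have hs : Group.IsSolvable A' ∨ Group.IsSolvable K := hsolv.imp
    (fun h => @Group.isSolvable_of_surjective _ _ _ _ _
      (SemidirectProduct.inr : A →* G ⋊[φ] A).rangeRestrict_surjective h)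
    (fun h => @Group.isSolvable_of_surjective _ _ _ _ _
      (SemidirectProduct.inl : G →* G ⋊[φ] A).rangeRestrict_surjective h)
  obtain ⟨P', hP'⟩ := CfsgLib.Coprime.exists_invariant_sylow (p := p)
    (Subgroup.le_normalizer_of_normal (H := K)) (by rwa [cA, cK]) hs
  set f : G →* K := (SemidirectProduct.inl : G →* G ⋊[φ] A).rangeRestrict with hf
  have hfi : Function.Injective f :=
    MonoidHom.rangeRestrict_injective_iff.mpr SemidirectProduct.inl_injective
  refine ⟨P'.comapOfInjective f hfi (by
    rw [hf, MonoidHom.range_eq_top.mpr (MonoidHom.rangeRestrict_surjective _)]; exact le_top),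
    fun a x hx => ?_⟩
  rw [Sylow.coe_comapOfInjective, Subgroup.mem_comap] at hx ⊢
  have h1 : (SemidirectProduct.inr a : G ⋊[φ] A) ∈
      Subgroup.normalizer (((P' : Subgroup K).map K.subtype : Subgroup _) : Set (G ⋊[φ] A)) :=
    hP' ⟨a, rfl⟩
  obtain ⟨y, hy, hye⟩ := (Subgroup.mem_normalizer_iff.mp h1 (SemidirectProduct.inl x)).mp
    ⟨f x, hx, rfl⟩
  rw [← map_inv, ← SemidirectProduct.inl_aut] at hye
  have : y = f (φ a x) := Subtype.ext hye
  exact this ▸ hy

theorem isSolvable_or_of_coprime (hFTA : CfsgLib.FT.OddOrderThm.{v})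
    (hFT : CfsgLib.FT.OddOrderThm.{u}) [Finite A] [Finite G]
    (hcop : (Nat.card A).Coprime (Nat.card G)) : Group.IsSolvable A ∨ Group.IsSolvable G := by
  by_cases h : Even (Nat.card G)
  · exact Or.inl (hFTA A (Nat.Coprime.odd_of_right
      (hcop.coprime_dvd_right (even_iff_two_dvd.mp h))))
  · exact Or.inr (hFT G (Nat.not_even_iff_odd.mp h))

theorem isSolvable_of_allNilp_aux (hFTA : CfsgLib.FT.OddOrderThm.{v})
    (hFT : CfsgLib.FT.OddOrderThm.{u}) [Finite A] (n : ℕ) :
    ∀ {G : Type u} [Group G] [Finite G] (φ : A →* MulAut G), Nat.card G ≤ n →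
      (Nat.card A).Coprime (Nat.card G) → AllNilp φ → Group.IsSolvable G := by
  induction n with
  | zero =>
    intro G _ _ φ hn
    exact absurd hn (Nat.not_le.mpr Nat.card_pos)
  | succ n ih =>
    intro G _ _ φ hn hcop hall
    by_cases hN : ∃ N : Subgroup G, N.Normal ∧ ActInv φ N ∧ N ≠ ⊥ ∧ N ≠ ⊤
    · obtain ⟨N, hNn, hNi, hbot, htop⟩ := hN
      haveI : Group.IsNilpotent N := hall N htop hNi
      haveI : Group.IsSolvable N := inferInstance
      let ψ : A →* MulAut (G ⧸ N) :=
        { toFun := fun a => QuotientGroup.congr N N (φ a) (hNi.map_eq a)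
          map_one' := by
            ext x
            obtain ⟨y, rfl⟩ := QuotientGroup.mk'_surjective N x
            simp
          map_mul' := fun a b => by
            ext x
            obtain ⟨y, rfl⟩ := QuotientGroup.mk'_surjective N x
            simp
            rfl }
      have hψ : ∀ a x, ψ a (QuotientGroup.mk' N x) = QuotientGroup.mk' N (φ a x) :=
        fun a x => rfl
      haveI : Group.IsSolvable (G ⧸ N) := by
        refine ih ψ (Nat.lt_succ_iff.mp ((CfsgLib.Coprime.card_quotient_lt hbot).trans_le hn))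
          (hcop.coprime_dvd_right N.index_dvd_card) fun H hH hHi => ?_
        have hsurj := QuotientGroup.mk'_surjective N
        haveI : Group.IsNilpotent (H.comap (QuotientGroup.mk' N)) := hall _ (fun h => hH (by
          rw [← Subgroup.map_comap_eq_self_of_surjective hsurj H, h,
            Subgroup.map_top_of_surjective _ hsurj]))
          (fun a x hx => by
            have := hHi a _ hx
            rwa [hψ] at this)
        have hs := (QuotientGroup.mk' N).subgroupMap_surjective (H.comap (QuotientGroup.mk' N))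
        rw [← Subgroup.map_comap_eq_self_of_surjective hsurj H]
        exact Group.nilpotent_of_surjective _ hs
      exact (Group.isSolvable_iff_subgroup_quotient N).mpr ⟨inferInstance, inferInstance⟩
    · push Not at hN
      by_cases h2 : ∀ p : ℕ, p.Prime → p ∣ Nat.card G → p = 2
      · haveI : Group.IsNilpotent G := IsPGroup.isNilpotent (p := 2) (IsPGroup.of_card
          (Nat.eq_prime_pow_of_unique_prime_dvd Nat.card_pos.ne' fun {d} => h2 d))
        infer_instance
      push Not at h2
      obtain ⟨p, hp, hpG, hp2⟩ := h2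
      haveI := Fact.mk hp
      obtain ⟨P, hP⟩ := exists_actInv_sylow φ hcop (isSolvable_or_of_coprime hFTA hFT hcop) p
      have hPne : (P : Subgroup G) ≠ ⊥ := fun h => by
        have := P.not_dvd_index
        rw [h, Subgroup.index_bot] at this
        exact this hpG
      set Z := centerThompsonOf p (P : Subgroup G) with hZ
      have hZi : ActInv φ Z := actInv_of_map_eq fun a => by
        rw [hZ, CfsgLib.Transfer.map_centerThompsonOf (φ a).toMonoidHom _
          ((φ a).injective.comp (P : Subgroup G).subtype_injective), hP.map_eq a]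
      have hZne : Z ≠ ⊥ :=
        CfsgLib.Transfer.subgroupFunctor_centerThompsonOf.{u}.ne_bot G _ P.2 hPne
      by_cases hNZ : Subgroup.normalizer (Z : Set G) = ⊤
      · have hZtop := hN Z (Subgroup.normalizer_eq_top_iff.mp hNZ) hZi hZne
        have hPtop : (P : Subgroup G) = ⊤ := top_le_iff.mp
          (hZtop ▸ CfsgLib.Transfer.centerThompsonOf_le (P : Subgroup G))
        haveI : Group.IsNilpotent (⊤ : Subgroup G) := hPtop ▸ P.2.isNilpotent
        haveI : Group.IsNilpotent G :=
          Group.nilpotent_of_surjective (Subgroup.topEquiv : (⊤ : Subgroup G) ≃* G).toMonoidHom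
            (MulEquiv.surjective _)
        infer_instance
      haveI := hall _ hNZ hZi.normalizer
      obtain ⟨P0, K, hKn, hK⟩ := CfsgLib.Transfer.hasNormalPComplement_of_centerThompsonOf hp2 P
        CfsgLib.Transfer.hasNormalPComplement_of_isNilpotent
      haveI := hKn
      obtain ⟨k, hk⟩ := IsPGroup.iff_card.mp P0.2
      have hKidx : K.index = p ^ k := by rw [hK.symm.index_eq_card, hk]
      have hKi : ActInv φ K := by
        intro a x hx
        rw [← QuotientGroup.eq_one_iff, ← orderOf_eq_one_iff]
        have h1 : orderOf (φ a x : G ⧸ K) ∣ p ^ k := by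
          rw [← hKidx]; exact orderOf_dvd_natCard _
        have h2 : orderOf (φ a x : G ⧸ K) ∣ Nat.card K :=
          (orderOf_map_dvd (QuotientGroup.mk' K) _).trans (by
            rw [MulEquiv.orderOf_eq, ← Subgroup.orderOf_mk x hx]
            exact orderOf_dvd_natCard _)
        refine Nat.eq_one_of_dvd_coprimes (Nat.Coprime.pow_left k
          ((Nat.Prime.coprime_iff_not_dvd hp).mpr fun hd => ?_)) h1 h2
        have := P0.not_dvd_index
        rw [hK.index_eq_card] at this
        exact this hd
      by_cases hKb : K = ⊥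
      · haveI : Group.IsNilpotent G := IsPGroup.isNilpotent (p := p) (IsPGroup.of_card (n := k)
          (by rw [← hKidx, hKb, Subgroup.index_bot]))
        infer_instance
      · exfalso
        have := P0.not_dvd_index
        rw [hK.index_eq_card, hN K hKn hKi hKb, Subgroup.card_top] at this
        exact this hpG

/-- A coprime action all of whose maximal invariant subgroups are nilpotent: solvability. -/
theorem isSolvable_of_allNilp (hFTA : CfsgLib.FT.OddOrderThm.{v})
    (hFT : CfsgLib.FT.OddOrderThm.{u}) [Finite A] [Finite G] {φ : A →* MulAut G}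
    (hcop : (Nat.card A).Coprime (Nat.card G)) (hall : AllNilp φ) : Group.IsSolvable G :=
  isSolvable_of_allNilp_aux hFTA hFT _ φ le_rfl hcop hall

/-- The structure of a non-nilpotent group with all proper invariant subgroups nilpotent. -/
theorem structure_of_allNilp (hFTA : CfsgLib.FT.OddOrderThm.{v})
    (hFT : CfsgLib.FT.OddOrderThm.{u}) [Finite A] [Finite G] {φ : A →* MulAut G}
    (hcop : (Nat.card A).Coprime (Nat.card G)) (hall : AllNilp φ) (hG : ¬ Group.IsNilpotent G) :
    Group.IsSolvable G ∧
      (∃ p q a b : ℕ, p.Prime ∧ q.Prime ∧ p ≠ q ∧ Nat.card G = p ^ a * q ^ b) ∧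
      ∃ (p : ℕ) (P : Sylow p G), p.Prime ∧ p ∣ Nat.card G ∧ (P : Subgroup G).Normal ∧
        ActInv φ (P : Subgroup G) := by
  have hsol := isSolvable_of_allNilp hFTA hFT hcop hall
  refine ⟨hsol, ?_⟩
  haveI : Nontrivial G := by
    by_contra h
    rw [not_nontrivial_iff_subsingleton] at h
    exact hG inferInstance
  have hC : Nat.card (Abelianization G) ≠ 1 := by
    show (commutator G).index ≠ 1
    rw [ne_eq, Subgroup.index_eq_one]
    exact (Group.IsSolvable.commutator_lt_top_of_nontrivial G).ne
  obtain ⟨q, hq, hqd⟩ := Nat.exists_prime_and_dvd hC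
  haveI := Fact.mk hq
  set f : G →* Abelianization G := Abelianization.of with hf
  set R := (powMonoidHom q : Abelianization G →* Abelianization G).range with hR
  set M := R.comap f with hMdef
  have hMn : M.Normal := (Subgroup.normal_of_isMulCommutative R).comap f
  have hMi : ActInv φ M := by
    intro a x hx
    obtain ⟨z, hz⟩ := Subgroup.mem_comap.mp hx
    refine ⟨Abelianization.map (φ a).toMonoidHom z, ?_⟩
    rw [powMonoidHom_apply] at hz ⊢
    rw [← map_pow, hz]
    exact Abelianization.map_of _ x
  have hMtop : M ≠ ⊤ := by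
    intro h
    have hsurj : Function.Surjective (powMonoidHom q : Abelianization G →* Abelianization G) := by
      intro w
      obtain ⟨x, rfl⟩ := QuotientGroup.mk'_surjective (commutator G) w
      exact Subgroup.mem_comap.mp (h ▸ Subgroup.mem_top x : x ∈ M)
    obtain ⟨w, hw⟩ := exists_prime_orderOf_dvd_card' q hqd
    have hinj := Finite.injective_iff_surjective.mpr hsurj
    have hw1 : w ^ q = 1 ^ q := by rw [one_pow, ← hw, pow_orderOf_eq_one]
    rw [hinj hw1, orderOf_one] at hw
    exact hq.ne_one hw.symm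
  haveI hMnil : Group.IsNilpotent M := hall M hMtop hMi
  have hPM : ∀ (p : ℕ) (_ : p.Prime), p ≠ q → ∀ P : Sylow p G, (P : Subgroup G) ≤ M := by
    intro p hp hpq P x hx
    obtain ⟨k, hk⟩ := P.2 ⟨x, hx⟩
    have hcq : q.Coprime (orderOf (f x)) := Nat.Coprime.coprime_dvd_right
      ((orderOf_map_dvd f x).trans
        (orderOf_dvd_of_pow_eq_one (congrArg Subtype.val hk : x ^ p ^ k = 1)))
      (Nat.Coprime.pow_right k ((Nat.coprime_primes hq hp).mpr (Ne.symm hpq)))
    obtain ⟨m, hm⟩ := exists_pow_eq_self_of_coprime hcq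
    exact ⟨f x ^ m, by rw [powMonoidHom_apply, ← pow_mul, mul_comm, pow_mul, hm]⟩
  have hunique : ∀ (p : ℕ) (_ : p.Prime), p ≠ q → ∀ P P' : Sylow p G, P' = P := by
    intro p hp hpq P P'
    haveI := Fact.mk hp
    have hn : ((P.subtype (hPM p hp hpq P) : Sylow p M) : Subgroup M).Normal :=
      ((Group.isNilpotent_of_finite_tfae (G := M)).out 0 3 rfl rfl).mp hMnil p ‹_› _
    haveI := Sylow.unique_of_normal _ hn
    have h1 : P'.subtype (hPM p hp hpq P') = P.subtype (hPM p hp hpq P) := Subsingleton.elim _ _
    exact Sylow.subtype_injective h1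
  have hnormal : ∀ (p : ℕ) (_ : p.Prime), p ≠ q → ∀ P : Sylow p G,
      (P : Subgroup G).Normal ∧ ActInv φ (P : Subgroup G) := by
    intro p hp hpq P
    haveI := Fact.mk hp
    haveI : Subsingleton (Sylow p G) :=
      ⟨fun a b => (hunique p hp hpq P a).trans (hunique p hp hpq P b).symm⟩
    refine ⟨P.normal_of_subsingleton, actInv_of_map_eq fun a => ?_⟩
    exact congrArg Sylow.toSubgroup (hunique p hp hpq P
      (P.mapSurjective (f := (φ a).toMonoidHom) (φ a).surjective))
  obtain ⟨Q, hQ⟩ := exists_actInv_sylow φ hcop (Or.inr hsol) q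
  by_cases hpair : ∀ (p : ℕ) (_ : p.Prime), p ≠ q → ∀ P : Sylow p G,
      (P : Subgroup G) ⊔ (Q : Subgroup G) ≠ ⊤
  · exfalso
    have hQn : (Q : Subgroup G).Normal := by
      rw [← Subgroup.normalizer_eq_top_iff, ← Subgroup.index_eq_one]
      by_contra h
      obtain ⟨p, hp, hd⟩ := Nat.exists_prime_and_dvd h
      haveI := Fact.mk hp
      by_cases hpq : p = q
      · subst hpq
        exact Q.not_dvd_index (hd.trans (Subgroup.index_dvd_of_le Subgroup.le_normalizer))
      · let P : Sylow p G := Classical.arbitrary _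
        refine P.not_dvd_index (hd.trans (Subgroup.index_dvd_of_le ?_))
        set S := (P : Subgroup G) ⊔ (Q : Subgroup G) with hS
        haveI hSnil : Group.IsNilpotent S :=
          hall S (hpair p hp hpq P) ((hnormal p hp hpq P).2.sup hQ)
        have hn : ((Q.subtype (le_sup_right : (Q : Subgroup G) ≤ S) : Sylow q S) :
            Subgroup S).Normal :=
          ((Group.isNilpotent_of_finite_tfae (G := S)).out 0 3 rfl rfl).mp hSnil q ‹_› _
        rw [Sylow.coe_subtype, Subgroup.normal_subgroupOf_iff_le_normalizer le_sup_right] at hn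
        exact le_sup_left.trans hn
    refine hG (((Group.isNilpotent_of_finite_tfae (G := G)).out 0 3 rfl rfl).mpr fun p hp P => ?_)
    by_cases hpq : p = q
    · subst hpq
      haveI := Sylow.unique_of_normal Q hQn
      rw [Subsingleton.elim P Q]
      exact hQn
    · exact (hnormal p hp.out hpq P).1
  · push Not at hpair
    obtain ⟨p, hp, hpq, P, hPQ⟩ := hpair
    haveI := Fact.mk hp
    obtain ⟨a, ha⟩ := IsPGroup.iff_card.mp P.2
    obtain ⟨b, hb⟩ := IsPGroup.iff_card.mp Q.2
    haveI := (hnormal p hp hpq P).1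
    refine ⟨⟨p, q, a, b, hp, hq, hpq, ?_⟩, p, P, hp, ?_, hnormal p hp hpq P⟩
    · have hco : (Nat.card (Q : Subgroup G)).Coprime (Nat.card (P : Subgroup G)) := by
        rw [ha, hb]
        exact Nat.Coprime.pow _ _ ((Nat.coprime_primes hq hp).mpr (Ne.symm hpq))
      have := CfsgLib.Coprime.card_sup_of_inf_eq_bot
        (Subgroup.le_normalizer_of_normal (H := (P : Subgroup G)))
        (CfsgLib.Coprime.inf_eq_bot_of_coprime hco)
      rw [sup_comm, hPQ, Subgroup.card_top, ha, hb] at this
      rw [this, mul_comm]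
    · by_contra hnd
      have hP1 : (P : Subgroup G) = ⊥ := by
        refine Subgroup.eq_bot_of_card_eq _ (ha.trans ?_)
        rcases a with _ | a
        · exact pow_zero p
        · exact absurd ((dvd_pow_self p (Nat.succ_ne_zero a)).trans
            (ha ▸ (P : Subgroup G).card_subgroup_dvd_card)) hnd
      refine hG ?_
      rw [hP1, bot_sup_eq] at hPQ
      haveI : Group.IsNilpotent (⊤ : Subgroup G) := hPQ ▸ Q.2.isNilpotent
      exact Group.nilpotent_of_surjective (Subgroup.topEquiv : (⊤ : Subgroup G) ≃* G).toMonoidHom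
            (MulEquiv.surjective _)

end CfsgLib.FTCons
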