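import Cfsg.Agent.Lib.FTCons.StandardSubgroup
import Mathlib.GroupTheory.NoncommCoprod

/-!
# A component of largest order stays a component for the four-groups centralising it

Component type, B-property, `O(G) = 1`: if `K` is a component of `C(a)` of largest order and, subject
to that, with centraliser of largest `2`-rank, and `B` is a largest elementary abelian subgroup of
`C(a) ∩ C(K)`, then `K` is a component of `C(b)` for every `b ∈ B#`.
-/

set_option autoImplicit false
set_option linter.style.haveILetI false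
set_option linter.unusedSectionVars false

open scoped commutatorElement Pointwise

namespace CfsgLib.LBalance

open Cfsg Subgroup CfsgLib.Base CfsgLib.Components

universe u

variable {G : Type u} [Group G] [Finite G]

/-- `E` is a component of the subgroup `C`. -/
def IsComponentIn' (E C : Subgroup G) : Prop :=
  E ≤ C ∧ IsComponent (E.subgroupOf C)

theorem IsComponentIn'.conj {E C : Subgroup G} (hE : IsComponentIn' E C) {x : G} (hx : x ∈ C) :
    IsComponentIn' (E.map (MulAut.conj x).toMonoidHom) C := by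
  refine ⟨?_, ?_⟩
  · rintro _ ⟨e, he, rfl⟩
    exact mul_mem (mul_mem hx (hE.1 he)) (inv_mem hx)
  · have h := isComponent_conj hE.2 (⟨x, hx⟩ : C)
    convert h using 1
    ext ⟨y, hy⟩
    constructor
    · rintro ⟨e, he, hey⟩
      exact ⟨⟨e, hE.1 he⟩, he, Subtype.ext hey⟩
    · rintro ⟨⟨e, _⟩, he, hey⟩
      exact ⟨e, he, congrArg Subtype.val hey⟩

theorem IsComponentIn'.commute {E F C : Subgroup G} (hE : IsComponentIn' E C)
    (hF : IsComponentIn' F C) (hne : E ≠ F) : E ≤ centralizer (F : Set G) := by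
  have h := congrArg (Subgroup.map C.subtype) (components_commute hE.2 hF.2 fun h => hne (by
    rw [← map_subgroupOf_eq_of_le hE.1, h, map_subgroupOf_eq_of_le hF.1]))
  rwa [map_commutator, map_subgroupOf_eq_of_le hE.1, map_subgroupOf_eq_of_le hF.1, Subgroup.map_bot,
    commutator_eq_bot_iff_le_centralizer] at h

/-- The theorem. -/
theorem maximal_component_stays (hO : oddCore G = ⊥) (hB : HasBProperty G) (a : G)
    (ha : orderOf a = 2) (K : Subgroup G) (hKa : K ≤ centralizer ({a} : Set G))
    (hK : IsComponent (K.subgroupOf (centralizer ({a} : Set G))))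
    (hmax : ∀ y : G, orderOf y = 2 → ∀ K' : Subgroup G, K' ≤ centralizer ({y} : Set G) →
      IsComponent (K'.subgroupOf (centralizer ({y} : Set G))) →
      Nat.card ↥K' ≤ Nat.card ↥K ∧ (Nat.card ↥K' = Nat.card ↥K →
        ∀ k : ℕ, PRankLE 2 k ↥(centralizer ({a} : Set G) ⊓ centralizer (K : Set G)) →
          PRankLE 2 k ↥(centralizer ({y} : Set G) ⊓ centralizer (K' : Set G))))
    (hrk : ¬ PRankLE 2 1 ↥K) (B : Subgroup G)
    (hBle : B ≤ centralizer ({a} : Set G) ⊓ centralizer (K : Set G))
    (hBel : IsElementaryAbelian 2 B)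
    (hBmax : ∀ B' : Subgroup G, B' ≤ centralizer ({a} : Set G) ⊓ centralizer (K : Set G) →
      IsElementaryAbelian 2 B' → Nat.card ↥B' ≤ Nat.card ↥B)
    (b : G) (hb : b ∈ B) (hb1 : b ≠ 1) :
    K ≤ centralizer ({b} : Set G) ∧ IsComponent (K.subgroupOf (centralizer ({b} : Set G))) := by
  classical
  have hb2 : orderOf b = 2 := orderOf_eq_prime (hBel.2 b hb) hb1
  set Ca := centralizer ({a} : Set G) with hCa
  set Cb := centralizer ({b} : Set G) with hCb
  have hKb : K ≤ Cb := fun k hk =>
    mem_centralizer_singleton_iff.2 (mem_centralizer_iff.1 (hBle hb).2 k hk)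
  refine ⟨hKb, ?_⟩
  have haCb : a ∈ Cb := mem_centralizer_singleton_iff.2
    (mem_centralizer_singleton_iff.1 (hBle hb).1).symm
  -- the `2`-layer of `C(b)` is its layer
  have hL2 : pLayer 2 ↥Cb = layer ↥Cb := pLayer_two_eq_layer fun Q hQ => by
    have h := le_bot_iff.1 ((hB b hb2).trans hO.le)
    rw [Subgroup.map_eq_bot_iff_of_injective _ (subtype_injective _)] at h
    rw [eq_bot_iff, ← h, map_pPrimeCore_pComponent hQ]
    exact commutator_mono (pComponent_le_pLayer hQ) inf_le_right
  set ta : ↥Cb := ⟨a, haCb⟩ with hta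
  have hta2 : orderOf ta = 2 := by rw [← orderOf_coe]; exact ha
  set L := K.subgroupOf Cb with hL
  have hLt : L ≤ centralizer ({ta} : Set ↥Cb) := fun x hx =>
    mem_centralizer_singleton_iff.2 (Subtype.ext (mem_centralizer_singleton_iff.1 (hKa hx)))
  have hLc : IsComponent (L.subgroupOf (centralizer ({ta} : Set ↥Cb))) := by
    have hKW : K ≤ Ca ⊓ Cb := le_inf hKa hKb
    have h := isComponent_subgroupOf (H := (Ca ⊓ Cb).subgroupOf Ca)
      (fun x (hx : x ∈ K.subgroupOf Ca) => hKW hx) hK
    let f : ↥((Ca ⊓ Cb).subgroupOf Ca) ≃* ↥(centralizer ({ta} : Set ↥Cb)) :=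
      { toFun := fun x => ⟨⟨x.1.1, x.2.2⟩,
          mem_centralizer_singleton_iff.2 (Subtype.ext (mem_centralizer_singleton_iff.1 x.1.2))⟩
        invFun := fun y => ⟨⟨y.1.1, mem_centralizer_singleton_iff.2
          (congrArg Subtype.val (mem_centralizer_singleton_iff.1 y.2))⟩,
          ⟨mem_centralizer_singleton_iff.2
            (congrArg Subtype.val (mem_centralizer_singleton_iff.1 y.2)), y.1.2⟩⟩
        left_inv := fun x => rfl
        right_inv := fun y => rfl
        map_mul' := fun x y => rfl }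
    have h' := isComponent_map_equiv f h
    convert h' using 1
    ext y
    constructor
    · intro hy
      exact ⟨f.symm y, hy, f.apply_symm_apply y⟩
    · rintro ⟨x, hx, rfl⟩
      exact hx
  obtain ⟨D, hD, hcase⟩ := component_trichotomy hL2 ta hta2 L hLt hLc
  set M := D.map Cb.subtype with hMdef
  have hMc : IsComponentIn' M Cb := by
    refine ⟨map_subtype_le D, ?_⟩
    rw [hMdef, subgroupOf, comap_map_eq_self_of_injective (subtype_injective _)]
    exact hD
  have hcardM : Nat.card M ≤ Nat.card K := (hmax b hb2 M hMc.1 hMc.2).1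
  rcases hcase with hLD | ⟨hlt, -⟩ | ⟨hne, hLW⟩
  · rw [hLD]; exact hD
  · exfalso
    refine hlt.ne (eq_of_le_of_card_ge hlt.le ?_)
    rw [hMdef, Subgroup.card_map_of_injective (subtype_injective _)] at hcardM
    exact hcardM.trans_eq (Nat.card_congr (subgroupOfEquivOfLe hKb).toEquiv).symm
  · exfalso
    set σ := (MulAut.conj a).toMonoidHom with hσ
    set M' := M.map σ with hM'
    have ha2 : a * a = 1 := by rw [← sq, ← ha, pow_orderOf_eq_one]
    have haa : ∀ x : G, a * (a * x * a⁻¹) * a⁻¹ = x := by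
      intro x
      rw [show a * (a * x * a⁻¹) * a⁻¹ = (a * a) * x * (a * a)⁻¹ by group, ha2]
      group
    have hτ : (D.map (MulAut.conj ta).toMonoidHom).map Cb.subtype = M' := by
      rw [hM', hMdef, Subgroup.map_map, Subgroup.map_map]
      rfl
    have hMM' : M' ≠ M := fun h => hne (map_injective (subtype_injective _) (hτ.trans h))
    have hM'c : IsComponentIn' M' Cb := hMc.conj haCb
    have hcomm : ∀ x ∈ M, ∀ y ∈ M', Commute x y := fun x hx y hy =>
      (mem_centralizer_iff.1 (hMc.commute hM'c hMM'.symm hx) y hy).symm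
    have hKle : K ≤ M ⊔ M' := by
      rw [← map_subgroupOf_eq_of_le hKb, ← hL, hMdef, ← hτ, ← Subgroup.map_sup]
      refine map_mono ?_
      rw [hLW]
      exact (map_subtype_le _).trans inf_le_left
    have hmem' : ∀ {x : G}, x ∈ M → a * x * a⁻¹ ∈ M' := fun hx => ⟨_, hx, rfl⟩
    have hmem : ∀ {x : G}, x ∈ M' → a * x * a⁻¹ ∈ M := by
      rintro _ ⟨y, hy, rfl⟩
      show a * (a * y * a⁻¹) * a⁻¹ ∈ M
      rwa [haa]
    let δ : ↥M →* G := MonoidHom.mk' (fun d => (d : G) * (a * d * a⁻¹)) fun x y => by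
      show (x : G) * y * (a * ((x : G) * y) * a⁻¹) = x * (a * x * a⁻¹) * (y * (a * y * a⁻¹))
      have h : Commute (y : G) (a * x * a⁻¹) := hcomm y y.2 _ (hmem' x.2)
      calc (x : G) * y * (a * ((x : G) * y) * a⁻¹)
          = x * (y * (a * x * a⁻¹)) * (a * y * a⁻¹) := by group
        _ = x * (a * x * a⁻¹ * y) * (a * y * a⁻¹) := by rw [h.eq]
        _ = _ := by group
    have hδ : ∀ d : ↥M, δ d = (d : G) * (a * d * a⁻¹) := fun _ => rfl
    have hKperf : ⁅K, K⁆ = K := by
      have h := congrArg (Subgroup.map Ca.subtype) (component_commutator_self hK)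
      rwa [map_commutator, map_subgroupOf_eq_of_le hKa] at h
    have hKne : ¬ K ≤ centralizer (K : Set G) := fun h => by
      rw [← commutator_eq_bot_iff_le_centralizer, hKperf] at h
      exact component_ne_bot hK (by rw [h, bot_subgroupOf])
    have hsplit : ∀ w ∈ K, ∃ d : ↥M, ∃ z : G, (∀ v ∈ M ⊔ M', Commute z v) ∧ w = δ d * z ∧
        δ d ∈ M ⊔ M' := by
      intro w hw
      have hwM := hKle hw
      rw [← SetLike.mem_coe, coe_mul_of_right_le_normalizer_left M M'
        (((hM'c.commute hMc hMM')).trans (centralizer_le_normalizer _))] at hwM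
      obtain ⟨d, hd, e, he, rfl⟩ := hwM
      refine ⟨⟨d, hd⟩, (a * d * a⁻¹)⁻¹ * e, ?_, ?_, mul_mem (mem_sup_left hd)
        (mem_sup_right (hmem' hd))⟩
      · have hz' : (a * d * a⁻¹)⁻¹ * e ∈ M' := mul_mem (inv_mem (hmem' hd)) he
        have hz : (a * d * a⁻¹)⁻¹ * e ∈ M := by
          have hfix : a * d * a⁻¹ * (a * e * a⁻¹) = d * e := by
            rw [show a * d * a⁻¹ * (a * e * a⁻¹) = a * (d * e) * a⁻¹ by group,
              mul_inv_eq_iff_eq_mul]
            exact (mem_centralizer_singleton_iff.1 (hKa hw)).symm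
          have h5 : (a * d * a⁻¹)⁻¹ * e = d⁻¹ * (a * e * a⁻¹) := by
            rw [inv_mul_eq_iff_eq_mul, ← mul_assoc,
              ← (Commute.inv_left (hcomm d hd _ (hmem' hd))).eq, mul_assoc, hfix,
              inv_mul_cancel_left]
          rw [h5]; exact mul_mem (inv_mem hd) (hmem he)
        intro v hv
        have h2 : M ⊔ M' ≤ centralizer ({(a * d * a⁻¹)⁻¹ * e} : Set G) := sup_le
          (fun x hx => mem_centralizer_singleton_iff.2 (hcomm x hx _ hz').eq)
          (fun y hy => mem_centralizer_singleton_iff.2 (hcomm _ hz y hy).symm.eq)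
        exact (mem_centralizer_singleton_iff.1 (h2 hv)).symm
      · rw [hδ]
        show d * e = d * (a * d * a⁻¹) * ((a * d * a⁻¹)⁻¹ * e)
        group
    have hKrange : K ≤ δ.range := by
      conv_lhs => rw [← hKperf]
      rw [Subgroup.commutator_le]
      intro x hx y hy
      obtain ⟨d, z, hz, rfl, hd⟩ := hsplit x hx
      obtain ⟨d', z', hz', rfl, hd'⟩ := hsplit y hy
      have hzM : z ∈ M ⊔ M' := by
        have := mul_mem (inv_mem hd) (hKle hx)
        rwa [inv_mul_cancel_left] at this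
      refine ⟨⁅d, d'⁆, ?_⟩
      have c1 : Commute z (δ d') := hz _ hd'
      have c2 : Commute z' (δ d) := hz' _ hd
      have c3 : Commute z' z := hz' _ hzM
      rw [map_commutatorElement, commutatorElement_def, commutatorElement_def]
      generalize δ d = u at c2 ⊢
      generalize δ d' = v at c1 ⊢
      calc u * v * u⁻¹ * v⁻¹ = u * v * (u⁻¹ * (z' * z'⁻¹)) * v⁻¹ := by group
        _ = u * v * (z' * u⁻¹ * z'⁻¹) * v⁻¹ := by
            rw [show u⁻¹ * (z' * z'⁻¹) = u⁻¹ * z' * z'⁻¹ by group, (c2.inv_right).eq]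
        _ = u * (v * z) * (z' * z⁻¹ * u⁻¹) * z'⁻¹ * v⁻¹ := by
            rw [(c3.inv_right).eq]; group
        _ = u * (z * v) * (z' * z⁻¹ * u⁻¹) * z'⁻¹ * v⁻¹ := by rw [c1.eq]
        _ = u * z * (v * z') * (u * z)⁻¹ * (v * z')⁻¹ := by group
    have hcr : Nat.card δ.range ≤ Nat.card M :=
      Nat.card_le_card_of_surjective _ δ.rangeRestrict_surjective
    have hKeq : K = δ.range := eq_of_le_of_card_ge hKrange (hcr.trans hcardM)
    have hcM : Nat.card M = Nat.card K :=
      le_antisymm hcardM (le_of_eq_of_le (congrArg (fun X : Subgroup G => Nat.card X) hKeq) hcr)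
    have hδinj : Function.Injective δ := by
      have hbij := δ.rangeRestrict_surjective.bijective_of_nat_card_le
        (le_of_eq (by rw [hcM, hKeq]))
      exact fun x y h => hbij.1 (Subtype.ext h)
    -- the rank bound
    obtain ⟨k, hk⟩ : ∃ k, Nat.card B = 2 ^ k :=
      IsPGroup.iff_card.1 fun x => ⟨1, Subtype.ext (by simpa using hBel.2 x x.2)⟩
    have hRk : PRankLE 2 k ↥(Ca ⊓ centralizer (K : Set G)) := by
      intro A hA hA2
      rw [← hk, ← Subgroup.card_map_of_injective (subtype_injective (Ca ⊓ centralizer (K : Set G)))]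
      refine hBmax _ (map_subtype_le A) ⟨⟨⟨?_⟩⟩, ?_⟩
      · rintro ⟨_, x, hx, rfl⟩ ⟨_, y, hy, rfl⟩
        haveI := hA
        exact Subtype.ext (congrArg (fun z : A => ((z : ↥(Ca ⊓ centralizer (K : Set G))) : G))
          (IsMulCommutative.is_comm.comm (⟨x, hx⟩ : A) ⟨y, hy⟩))
      · rintro _ ⟨x, hx, rfl⟩
        rw [← map_pow, hA2 x hx, map_one]
    have hPR := (hmax b hb2 M hMc.1 hMc.2).2 hcM k hRk
    -- a four-group of `M'`
    obtain ⟨A, hA, hA2, hA4⟩ : ∃ A : Subgroup K, IsMulCommutative A ∧ (∀ x ∈ A, x ^ 2 = 1) ∧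
        2 < Nat.card A := by
      by_contra h
      push Not at h
      exact hrk fun A hA hA2 => by simpa using h A hA hA2
    let e : ↥M ≃* ↥K := (MonoidHom.ofInjective hδinj).trans (MulEquiv.subgroupCongr hKeq.symm)
    let ψ : ↥K →* G := (σ.comp M.subtype).comp e.symm.toMonoidHom
    have hψ : Function.Injective ψ :=
      ((MulAut.conj a).injective.comp (subtype_injective M)).comp e.symm.injective
    set V := A.map ψ with hV
    have hVM' : V ≤ M' := by
      rintro _ ⟨x, -, rfl⟩
      exact ⟨_, (e.symm x).2, rfl⟩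
    -- the subgroup of `B` normalising `M`
    have hBCb : B ≤ Cb := fun x hx => mem_centralizer_singleton_iff.2
      (congrArg Subtype.val (hBel.1.is_comm.comm (⟨x, hx⟩ : B) ⟨b, hb⟩))
    have hxa : ∀ x ∈ B, x * a = a * x := fun x hx =>
      mem_centralizer_singleton_iff.1 (hBle hx).1
    have hσx : ∀ x ∈ B, ∀ X : Subgroup G, (X.map σ).map (MulAut.conj x).toMonoidHom =
        (X.map (MulAut.conj x).toMonoidHom).map σ := fun x hx X => by
      rw [hσ, ← map_conj_mul, ← map_conj_mul, hxa x hx]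
    have horb : ∀ x ∈ B, M.map (MulAut.conj x).toMonoidHom = M ∨
        M.map (MulAut.conj x).toMonoidHom = M' := by
      intro x hx
      by_contra h
      push Not at h
      set E := M.map (MulAut.conj x).toMonoidHom with hE
      have hEc : IsComponentIn' E Cb := hMc.conj (hBCb hx)
      have hE'c : IsComponentIn' (E.map σ) Cb := hEc.conj haCb
      have hσσ : ∀ X : Subgroup G, (X.map σ).map σ = X := fun X => by
        rw [hσ, ← map_conj_mul, ha2, map_conj_one]
      have hE'M : E.map σ ≠ M := fun h' => h.2 (by rw [hM', ← h', hσσ])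
      have hE'M' : E.map σ ≠ M' := fun h' => h.1 (by rw [← hσσ E, h', hσσ])
      have hKE : K ≤ E ⊔ E.map σ := by
        intro k hk
        have hfix : x * k * x⁻¹ = k := by
          rw [mul_inv_eq_iff_eq_mul]
          exact (mem_centralizer_iff.1 (hBle hx).2 k hk).symm
        have hk' : x * k * x⁻¹ ∈ (M ⊔ M').map (MulAut.conj x).toMonoidHom := ⟨k, hKle hk, rfl⟩
        rwa [hfix, Subgroup.map_sup, hM', hσx x hx, ← hE] at hk'
      have hc : M ⊔ M' ≤ centralizer ((E ⊔ E.map σ : Subgroup G) : Set G) := by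
        refine le_centralizer_iff.1 (sup_le (le_centralizer_iff.1 (sup_le ?_ ?_))
          (le_centralizer_iff.1 (sup_le ?_ ?_)))
        · exact hMc.commute hEc h.1.symm
        · exact hM'c.commute hEc h.2.symm
        · exact hMc.commute hE'c hE'M.symm
        · exact hM'c.commute hE'c hE'M'.symm
      exact hKne ((hKle.trans hc).trans (centralizer_le hKE))
    set B₀ := B ⊓ normalizer (M : Set G) with hB₀
    have hB₀card : Nat.card B ≤ 2 * Nat.card B₀ := by
      have h1 : (B₀.subgroupOf B).index ≤ 2 := by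
        by_cases hall : B ≤ normalizer (M : Set G)
        · have : B₀.subgroupOf B = ⊤ := subgroupOf_eq_top.2 (le_inf le_rfl hall)
          rw [this, index_top]; norm_num
        obtain ⟨x₀, hx₀, hx₀N⟩ := SetLike.not_le_iff_exists.1 hall
        refine le_of_eq (index_eq_two_iff.2 ⟨⟨x₀, hx₀⟩, fun y => ?_⟩)
        have hmemB : ∀ z : B, z ∈ B₀.subgroupOf B ↔ M.map (MulAut.conj (z : G)).toMonoidHom = M :=
          fun z => by
            simp only [mem_subgroupOf, hB₀, mem_inf, mem_normalizer_iff_map_conj_eq]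
            exact ⟨fun h => h.2, fun h => ⟨z.2, h⟩⟩
        have hx₀' : M.map (MulAut.conj x₀).toMonoidHom = M' :=
          (horb x₀ hx₀).resolve_left fun h => hx₀N (mem_normalizer_iff_map_conj_eq.2 h)
        have e1 : M.map (MulAut.conj ((y : G) * x₀)).toMonoidHom =
            (M.map (MulAut.conj (y : G)).toMonoidHom).map σ := by
          rw [map_conj_mul, hx₀', hM', hσx y y.2]
        rw [hmemB, hmemB]
        show Xor (M.map (MulAut.conj ((y : G) * x₀)).toMonoidHom = M) _
        rw [e1]
        rcases horb y y.2 with h | h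
        · exact Or.inr ⟨h, by rw [h]; exact hMM'⟩
        · refine Or.inl ⟨?_, by rw [h]; exact hMM'⟩
          rw [h, hM', hσ, ← map_conj_mul, ha2, map_conj_one]
      have h2 := (B₀.subgroupOf B).card_mul_index
      rw [Nat.card_congr (subgroupOfEquivOfLe (inf_le_left : B₀ ≤ B)).toEquiv] at h2
      rw [← h2, mul_comm 2]
      exact Nat.mul_le_mul_left _ h1
    have hB₀M : ∀ x ∈ B₀, ∀ d ∈ M, x * d * x⁻¹ = d := by
      intro x hx d hd
      have hd' : x * d * x⁻¹ ∈ M := (mem_normalizer_iff.1 hx.2 d).1 hd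
      have h1 : δ ⟨x * d * x⁻¹, hd'⟩ = δ ⟨d, hd⟩ := by
        have hmemK : δ ⟨d, hd⟩ ∈ K := hKeq ▸ ⟨_, rfl⟩
        have h2 := mul_inv_eq_iff_eq_mul.2
          (mem_centralizer_iff.1 (hBle hx.1).2 _ hmemK).symm
        refine Eq.trans ?_ h2
        rw [hδ, hδ]
        show x * d * x⁻¹ * (a * (x * d * x⁻¹) * a⁻¹) = x * (d * (a * d * a⁻¹)) * x⁻¹
        have hxa' := hxa x hx.1
        calc x * d * x⁻¹ * (a * (x * d * x⁻¹) * a⁻¹)
            = x * d * x⁻¹ * (a * x * d * (a * x)⁻¹) := by group
          _ = x * d * x⁻¹ * (x * a * d * (x * a)⁻¹) := by rw [hxa']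
          _ = _ := by group
      exact congrArg Subtype.val (hδinj h1)
    have hB₀M' : B₀ ≤ centralizer (M' : Set G) := by
      intro x hx
      refine mem_centralizer_iff.2 ?_
      rintro _ ⟨d, hd, rfl⟩
      show a * d * a⁻¹ * x = x * (a * d * a⁻¹)
      have hxd : Commute x d := mul_inv_eq_iff_eq_mul.1 (hB₀M x hx d hd)
      have hca : Commute x a := hxa x hx.1
      exact ((hca.mul_right hxd).mul_right hca.inv_right).symm.eq
    -- the subgroup `B₀ × V`
    have hVc : ∀ x : B₀, ∀ v : V, Commute (x : G) (v : G) := fun x v =>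
      (mem_centralizer_iff.1 (hB₀M' x.2) v (hVM' v.2)).symm
    let P := MonoidHom.noncommCoprod B₀.subtype V.subtype hVc
    have hPinj : Function.Injective P := by
      rw [injective_iff_map_eq_one]
      rintro ⟨⟨x, hx⟩, ⟨v, hv⟩⟩ h
      have hxv : x = v⁻¹ := eq_inv_of_mul_eq_one_left (show x * v = 1 from h)
      have hxM' : x ∈ M' := hxv ▸ inv_mem (hVM' hv)
      have hxM : x ∈ M := by
        have := hmem hxM'
        rwa [(hxa x hx.1).symm, mul_inv_cancel_right] at this
      have h1 : δ ⟨x, hxM⟩ = δ 1 := by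
        rw [map_one, hδ]
        show x * (a * x * a⁻¹) = 1
        rw [← hxa x hx.1, mul_inv_cancel_right, ← pow_two]
        exact hBel.2 x hx.1
      have hx1 : x = 1 := congrArg Subtype.val (hδinj h1)
      have hv1 : v = 1 := by rw [hx1] at hxv; exact inv_eq_one.1 hxv.symm
      subst hx1 hv1
      rfl
    have hPle : P.range ≤ Cb ⊓ centralizer (M : Set G) := by
      rintro _ ⟨⟨x, v⟩, rfl⟩
      refine mul_mem ?_ ?_
      · exact ⟨hBCb x.2.1, mem_centralizer_iff.2 fun d hd =>
          (mul_inv_eq_iff_eq_mul.1 (hB₀M x x.2 d hd)).symm⟩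
      · exact ⟨hM'c.1 (hVM' v.2), mem_centralizer_iff.2 fun d hd => hcomm d hd _ (hVM' v.2)⟩
    have hVcomm : ∀ u v : V, (u : G) * v = v * u := by
      rintro ⟨_, u, hu, rfl⟩ ⟨_, v, hv, rfl⟩
      haveI := hA
      show ψ u * ψ v = ψ v * ψ u
      have huv : u * v = v * u := congrArg Subtype.val
        (IsMulCommutative.is_comm.comm (⟨u, hu⟩ : A) ⟨v, hv⟩)
      rw [← map_mul, ← map_mul, huv]
    have hPcomm : IsMulCommutative ↥(P.range.subgroupOf (Cb ⊓ centralizer (M : Set G))) := by
      refine ⟨⟨?_⟩⟩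
      intro p q
      obtain ⟨⟨x, v⟩, hp⟩ := p.2
      obtain ⟨⟨y, w⟩, hq⟩ := q.2
      refine Subtype.ext (Subtype.ext ?_)
      show (p.1 : G) * q.1 = q.1 * p.1
      rw [← show P (x, v) = (p.1 : G) from hp, ← show P (y, w) = (q.1 : G) from hq, ← map_mul,
        ← map_mul]
      congr 1
      refine Prod.ext (Subtype.ext ?_) (Subtype.ext (hVcomm v w))
      show (x : G) * y = y * x
      have h := hBel.1.is_comm.comm (⟨x, x.2.1⟩ : B) ⟨y, y.2.1⟩
      exact congrArg (fun z : B => (z : G)) h
    have hPexp : ∀ z ∈ P.range.subgroupOf (Cb ⊓ centralizer (M : Set G)), z ^ 2 = 1 := by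
      intro z hz
      obtain ⟨⟨x, v⟩, hz⟩ := hz
      refine Subtype.ext ?_
      show (z : G) ^ 2 = 1
      rw [← show P (x, v) = (z : G) from hz]
      have hv2 : v ^ 2 = 1 := by
        obtain ⟨_, u, hu, rfl⟩ := v
        exact Subtype.ext (by show ψ u ^ 2 = 1; rw [← map_pow, hA2 u hu, map_one])
      have hx2 : x ^ 2 = 1 := Subtype.ext (by simpa using hBel.2 x x.2.1)
      rw [← map_pow, Prod.pow_mk, hx2, hv2]
      exact map_one P
    have hbound := hPR _ hPcomm hPexp
    rw [Nat.card_congr (subgroupOfEquivOfLe hPle).toEquiv,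
      ← Nat.card_congr (MonoidHom.ofInjective hPinj).toEquiv, Nat.card_prod, ← hk,
      Subgroup.card_map_of_injective hψ] at hbound
    have h3 := hbound.trans hB₀card
    rw [mul_comm 2] at h3
    exact absurd (Nat.le_of_mul_le_mul_left h3 Nat.card_pos) (not_le.2 hA4)

end CfsgLib.LBalance
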