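import Mathlib
import Cfsg.Agent.Lib.Coprime.Action
import Cfsg.Agent.Lib.Transfer.Alperin

/-!
A finite group with a nilpotent maximal subgroup of class at most two is solvable.
-/

set_option autoImplicit false

open Subgroup

namespace CfsgLib.FTCons.ClassTwo

open CfsgLib.Transfer

universe u

variable {G : Type u} [Group G] [Finite G] {p : ℕ}

/-- The conjugation by `g` on `A` is induced by an element of `P`. -/
def Realized (P : Subgroup G) (A : Set G) (g : G) : Prop :=
  ∃ k ∈ P, ∀ a ∈ A, g⁻¹ * a * g = k⁻¹ * a * k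

/-- All fusion in `P` is realised by `P`, if this holds in normalizers of normal subgroups of `P`
and every self-centralizing subgroup is normal in `P`. -/
theorem realized_aux [hp : Fact p.Prime] (P : Sylow p G)
    (hloc : ∀ D : Subgroup G, D ≤ (P : Subgroup G) → D ≠ ⊥ →
      (P : Subgroup G) ≤ normalizer (D : Set G) → ∀ x ∈ normalizer (D : Set G),
        Realized (P : Subgroup G) (D : Set G) x)
    (hcl : ∀ D : Subgroup G, D ≤ (P : Subgroup G) →
      (P : Subgroup G) ⊓ centralizer ((P : Subgroup G) : Set G) ≤ D →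
        (P : Subgroup G) ≤ normalizer (D : Set G)) (n : ℕ) :
    ∀ E : Subgroup G, E ≤ (P : Subgroup G) → E ≠ ⊥ →
      Nat.card (P : Subgroup G) - Nat.card E < n →
      ∀ g : G, (∀ a ∈ E, g⁻¹ * a * g ∈ (P : Subgroup G)) →
        Realized (P : Subgroup G) (E : Set G) g := by
  induction n with
  | zero => intro E _ _ h; omega
  | succ n ih =>
    intro E hEP hEne hEn g hg
    have key : ∀ (A : Set G) (y : G), FusionChain P A y → Nat.card E ≤ A.ncard →
        Realized (P : Subgroup G) A y := by
      intro A y hc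
      induction hc with
      | nil A => exact fun _ => ⟨1, one_mem _, fun a _ => rfl⟩
      | @cons A y Q x hxN hP hQ hA _ ihc =>
        intro hcard
        obtain ⟨k2, hk2, hk2'⟩ := ihc (by
          rwa [Set.ncard_image_of_injective _ fun a b hab =>
            mul_left_cancel (mul_right_cancel hab)])
        set D : Subgroup G := (P : Subgroup G) ⊓ (Q : Subgroup G) with hD
        have hDcard : Nat.card E ≤ Nat.card D :=
          hcard.trans ((Set.ncard_le_ncard hA (Set.toFinite _)).trans
            (Nat.card_coe_set_eq _).ge)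
        have hDne : D ≠ ⊥ := fun h => hEne (eq_bot_of_card_le _ (hDcard.trans (by simp [h])))
        obtain ⟨k1, hk1, hk1'⟩ : Realized (P : Subgroup G) (D : Set G) x := by
          by_cases hPN : (P : Subgroup G) ≤ normalizer (D : Set G)
          · exact hloc D inf_le_left hDne hPN x hxN
          let N : Subgroup G := normalizer (D : Set G)
          let S : Sylow p N :=
            ((P.2.to_le (inf_le_left : (P : Subgroup G) ⊓ N ≤ _)).comap_subtype (K := N)).toSylow hP
          let C : Subgroup N := (centralizer (D : Set G)).subgroupOf N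
          have hCn : C.Normal := by
            show ((centralizer (D : Set G)).subgroupOf (normalizer (D : Set G))).Normal
            rw [← normalizerMonoidHom_ker]
            infer_instance
          let W : Sylow p C :=
            ((S.2.to_le (inf_le_left : (S : Subgroup N) ⊓ C ≤ _)).comap_subtype (K := C)).toSylow
              (by
                show ¬ p ∣ (((S : Subgroup N) ⊓ C).subgroupOf C).index
                rw [inf_subgroupOf_right]; exact not_dvd_index_subgroupOf_of_normal S C)
          have hfrat := Sylow.normalizer_sup_eq_top W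
          obtain ⟨m, hm, c, hc, hmc⟩ := mem_sup_of_normal_right.mp
            (hfrat ▸ mem_top (⟨x, hxN⟩ : N))
          have hW : (W : Subgroup C).map C.subtype = (S : Subgroup N) ⊓ C := by
            show (((S : Subgroup N) ⊓ C).subgroupOf C).map C.subtype = _
            rw [subgroupOf_map_subtype, inf_eq_left.mpr inf_le_right]
          rw [hW] at hm
          set E' : Subgroup G :=
            D ⊔ (P : Subgroup G) ⊓ centralizer (D : Set G) with hE'
          have hE'P : E' ≤ (P : Subgroup G) := sup_le inf_le_left inf_le_left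
          have hlt : D < E' := by
            refine lt_of_le_of_ne le_sup_left fun h => hPN (hcl D inf_le_left fun z hz => ?_)
            rw [h]
            exact mem_sup_right ⟨hz.1, fun d hd => hz.2 d (inf_le_left (a := (P : Subgroup G)) hd)⟩
          have hstab : ∀ a ∈ E', (m : G)⁻¹ * a * m ∈ E' := by
            have : E' ≤ E'.comap (MulAut.conj (m : G)⁻¹).toMonoidHom := by
              refine sup_le (fun a ha => ?_) fun a ha => ?_
              · rw [mem_comap]
                simp only [MulEquiv.toMonoidHom_eq_coe, MonoidHom.coe_coe, MulAut.conj_apply,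
                  inv_inv]
                exact mem_sup_left ((mem_set_normalizer_iff''.mp m.2 a).mp ha)
              · rw [mem_comap]
                simp only [MulEquiv.toMonoidHom_eq_coe, MonoidHom.coe_coe, MulAut.conj_apply,
                  inv_inv]
                have haN : a ∈ N := centralizer_le_normalizer _ ha.2
                have h1 : (⟨a, haN⟩ : N) ∈ (S : Subgroup N) ⊓ C :=
                  ⟨⟨ha.1, haN⟩, ha.2⟩
                obtain ⟨h2, h3⟩ := (mem_set_normalizer_iff''.mp hm _).mp h1
                exact mem_sup_right ⟨(h2 : (m : G)⁻¹ * a * m ∈ (P : Subgroup G) ⊓ N).1, h3⟩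
            intro a ha
            simpa using this ha
          obtain ⟨k, hk, hk'⟩ := ih E' hE'P
            (fun h => hDne (le_bot_iff.mp (h ▸ (le_sup_left : D ≤ E'))))
            (by
              have h2 := card_lt_card_of_lt hlt
              have h3 := card_le_of_le hE'P
              omega) (m : G) fun a ha => hE'P (hstab a ha)
          refine ⟨k, hk, fun a ha => ?_⟩
          rw [← hk' a (mem_sup_left ha)]
          have hxe : x = (m : G) * (c : G) := by rw [← coe_mul, hmc]
          have hcomm : (m : G)⁻¹ * a * m * (c : G) = (c : G) * ((m : G)⁻¹ * a * m) :=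
            (hc : (c : G) ∈ centralizer (D : Set G)) _
              ((mem_set_normalizer_iff''.mp m.2 a).mp ha)
          calc x⁻¹ * a * x = (c : G)⁻¹ * (((m : G)⁻¹ * a * m) * c) := by rw [hxe]; group
            _ = (c : G)⁻¹ * (c * ((m : G)⁻¹ * a * m)) := by rw [hcomm]
            _ = _ := by group
        refine ⟨k1 * k2, mul_mem hk1 hk2, fun a ha => ?_⟩
        calc (x * y)⁻¹ * a * (x * y) = y⁻¹ * (x⁻¹ * a * x) * y := by group
          _ = k2⁻¹ * (x⁻¹ * a * x) * k2 := hk2' _ ⟨a, ha, rfl⟩
          _ = _ := by rw [hk1' a (hA ha)]; group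
    exact key _ _ (fusionChain P hEP hg) (Nat.card_coe_set_eq _).le

theorem hasNormalPComplement_of_local [hp : Fact p.Prime] (P : Sylow p G)
    (hloc : ∀ D : Subgroup G, D ≤ (P : Subgroup G) → D ≠ ⊥ →
      (P : Subgroup G) ≤ normalizer (D : Set G) → ∀ x ∈ normalizer (D : Set G),
        Realized (P : Subgroup G) (D : Set G) x)
    (hcl : ∀ D : Subgroup G, D ≤ (P : Subgroup G) →
      (P : Subgroup G) ⊓ centralizer ((P : Subgroup G) : Set G) ≤ D →
        (P : Subgroup G) ≤ normalizer (D : Set G)) :
    Cfsg.HasNormalPComplement p G := by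
  refine hasNormalPComplement_of_fusion P fun x hx g hg => ?_
  by_cases hx1 : x = 1
  · exact ⟨1, one_mem _, by simp [hx1]⟩
  have hle : zpowers x ≤ (P : Subgroup G) := zpowers_le.mpr hx
  obtain ⟨k, hk, hk'⟩ := realized_aux P hloc hcl _ (zpowers x) hle
    (fun h => hx1 (zpowers_eq_bot.mp h)) (Nat.lt_succ_self _) g⁻¹ (fun a ha => by
      obtain ⟨i, rfl⟩ := mem_zpowers_iff.mp ha
      rw [inv_inv, ← conj_zpow]
      exact zpow_mem hg i)
  exact ⟨k⁻¹, inv_mem hk, by simpa using (hk' x (mem_zpowers x)).symm⟩

omit [Finite G] in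
theorem commutator_central {M : Subgroup G} [Group.IsNilpotent M]
    (hcl : Group.nilpotencyClass M ≤ 2) {a b c : G} (ha : a ∈ M) (hb : b ∈ M) (hc : c ∈ M) :
    c * (a * b * a⁻¹ * b⁻¹) = a * b * a⁻¹ * b⁻¹ * c := by
  have h2 := Subgroup.upperCentralSeries_eq_top_iff_nilpotencyClass_le.mpr hcl
  have h1 := (h2 ▸ mem_top (⟨a, ha⟩ : M) : (⟨a, ha⟩ : M) ∈ Subgroup.upperCentralSeries M 2)
  have h3 := Subgroup.mem_upperCentralSeries_succ_iff.mp h1 ⟨b, hb⟩
  rw [Subgroup.upperCentralSeries_one, mem_center_iff] at h3
  exact congrArg Subtype.val (h3 ⟨c, hc⟩)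

/-- A nilpotent maximal subgroup of class two without normal subgroups of `G` inside gives
normal complements. -/
theorem hasNormalPComplement_of_maximal [hp : Fact p.Prime] {M : Subgroup G} (hmax : IsCoatom M)
    (hnil : Group.IsNilpotent M) (hcl : Group.nilpotencyClass M ≤ 2)
    (hfree : ∀ N : Subgroup G, N.Normal → N ≤ M → N = ⊥) (hpM : p ∣ Nat.card M) :
    Cfsg.HasNormalPComplement p G := by
  obtain ⟨R⟩ : Nonempty (Sylow p M) := inferInstance
  have hRn : (R : Subgroup M).Normal :=
    ((Group.isNilpotent_of_finite_tfae (G := M)).out 0 3 rfl rfl).mp hnil p hp R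
  set Rm := (R : Subgroup M).map M.subtype with hRm
  have hRmM : Rm ≤ M := map_subtype_le _
  have hsub : Rm.subgroupOf M = (R : Subgroup M) :=
    comap_map_eq_self_of_injective M.subtype_injective _
  have hMN : M ≤ normalizer (Rm : Set G) := by
    rw [← normal_subgroupOf_iff_le_normalizer hRmM, hsub]
    exact hRn
  have hRne : Rm ≠ ⊥ := fun h => by
    have hd := R.not_dvd_index
    rw [(map_eq_bot_iff_of_injective _ M.subtype_injective).mp h, index_bot] at hd
    exact hd hpM
  have hlocal : ∀ D : Subgroup G, D ≤ Rm → D ≠ ⊥ → M ≤ normalizer (D : Set G) →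
      normalizer (D : Set G) = M := fun D hD hDne h =>
    ((hmax.le_iff).mp h).resolve_left fun htop =>
      hDne (hfree D (normalizer_eq_top_iff.mp htop) (hD.trans hRmM))
  have hNR := hlocal Rm le_rfl hRne hMN
  have hRp : IsPGroup p Rm := R.2.map _
  obtain ⟨P, hP⟩ := hRp.exists_le_sylow
  have hPR : (P : Subgroup G) = Rm := by
    by_contra hne
    have h := lt_inf_normalizer P.2 (lt_of_le_of_ne hP (Ne.symm hne))
    rw [hNR] at h
    have hp' : IsPGroup p (((P : Subgroup G) ⊓ M).subgroupOf M) :=
      (P.2.to_le inf_le_left).comap_subtype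
    have := R.3 hp' (hsub ▸ comap_mono h.le)
    rw [← hsub, subgroupOf_inj, inf_eq_left.mpr hRmM, inf_assoc, inf_idem] at this
    exact h.ne this.symm
  -- `M = P · C_M(P)`
  have hdecomp : M ≤ Rm ⊔ M ⊓ centralizer (Rm : Set G) := by
    set T := Rm ⊔ M ⊓ centralizer (Rm : Set G) with hT
    rw [← relIndex_eq_one]
    by_contra h
    obtain ⟨q, hq, hd⟩ := Nat.exists_prime_and_dvd h
    haveI := Fact.mk hq
    obtain ⟨Q⟩ : Nonempty (Sylow q M) := inferInstance
    refine Q.not_dvd_index (hd.trans (index_dvd_of_le ?_))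
    by_cases hqp : q = p
    · subst hqp
      have : Q = R := by
        haveI := Sylow.unique_of_normal R hRn
        exact Subsingleton.elim _ _
      rw [this, ← hsub]
      exact comap_mono le_sup_left
    · have hQn : (Q : Subgroup M).Normal :=
        ((Group.isNilpotent_of_finite_tfae (G := M)).out 0 3 rfl rfl).mp hnil q ⟨hq⟩ Q
      have hdis : Disjoint (R : Subgroup M) (Q : Subgroup M) := by
        rw [disjoint_iff]
        exact CfsgLib.Coprime.inf_eq_bot_of_coprime
          (IsPGroup.coprime_card_of_ne p q (Ne.symm hqp) _ _ R.2 Q.2)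
      intro y hy
      refine mem_sup_right ⟨y.2, ?_⟩
      rintro _ ⟨r, hr, rfl⟩
      exact congrArg Subtype.val (commute_of_normal_of_disjoint _ _ hRn hQn hdis r y hr hy).eq
  refine hasNormalPComplement_of_local P ?_ ?_
  · intro D hD hDne hPN x hx
    rw [hPR] at hD hPN ⊢
    have hMD : M ≤ normalizer (D : Set G) := hdecomp.trans (sup_le hPN
      ((inf_le_right.trans (centralizer_le hD)).trans (centralizer_le_normalizer _)))
    rw [hlocal D hD hDne hMD] at hx
    have hle : M ⊓ centralizer (Rm : Set G) ≤ normalizer (Rm : Set G) := inf_le_left.trans hMN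
    have hx' := hdecomp hx
    rw [sup_comm] at hx'
    obtain ⟨c, hc, k, hk, rfl⟩ := (CfsgLib.Coprime.mem_sup_iff_of_le_normalizer hle).mp hx'
    refine ⟨k, hk, fun a haD => ?_⟩
    have ha : a ∈ Rm := hD haD
    calc (c * k)⁻¹ * a * (c * k) = k⁻¹ * (c⁻¹ * (a * c)) * k := by group
      _ = k⁻¹ * (c⁻¹ * (c * a)) * k := by rw [hc.2 a ha]
      _ = _ := by group
  · intro D hD hZ y hy
    rw [hPR] at hD hZ hy
    have : ∀ y ∈ Rm, ∀ d ∈ D, y * d * y⁻¹ ∈ D := by
      intro y hy d hd
      have hc : y * d * y⁻¹ * d⁻¹ ∈ Rm ⊓ centralizer (Rm : Set G) :=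
        ⟨Rm.mul_mem (Rm.mul_mem (Rm.mul_mem hy (hD hd)) (Rm.inv_mem hy)) (Rm.inv_mem (hD hd)),
          fun r hr => commutator_central hcl (hRmM hy) (hRmM (hD hd)) (hRmM hr)⟩
      simpa [mul_assoc] using mul_mem (hZ hc) hd
    rw [mem_set_normalizer_iff]
    refine fun d => ⟨this y hy d, fun hd => ?_⟩
    simpa [mul_assoc] using this y⁻¹ (inv_mem hy) _ hd

theorem isSolvable_of_maximal_class_two_aux (n : ℕ) : ∀ {G : Type u} [Group G] [Finite G],
    Nat.card G ≤ n → ∀ M : Subgroup G, IsCoatom M → Group.IsNilpotent M →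
      Group.nilpotencyClass M ≤ 2 → Group.IsSolvable G := by
  induction n with
  | zero =>
    intro G _ _ hn
    exact absurd hn (Nat.not_le.mpr Nat.card_pos)
  | succ n ih =>
    intro G _ _ hn M hmax hnil hcl
    haveI := hnil
    by_cases hcore : ∃ N : Subgroup G, N.Normal ∧ N ≤ M ∧ N ≠ ⊥
    · obtain ⟨N, hNn, hNM, hNb⟩ := hcore
      haveI : Group.IsSolvable N := CfsgLib.Coprime.isSolvable_of_le hNM inferInstance
      set f := QuotientGroup.mk' N with hf
      have hsurj : Function.Surjective f := QuotientGroup.mk'_surjective N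
      have hcm : (M.map f).comap f = M := comap_map_eq_self (by rwa [QuotientGroup.ker_mk'])
      have hmax' : IsCoatom (M.map f) := by
        refine ⟨fun h => hmax.1 (by rw [← hcm, h, comap_top]), fun K hK => ?_⟩
        have hlt : M < K.comap f := by
          refine lt_of_le_of_ne ((map_le_iff_le_comap).mp hK.le) fun h => hK.ne ?_
          rw [h, map_comap_eq_self_of_surjective hsurj]
        rw [← map_comap_eq_self_of_surjective hsurj K, hmax.2 _ hlt, map_top_of_surjective f hsurj]
      haveI : Group.IsNilpotent (M.map f) :=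
        Group.nilpotent_of_surjective _ (f.subgroupMap_surjective M)
      haveI : Group.IsSolvable (G ⧸ N) := ih
        (Nat.lt_succ_iff.mp ((CfsgLib.Coprime.card_quotient_lt hNb).trans_le hn)) (M.map f)
        hmax' inferInstance
        ((Group.nilpotencyClass_le_of_surjective _ (f.subgroupMap_surjective M)).trans hcl)
      exact (Group.isSolvable_iff_subgroup_quotient N).mpr ⟨inferInstance, inferInstance⟩
    push Not at hcore
    let I := {q : ℕ // q.Prime ∧ q ∣ Nat.card M}
    haveI : Finite I := Finite.of_injective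
      (fun i : I => (⟨i.1, Nat.lt_succ_of_le (Nat.le_of_dvd Nat.card_pos i.2.2)⟩ :
        Fin (Nat.card M + 1)))
      fun a b h => Subtype.ext (congrArg Fin.val h)
    have hcomp : ∀ i : I, ∃ Ki : Subgroup G, Ki.Normal ∧ ¬ i.1 ∣ Nat.card Ki ∧
        ∃ k, Ki.index = i.1 ^ k := by
      intro i
      haveI := Fact.mk i.2.1
      obtain ⟨P, N, hN, hc⟩ := hasNormalPComplement_of_maximal hmax hnil hcl hcore i.2.2
      obtain ⟨k, hk⟩ := IsPGroup.iff_card.mp P.2
      refine ⟨N, hN, ?_, k, by rw [hc.symm.index_eq_card, hk]⟩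
      rw [← hc.index_eq_card]
      exact P.not_dvd_index
    choose Kf hKn hKd hKi using hcomp
    set K : Subgroup G := ⨅ i, Kf i with hK
    haveI hKnormal : K.Normal := normal_iInf_normal hKn
    by_cases hKb : K = ⊥
    · haveI := hKn
      haveI : ∀ i : I, Group.IsNilpotent (G ⧸ Kf i) := fun i => by
        haveI := Fact.mk i.2.1
        obtain ⟨k, hk⟩ := hKi i
        exact (IsPGroup.of_card (n := k) hk).isNilpotent
      let φ : G →* ∀ i : I, G ⧸ Kf i := Pi.monoidHom fun i => QuotientGroup.mk' (Kf i)
      refine Group.isSolvable_of_isSolvable_injective (f := φ) ((injective_iff_map_eq_one _).mpr ?_)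
      intro g hg
      rw [← mem_bot, ← hKb, hK, mem_iInf]
      exact fun i => (QuotientGroup.eq_one_iff g).mp (congrFun hg i)
    have hKM : ¬ K ≤ M := fun h => hKb (hcore K hKnormal h)
    have hMK : M ⊔ K = ⊤ := hmax.2 _ (lt_of_le_of_ne le_sup_left fun h =>
      hKM (by rw [h]; exact le_sup_right))
    have hcop : (Nat.card M).Coprime (Nat.card K) := Nat.coprime_of_dvd fun q hq h1 h2 =>
      hKd ⟨q, hq, h1⟩ (h2.trans (card_dvd_of_le (iInf_le _ _)))
    obtain ⟨q, hq, hqK⟩ := Nat.exists_prime_and_dvd (n := Nat.card K)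
      (fun h => hKb (eq_bot_of_card_eq _ h))
    haveI := Fact.mk hq
    obtain ⟨Q, hQ⟩ := CfsgLib.Coprime.exists_invariant_sylow (p := q)
      (le_normalizer_of_normal (H := K) (K := M)) hcop (Or.inl inferInstance)
    set Qm := (Q : Subgroup K).map K.subtype with hQm
    have hQmK : Qm ≤ K := map_subtype_le _
    have hQne : Qm ≠ ⊥ := fun h => by
      have hd := Q.not_dvd_index
      rw [(map_eq_bot_iff_of_injective _ K.subtype_injective).mp h, index_bot] at hd
      exact hd hqK
    have hMQ : M ⊔ Qm = ⊤ := hmax.2 _ (lt_of_le_of_ne le_sup_left fun h => hQne (by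
      have h' : Qm ≤ M ⊓ K := le_inf (by rw [h]; exact le_sup_right) hQmK
      rwa [CfsgLib.Coprime.inf_eq_bot_of_coprime hcop, le_bot_iff] at h'))
    have hQK : Qm = K := by
      refine eq_of_le_of_card_ge hQmK ?_
      have h1 := CfsgLib.Coprime.card_sup_of_inf_eq_bot
        (le_normalizer_of_normal (H := K) (K := M)) (CfsgLib.Coprime.inf_eq_bot_of_coprime hcop)
      have h2 := CfsgLib.Coprime.card_sup_of_inf_eq_bot hQ
        (le_bot_iff.mp ((inf_le_inf_left M hQmK).trans
          (CfsgLib.Coprime.inf_eq_bot_of_coprime hcop).le))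
      rw [hMK] at h1
      rw [hMQ] at h2
      exact (Nat.eq_of_mul_eq_mul_left Nat.card_pos (h1.symm.trans h2)).le
    haveI : Group.IsNilpotent K := by rw [← hQK]; exact (Q.2.map _).isNilpotent
    haveI : Group.IsSolvable (G ⧸ K) := by
      have h : M.map (QuotientGroup.mk' K) = ⊤ := by
        have := congrArg (Subgroup.map (QuotientGroup.mk' K)) hMK
        rwa [Subgroup.map_sup, QuotientGroup.map_mk'_self, sup_bot_eq,
          map_top_of_surjective _ (QuotientGroup.mk'_surjective K)] at this
      have hs : Group.IsSolvable (M.map (QuotientGroup.mk' K)) :=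
        CfsgLib.Coprime.isSolvable_map _ inferInstance
      rw [h] at hs
      exact Group.isSolvable_of_surjective
        (f := (topEquiv : (⊤ : Subgroup (G ⧸ K)) ≃* (G ⧸ K)).toMonoidHom) (MulEquiv.surjective _)
    exact (Group.isSolvable_iff_subgroup_quotient K).mpr ⟨inferInstance, inferInstance⟩

/-- A finite group with a nilpotent maximal subgroup of class at most two is solvable. -/
theorem isSolvable_of_maximal_class_two {M : Subgroup G} (hmax : IsCoatom M)
    (hnil : Group.IsNilpotent M) (hcl : Group.nilpotencyClass M ≤ 2) : Group.IsSolvable G :=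
  isSolvable_of_maximal_class_two_aux _ le_rfl M hmax hnil hcl

end CfsgLib.FTCons.ClassTwo
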