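import Cfsg.Agent.Lib.Involutions.ZStar.Main
import Cfsg.Agent.Lib.Base.MinimalNormal
import Cfsg.Agent.Lib.Base.Fitting
import Cfsg.Agent.Lib.Base.Cores
import Cfsg.Agent.Lib.FT.OddOrderTheorem

/-!
# A class of involutions with products of `p`-power order

By the `Z*`-theorem and the odd order theorem the group is solvable, and then its derived subgroup
lies in `O_p`.
-/

set_option autoImplicit false
set_option linter.style.haveILetI false

namespace CfsgLib.FTCons

open Cfsg Subgroup CfsgLib.Base
open scoped commutatorElement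

universe u

variable {G : Type u} [Group G] [Finite G]

theorem isSolvable_of_isolated_generated {d : G} (hd : IsIsolatedInvolution d)
    (hgen : closure (conjugatesOf d) = ⊤) : Group.IsSolvable G := by
  haveI : (oddCore G).Normal := pPrimeCore_normal 2 G
  have hO : Group.IsSolvable ↥(oddCore G) := CfsgLib.FT.isSolvable_of_odd (odd_card_oddCore G)
  have hQ : Group.IsSolvable (G ⧸ oddCore G) := by
    have hc : ∀ g : G, (QuotientGroup.mk' (oddCore G)) g ∈ zpowers (QuotientGroup.mk' (oddCore G) d) := by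
      intro g
      have hle : closure (conjugatesOf d) ≤
          (zpowers (QuotientGroup.mk' (oddCore G) d)).comap (QuotientGroup.mk' (oddCore G)) := by
        rw [closure_le]
        intro x hx
        obtain ⟨c, rfl⟩ := isConj_iff.1 (show IsConj d x from hx)
        have h := CfsgLib.Involutions.ZStar.centralModCore hd c
        show QuotientGroup.mk' (oddCore G) (c * d * c⁻¹) ∈ zpowers _
        have e : QuotientGroup.mk' (oddCore G) (c * d * c⁻¹) = QuotientGroup.mk' (oddCore G) d := by
          have h1 : QuotientGroup.mk' (oddCore G) (d * c * d⁻¹ * c⁻¹) = 1 :=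
            (QuotientGroup.eq_one_iff _).2 h
          simp only [map_mul, map_inv, mul_inv_eq_one, mul_inv_eq_iff_eq_mul] at h1 ⊢
          rw [one_mul] at h1
          exact h1.symm
        rw [e]
        exact mem_zpowers _
      exact hle (show g ∈ closure (conjugatesOf d) from hgen.symm ▸ mem_top g)
    refine Group.isSolvable_of_comm fun a b => ?_
    obtain ⟨a, rfl⟩ := QuotientGroup.mk'_surjective (oddCore G) a
    obtain ⟨b, rfl⟩ := QuotientGroup.mk'_surjective (oddCore G) b
    obtain ⟨i, hi⟩ := hc a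
    obtain ⟨j, hj⟩ := hc b
    rw [← hi, ← hj, ← zpow_add, ← zpow_add, add_comm]
  exact (Group.isSolvable_iff_subgroup_quotient (oddCore G)).2 ⟨hO, hQ⟩

/-- The derived subgroup is a `p`-group. -/
theorem commutator_le_pCore_of_involution_class {p : ℕ} [hp : Fact p.Prime] (hodd : p ≠ 2)
    {D : Set G} (hinv : ∀ d ∈ D, orderOf d = 2) (hconj : ∃ d ∈ D, D = conjugatesOf d)
    (hgen : closure D = ⊤)
    (hprod : ∀ x ∈ D, ∀ y ∈ D, x ≠ y → ∃ k : ℕ, orderOf (x * y) = p ^ k) :
    commutator G ≤ pCore p G := by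
  classical
  obtain ⟨d, hdD, hD⟩ := hconj
  have hmem : ∀ g : G, g * d * g⁻¹ ∈ D := fun g =>
    hD ▸ (isConj_iff.2 ⟨g, rfl⟩ : IsConj d (g * d * g⁻¹))
  have hiso : IsIsolatedInvolution d := by
    refine ⟨hinv d hdD, fun g hc => ?_⟩
    by_contra hne
    obtain ⟨k, hk⟩ := hprod d hdD _ (hmem g) (Ne.symm hne)
    have h2 : (d * (g * d * g⁻¹)) ^ 2 = 1 := by
      rw [hc.mul_pow, ← hinv d hdD, pow_orderOf_eq_one, one_mul, hinv d hdD, ← hinv _ (hmem g),
        pow_orderOf_eq_one]
    have h3 : orderOf (d * (g * d * g⁻¹)) = 1 := by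
      refine Nat.eq_one_of_dvd_coprimes ?_ (orderOf_dvd_of_pow_eq_one h2) hk.dvd
      exact ((Nat.coprime_primes Nat.prime_two hp.out).2 (Ne.symm hodd)).pow_right k
    have h4 := orderOf_eq_one_iff.1 h3
    apply hne
    rw [eq_inv_of_mul_eq_one_right h4]
    exact inv_eq_of_mul_eq_one_right (by rw [← pow_two, ← hinv d hdD, pow_orderOf_eq_one])
  haveI := isSolvable_of_isolated_generated hiso (hD ▸ hgen)
  haveI : (pCore p G).Normal := inferInstance
  set π := QuotientGroup.mk' (pCore p G)
  set Q := G ⧸ pCore p G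
  -- a normal `q`-subgroup of the quotient, `q ≠ p`, is centralised by the class
  have hcen : fittingSubgroup Q ≤ center Q := by
    rw [fittingSubgroup_eq_iSup_pCore]
    refine iSup_le fun q => ?_
    by_cases hq : (q : ℕ) = p
    · rw [hq, pCore_quotient_pCore]
      exact bot_le
    haveI := Fact.mk q.2
    intro n hn
    rw [mem_center_iff]
    intro y
    have hle : (closure D).map π ≤ centralizer ({n} : Set Q) := by
      rw [map_le_iff_le_comap, closure_le]
      intro x hx
      rw [SetLike.mem_coe, mem_comap, mem_centralizer_singleton_iff]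
      obtain ⟨m, rfl⟩ := QuotientGroup.mk'_surjective (pCore p G) n
      have hcm : π x * π m * (π x)⁻¹ * (π m)⁻¹ ∈ pCore (q : ℕ) Q :=
        mul_mem ((inferInstance : (pCore (q : ℕ) Q).Normal).conj_mem _ hn _) (inv_mem hn)
      have hxy : m * x * m⁻¹ ∈ D := by
        rw [hD] at hx ⊢
        exact show IsConj d _ from
          (show IsConj d x from hx).trans (isConj_iff.2 ⟨m, rfl⟩)
      have hone : π x * π m * (π x)⁻¹ * (π m)⁻¹ = 1 := by
        by_cases hxe : m * x * m⁻¹ = x
        · rw [← map_inv, ← map_inv, ← map_mul, ← map_mul, ← map_mul]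
          have : x * m * x⁻¹ * m⁻¹ = 1 := by
            have h5 : m * x = x * m := mul_inv_eq_iff_eq_mul.1 hxe
            rw [← h5]; group
          rw [this, map_one]
        obtain ⟨k, hk⟩ := hprod x hx _ hxy (Ne.symm hxe)
        have hxinv : x⁻¹ = x :=
          inv_eq_of_mul_eq_one_right (by rw [← pow_two, ← hinv x hx, pow_orderOf_eq_one])
        have e : π x * π m * (π x)⁻¹ * (π m)⁻¹ = π (x * (m * x * m⁻¹)) := by
          conv_rhs => rw [show x * (m * x * m⁻¹) = x * m * x⁻¹ * m⁻¹ by rw [hxinv]; group]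
          simp only [map_mul, map_inv]
        obtain ⟨j, hj⟩ := (isPGroup_pCore (q : ℕ) Q) ⟨_, hcm⟩
        have h6 : orderOf (π x * π m * (π x)⁻¹ * (π m)⁻¹) ∣ (q : ℕ) ^ j :=
          orderOf_dvd_of_pow_eq_one (congrArg Subtype.val hj)
        have h7 : orderOf (π x * π m * (π x)⁻¹ * (π m)⁻¹) ∣ p ^ k := by
          rw [e, ← hk]
          exact orderOf_map_dvd π _
        exact orderOf_eq_one_iff.1 (Nat.eq_one_of_dvd_coprimes
          (((Nat.coprime_primes q.2 hp.out).2 hq).pow j k) h6 h7)
      exact mul_inv_eq_iff_eq_mul.1 (mul_inv_eq_one.1 hone)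
    have hy : y ∈ centralizer ({n} : Set Q) := by
      obtain ⟨g, rfl⟩ := QuotientGroup.mk'_surjective (pCore p G) y
      exact hle (mem_map_of_mem π (show g ∈ closure D from hgen.symm ▸ mem_top g))
    exact mem_centralizer_singleton_iff.1 hy
  have htop : fittingSubgroup Q = ⊤ := by
    refine eq_top_iff.2 (le_trans ?_ centralizer_fittingSubgroup_le)
    intro y _
    exact mem_centralizer_iff.2 fun f hf => (mem_center_iff.1 (hcen hf) y).symm
  intro g hg
  rw [← QuotientGroup.eq_one_iff]
  have h8 : π g ∈ (commutator G).map π := mem_map_of_mem π hg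
  rw [_root_.commutator_def, map_commutator, map_top_of_surjective _ (QuotientGroup.mk'_surjective _)]
    at h8
  have h9 : ⁅(⊤ : Subgroup Q), (⊤ : Subgroup Q)⁆ = ⊥ := by
    rw [commutator_top_right_eq_bot_iff_le_center, ← htop]
    exact hcen
  rw [h9] at h8
  exact h8

end CfsgLib.FTCons
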