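import Mathlib
import Cfsg.Agent.Lib.Coprime.Hall
import Cfsg.Agent.Lib.FT.Interface
import Cfsg.Prelude.Def_HallClasses

/-!
π-separable groups satisfy Hall's theorem, the class `C_π` is closed under extensions, and
π-closed groups are the π'-homogeneous π-separable ones (via the odd order theorem).
-/

set_option autoImplicit false

open scoped Pointwise

namespace CfsgLib.FTCons

open CfsgLib.Coprime

universe u

variable {G : Type u} [Group G]

/-- A finite normal series each of whose indices is a `π`-number or a `π'`-number. -/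
def PiSep (π : Set ℕ) (G : Type u) [Group G] : Prop :=
  ∃ (n : ℕ) (H : Fin (n + 1) → Subgroup G), H 0 = ⊥ ∧ H (Fin.last n) = ⊤ ∧ Monotone H ∧
    (∀ i, (H i).Normal) ∧
      ∀ i : Fin n, (∀ q : ℕ, q.Prime → q ∣ (H i.castSucc).relIndex (H i.succ) → q ∈ π) ∨
        (∀ q : ℕ, q.Prime → q ∣ (H i.castSucc).relIndex (H i.succ) → q ∉ π)

theorem PiSep.quotient {π : Set ℕ} (h : PiSep π G) (N : Subgroup G) [N.Normal] :
    PiSep π (G ⧸ N) := by
  obtain ⟨n, H, h0, hn, hmono, hnormal, hstep⟩ := h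
  set f := QuotientGroup.mk' N with hf
  have hsurj : Function.Surjective f := QuotientGroup.mk'_surjective N
  refine ⟨n, fun i => (H i).map f, by simp [h0], ?_, fun i j hij => Subgroup.map_mono (hmono hij),
    fun i => (hnormal i).map f hsurj, fun i => ?_⟩
  · simp only [hn, Subgroup.map_top_of_surjective f hsurj]
  · have hd := relIndex_map_dvd f (H i.castSucc) (H i.succ)
    exact (hstep i).imp (fun h q hq hqd => h q hq (hqd.trans hd))
      (fun h q hq hqd => h q hq (hqd.trans hd))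

theorem relIndex_inf_dvd (A B U : Subgroup G) [A.Normal] :
    A.relIndex (B ⊓ U) ∣ A.relIndex B := by
  rw [← Subgroup.relIndex_subgroupOf (H := A) (inf_le_left : B ⊓ U ≤ B)]
  exact Subgroup.relIndex_dvd_index_of_normal _ _

theorem PiSep.subgroup {π : Set ℕ} (h : PiSep π G) (U : Subgroup G) : PiSep π U := by
  obtain ⟨n, H, h0, hn, hmono, hnormal, hstep⟩ := h
  refine ⟨n, fun i => (H i).subgroupOf U, by simp [h0], by simp [hn],
    fun i j hij => Subgroup.comap_mono (hmono hij), fun i => (hnormal i).comap U.subtype,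
    fun i => ?_⟩
  haveI := hnormal i.castSucc
  have hd : ((H i.castSucc).subgroupOf U).relIndex ((H i.succ).subgroupOf U) ∣
      (H i.castSucc).relIndex (H i.succ) := by
    conv_lhs => rw [Subgroup.subgroupOf, Subgroup.relIndex_comap, Subgroup.subgroupOf_map_subtype]
    exact relIndex_inf_dvd _ _ _
  exact (hstep i).imp (fun h q hq hqd => h q hq (hqd.trans hd))
    (fun h q hq hqd => h q hq (hqd.trans hd))

/-- A group with normal subgroups `H ≤ B` whose three sections are π, π', π. -/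
theorem piSep_of_chain {π : Set ℕ} (H B : Subgroup G) [H.Normal] [B.Normal] (hle : H ≤ B)
    (hH : ∀ q : ℕ, q.Prime → q ∣ Nat.card H → q ∈ π)
    (hB : ∀ q : ℕ, q.Prime → q ∣ H.relIndex B → q ∉ π)
    (hT : ∀ q : ℕ, q.Prime → q ∣ B.index → q ∈ π) : PiSep π G := by
  refine ⟨3, ![⊥, H, B, ⊤], rfl, rfl, ?_, fun i => ?_, fun i => ?_⟩
  · refine Fin.monotone_iff_le_succ.mpr fun i => ?_
    fin_cases i <;> simp [hle]
  · fin_cases i <;> simp <;> infer_instance
  · fin_cases i
    · exact Or.inl fun q hq hd => hH q hq (by simpa using hd)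
    · exact Or.inr fun q hq hd => hB q hq (by simpa using hd)
    · exact Or.inl fun q hq hd => hT q hq (by simpa using hd)

theorem isSolvable_or_piSubgroups (hFT : CfsgLib.FT.OddOrderThm.{u}) [Finite G] {π : Set ℕ}
    (N : Subgroup G) (hN : ∀ p : ℕ, p.Prime → p ∣ Nat.card N → p ∉ π) :
    Group.IsSolvable N ∨ ∀ U : Subgroup G, Cfsg.IsPiSubgroup π U → Group.IsSolvable U := by
  by_cases h2 : 2 ∈ π
  · exact Or.inl (hFT N (Nat.not_even_iff_odd.mp fun he =>
      hN 2 Nat.prime_two (even_iff_two_dvd.mp he) h2))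
  · exact Or.inr fun U hU => hFT U (Nat.not_even_iff_odd.mp fun he =>
      h2 (hU 2 Nat.prime_two (even_iff_two_dvd.mp he)))

theorem hallD_of_piSep_aux (hFT : CfsgLib.FT.OddOrderThm.{u}) {π : Set ℕ} (k : ℕ) :
    ∀ {G : Type u} [Group G] [Finite G], Nat.card G ≤ k → PiSep π G → HallD π G := by
  induction k with
  | zero =>
    intro G _ _ hG
    exact absurd hG (Nat.not_le.mpr Nat.card_pos)
  | succ k ih =>
    intro G _ _ hG hps
    rcases subsingleton_or_nontrivial G with hs | hs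
    · exact hallD_of_piGroup fun q hq hd =>
        absurd (Nat.dvd_one.mp (Nat.card_unique (α := G) ▸ hd)) hq.ne_one
    obtain ⟨n, H, h0, hn, hmono, hnormal, hstep⟩ := hps
    obtain ⟨i, hi, hi'⟩ : ∃ i : Fin n, H i.castSucc = ⊥ ∧ H i.succ ≠ ⊥ := by
      by_contra hcon
      simp only [not_exists, not_and, not_not] at hcon
      have : ∀ i : Fin (n + 1), H i = ⊥ := by
        intro i
        induction i using Fin.induction with
        | zero => exact h0
        | succ i ih => exact hcon i ih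
      exact (top_ne_bot : (⊤ : Subgroup G) ≠ ⊥) (hn ▸ this _)
    haveI := hnormal i.succ
    have hlt : Nat.card (G ⧸ H i.succ) ≤ k :=
      Nat.lt_succ_iff.mp ((card_quotient_lt hi').trans_le hG)
    have hq := ih hlt (PiSep.quotient ⟨n, H, h0, hn, hmono, hnormal, hstep⟩ (H i.succ))
    have h := hstep i
    rw [hi, Subgroup.relIndex_bot_left] at h
    rcases h with h | h
    · exact hallD_of_piGroup_normal _ h hq
    · exact hallD_of_piCompl_normal _ h (isSolvable_or_piSubgroups hFT _ h) hq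

/-- A π-separable group satisfies `D_π`. -/
theorem hallD_of_piSep (hFT : CfsgLib.FT.OddOrderThm.{u}) [Finite G] {π : Set ℕ}
    (h : PiSep π G) : HallD π G :=
  hallD_of_piSep_aux hFT _ le_rfl h

theorem piSep_theorem (hFT : CfsgLib.FT.OddOrderThm.{u}) [Finite G] {π : Set ℕ}
    (h : PiSep π G) :
    (∃ K : Subgroup G, Cfsg.IsPiHall π K) ∧
      (∀ K L : Subgroup G, Cfsg.IsPiHall π K → Cfsg.IsPiHall π L →
        ∃ g : G, L = K.map (MulAut.conj g).toMonoidHom) ∧
      ∀ U : Subgroup G, (∀ q : ℕ, q.Prime → q ∣ Nat.card U → q ∈ π) →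
        ∃ K : Subgroup G, Cfsg.IsPiHall π K ∧ U ≤ K := by
  have hD := hallD_of_piSep hFT h
  refine ⟨?_, fun K L hK hL => ?_, fun U hU => hD.exists_le hU⟩
  · obtain ⟨K, hK, -⟩ := hD
    exact ⟨K, hK⟩
  · obtain ⟨g, hg⟩ := hD.conj hK hL
    exact ⟨g, by rw [← conj_smul_eq_map, hg]⟩

theorem piHall_subgroupOf [Finite G] {π : Set ℕ} {K L : Subgroup G} (hK : Cfsg.IsPiHall π K)
    (h : K ≤ L) : Cfsg.IsPiHall π (K.subgroupOf L) := by
  refine ⟨fun p hp hd => hK.1 p hp ?_, fun p hp hπ hd => hK.2 p hp hπ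
    (hd.trans (Subgroup.relIndex_dvd_index_of_le h))⟩
  rwa [Nat.card_congr (Subgroup.subgroupOfEquivOfLe h).toEquiv] at hd

theorem piHall_inf_normal [Finite G] {π : Set ℕ} {K : Subgroup G} (hK : Cfsg.IsPiHall π K)
    (A : Subgroup G) [A.Normal] : Cfsg.IsPiHall π ((K ⊓ A).subgroupOf A) := by
  refine ⟨fun p hp hd => hK.1 p hp ?_, fun p hp hπ hd => hK.2 p hp hπ (hd.trans ?_)⟩
  · rw [Nat.card_congr (Subgroup.subgroupOfEquivOfLe (inf_le_right : K ⊓ A ≤ A)).toEquiv] at hd
    exact hd.trans (Subgroup.card_dvd_of_le inf_le_left)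
  · show (K ⊓ A).relIndex A ∣ K.index
    rw [Subgroup.inf_relIndex_right]
    have h1 := card_sup_mul_card_inf (H := K) (N := A) (Subgroup.le_normalizer_of_normal)
    have h2 := Subgroup.relIndex_mul_relIndex ⊥ K (K ⊔ A) bot_le le_sup_left
    have h3 := Subgroup.relIndex_mul_relIndex ⊥ (K ⊓ A) A bot_le inf_le_right
    simp only [Subgroup.relIndex_bot_left, Subgroup.inf_relIndex_right] at h2 h3
    rw [← h2, mul_assoc, mul_comm (K.relIndex _), ← h3] at h1
    have h4 : K.relIndex A = K.relIndex (K ⊔ A) :=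
      (Nat.eq_of_mul_eq_mul_left (Nat.mul_pos Nat.card_pos Nat.card_pos)
        (by linarith : Nat.card K * Nat.card ↥(K ⊓ A) * K.relIndex A =
          Nat.card K * Nat.card ↥(K ⊓ A) * K.relIndex (K ⊔ A)))
    rw [h4]
    exact Subgroup.relIndex_dvd_index_of_le le_sup_left

theorem le_normalizer_inf_normal (K A : Subgroup G) [hA : A.Normal] :
    K ≤ Subgroup.normalizer ((K ⊓ A : Subgroup G) : Set G) := fun k hk => by
  rw [Subgroup.mem_normalizer_iff]
  intro x
  constructor
  · exact fun hx => ⟨K.mul_mem (K.mul_mem hk hx.1) (K.inv_mem hk), hA.conj_mem x hx.2 k⟩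
  · intro hx
    have h1 := K.mul_mem (K.mul_mem (K.inv_mem hk) hx.1) hk
    have h2 := hA.conj_mem _ hx.2 k⁻¹
    simp only [inv_inv] at h2
    refine ⟨?_, ?_⟩
    · rwa [show k⁻¹ * (k * x * k⁻¹) * k = x by group] at h1
    · rwa [show k⁻¹ * (k * x * k⁻¹) * k = x by group] at h2

/-- The class `C_π` is closed under extensions. -/
theorem isCPiGroup_of_extension (hFT : CfsgLib.FT.OddOrderThm.{u}) [Finite G] {π : Set ℕ}
    (A : Subgroup G) [A.Normal] (hA : Cfsg.IsCPiGroup π A) (hQ : Cfsg.IsCPiGroup π (G ⧸ A)) :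
    Cfsg.IsCPiGroup π G := by
  obtain ⟨⟨H0, hH0⟩, hAconj⟩ := hA
  obtain ⟨⟨Q0, hQ0⟩, hQconj⟩ := hQ
  set H := H0.map A.subtype with hHdef
  have hHA : H ≤ A := Subgroup.map_subtype_le H0
  have hHsub : H.subgroupOf A = H0 :=
    Subgroup.comap_map_eq_self_of_injective A.subtype_injective H0
  have hcardH : Nat.card H = Nat.card H0 :=
    Nat.card_congr (H0.equivMapOfInjective _ A.subtype_injective).toEquiv.symm
  set f := QuotientGroup.mk' A with hf
  have hsurj : Function.Surjective f := QuotientGroup.mk'_surjective A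
  set M := Subgroup.normalizer (H : Set G) with hM
  -- every Hall subgroup of `A` is `A`-conjugate to `H`
  have hconjA : ∀ K : Subgroup G, K ≤ A → Cfsg.IsPiHall π (K.subgroupOf A) →
      ∃ a ∈ A, MulAut.conj a • K = H := by
    intro K hKA hK
    obtain ⟨a, ha⟩ := hAconj _ _ hK (hHsub.symm ▸ hH0 : Cfsg.IsPiHall π (H.subgroupOf A))
    refine ⟨a, a.2, ?_⟩
    rw [← Subgroup.coe_subtype]
    have h' := conj_smul_map A.subtype a (K.subgroupOf A)
    rw [conj_smul_eq_map a, ← ha, Subgroup.map_subgroupOf_eq_of_le hHA,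
      Subgroup.map_subgroupOf_eq_of_le hKA] at h'
    exact h'
  have hfrat : A ⊔ M = ⊤ := sup_normalizer_eq_top_of_conj fun g => by
    have hgA : MulAut.conj g • H ≤ A := by
      rw [conj_smul_le_iff]
      exact fun x hx => ‹A.Normal›.conj_mem x (hHA hx) g
    have hg : Cfsg.IsPiHall π ((MulAut.conj g • H).subgroupOf A) := by
      refine piHall_of_card_eq hH0 ?_
      rw [Nat.card_congr (Subgroup.subgroupOfEquivOfLe hgA).toEquiv, card_conj_smul, hcardH]
    obtain ⟨a, ha, he⟩ := hconjA _ hgA hg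
    refine ⟨a⁻¹, A.inv_mem ha, ?_⟩
    conv_lhs => rw [← he]
    rw [← mul_smul, ← map_mul, inv_mul_cancel, map_one, one_smul]
  -- for a Hall subgroup `Q` of the quotient, `L = π⁻¹(Q) ∩ N(H)` satisfies Hall's theorem
  have hlift : ∀ q : G ⧸ A, ∃ m ∈ M, f m = q := by
    intro q
    obtain ⟨g, rfl⟩ := hsurj q
    have hg : g ∈ A ⊔ M := hfrat ▸ Subgroup.mem_top g
    obtain ⟨a, ha, m, hm, rfl⟩ := Subgroup.mem_sup_of_normal_left.mp hg
    refine ⟨m, hm, ?_⟩
    rw [map_mul, show f a = 1 from (QuotientGroup.eq_one_iff a).mpr ha, one_mul]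
  have hL : ∀ Q : Subgroup (G ⧸ A), Cfsg.IsPiHall π Q → HallD π ↥(Q.comap f ⊓ M) ∧
      ∀ p : ℕ, p.Prime → p ∈ π → ¬ p ∣ (Q.comap f ⊓ M).index := by
    intro Q hQ
    set L := Q.comap f ⊓ M with hLdef
    have hALC : A ≤ Q.comap f :=
      (QuotientGroup.ker_mk' A).symm.le.trans (MonoidHom.ker_le_comap _ _)
    have hHL : H ≤ L := le_inf (hHA.trans hALC) Subgroup.le_normalizer
    haveI hHn : (H.subgroupOf L).Normal := (Subgroup.normal_subgroupOf_iff_le_normalizer hHL).mpr
      inf_le_right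
    have hmap : L.map f = Q := by
      refine le_antisymm (Subgroup.map_le_iff_le_comap.mpr inf_le_left) fun q hq => ?_
      obtain ⟨m, hm, rfl⟩ := hlift q
      exact ⟨m, ⟨hq, hm⟩, rfl⟩
    have hAL : A.relIndex L = Nat.card Q := by rw [← card_map_mk', ← hf, hmap]
    have hdvd : H.relIndex (A ⊓ L) ∣ H0.index := by
      have := Subgroup.relIndex_mul_relIndex H (A ⊓ L) A (le_inf hHA hHL) inf_le_left
      have e : H.relIndex A = H0.index := by rw [← hHsub]; rfl
      exact e ▸ Dvd.intro _ this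
    refine ⟨hallD_of_piSep hFT (piSep_of_chain (H.subgroupOf L) (A.subgroupOf L)
      (Subgroup.comap_mono hHA) ?_ ?_ ?_), fun p hp hπ hd => ?_⟩
    · intro q hq hd
      rw [Nat.card_congr (Subgroup.subgroupOfEquivOfLe hHL).toEquiv, hcardH] at hd
      exact hH0.1 q hq hd
    · intro q hq hd hπ
      rw [Subgroup.subgroupOf, Subgroup.relIndex_comap, Subgroup.subgroupOf_map_subtype] at hd
      exact hH0.2 q hq hπ (hd.trans hdvd)
    · intro q hq hd
      exact hQ.1 q hq (hAL ▸ hd)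
    · have h1 := Subgroup.relIndex_mul_relIndex ⊥ (A ⊓ L) L bot_le inf_le_right
      have h2 := Subgroup.relIndex_mul_relIndex ⊥ H (A ⊓ L) bot_le (le_inf hHA hHL)
      simp only [Subgroup.relIndex_bot_left, Subgroup.inf_relIndex_right, hAL] at h1 h2
      have hG : Nat.card L * L.index = Nat.card H * H0.index * (Nat.card Q * Q.index) := by
        rw [L.card_mul_index, Q.card_mul_index, hcardH, H0.card_mul_index, mul_comm (Nat.card A)]
        exact A.card_eq_card_quotient_mul_card_subgroup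
      have hpos : 0 < Nat.card H * Nat.card Q := Nat.mul_pos Nat.card_pos Nat.card_pos
      have key : H.relIndex (A ⊓ L) * L.index = H0.index * Q.index := by
        refine Nat.eq_of_mul_eq_mul_left hpos ?_
        rw [← h1, ← h2] at hG
        linarith
      have hd' : p ∣ H0.index * Q.index := key ▸ Dvd.dvd.mul_left hd _
      exact (hp.dvd_mul.mp hd').elim (hH0.2 p hp hπ) (hQ.2 p hp hπ)
  refine ⟨?_, fun K1 K2 hK1 hK2 => ?_⟩
  · obtain ⟨⟨C, hC, -⟩, hidx⟩ := hL Q0 hQ0
    refine ⟨C.map (Q0.comap f ⊓ M).subtype, fun p hp hd => hC.1 p hp ?_, fun p hp hπ hd => ?_⟩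
    · rwa [← Nat.card_congr (C.equivMapOfInjective _ (Subgroup.subtype_injective _)).toEquiv] at hd
    · rw [Subgroup.index_map_subtype] at hd
      exact (hp.dvd_mul.mp hd).elim (hC.2 p hp hπ) (hidx p hp hπ)
  · -- conjugacy
    have hnorm : ∀ K : Subgroup G, Cfsg.IsPiHall π K →
        ∃ a : G, Cfsg.IsPiHall π (MulAut.conj a • K) ∧ MulAut.conj a • K ≤ M := by
      intro K hK
      obtain ⟨a, ha, he⟩ := hconjA (K ⊓ A) inf_le_right (piHall_inf_normal hK A)
      refine ⟨a, piHall_conj_smul a hK, ?_⟩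
      have h := le_normalizer_inf_normal (MulAut.conj a • K) A
      have e : MulAut.conj a • K ⊓ A = H := by
        rw [← he, Subgroup.smul_inf]
        congr 1
        ext x
        rw [mem_conj_smul]
        exact ⟨fun hx => by simpa using ‹A.Normal›.conj_mem x hx a⁻¹,
          fun hx => by
            have := ‹A.Normal›.conj_mem _ hx a
            convert this using 1; group⟩
      rwa [e] at h
    obtain ⟨a1, hK1', hM1⟩ := hnorm K1 hK1
    obtain ⟨a2, hK2', hM2⟩ := hnorm K2 hK2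
    set R1 := MulAut.conj a1 • K1 with hR1
    set R2 := MulAut.conj a2 • K2 with hR2
    have himg : ∀ R : Subgroup G, Cfsg.IsPiHall π R → Cfsg.IsPiHall π (R.map f) := fun R hR =>
      ⟨fun p hp hd => hR.1 p hp (hd.trans (Subgroup.card_map_dvd R f)),
        fun p hp hπ hd => hR.2 p hp hπ (hd.trans (Subgroup.index_map_dvd _ hsurj))⟩
    obtain ⟨q, hq⟩ := hQconj _ _ (himg R1 hK1') (himg R2 hK2')
    obtain ⟨m, hm, rfl⟩ := hlift q
    set S1 := MulAut.conj m • R1 with hS1
    have hS1M : S1 ≤ M := by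
      rw [hS1, conj_smul_le_iff]
      exact fun x hx => M.mul_mem (M.mul_mem hm (hM1 hx)) (M.inv_mem hm)
    have hS1Q : S1 ≤ (R2.map f).comap f := by
      rw [← Subgroup.map_le_iff_le_comap, hS1, ← conj_smul_map, conj_smul_eq_map, ← hq]
    have hR2Q : R2 ≤ (R2.map f).comap f := Subgroup.le_comap_map _ _
    obtain ⟨hD, -⟩ := hL _ (himg R2 hK2')
    obtain ⟨l, hl⟩ := hD.conj (piHall_subgroupOf (piHall_conj_smul m hK1') (le_inf hS1Q hS1M))
      (piHall_subgroupOf hK2' (le_inf hR2Q hM2))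
    have h' := conj_smul_map ((R2.map f).comap f ⊓ M).subtype l
      (S1.subgroupOf ((R2.map f).comap f ⊓ M))
    rw [hl, Subgroup.map_subgroupOf_eq_of_le (le_inf hR2Q hM2),
      Subgroup.map_subgroupOf_eq_of_le (le_inf hS1Q hS1M)] at h'
    refine ⟨a2⁻¹ * ((l : G) * (m * a1)), ?_⟩
    rw [← conj_smul_eq_map, map_mul, map_mul, map_mul, mul_smul, mul_smul, mul_smul, ← hR1, ← hS1,
      show MulAut.conj (l : G) • S1 = R2 from h', hR2, ← mul_smul, ← map_mul, inv_mul_cancel,
      map_one, one_smul]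

end CfsgLib.FTCons
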