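import Mathlib
import Cfsg.Agent.Lib.FTCons.PiSeparable

/-!
π-closed groups: π'-homogeneous π-separable groups are π-closed (via the odd order theorem).
-/

set_option autoImplicit false

open scoped Pointwise

namespace CfsgLib.FTCons

open CfsgLib.Coprime

universe u

variable {G : Type u} [Group G]

/-- The π-elements form a subgroup. -/
def PiClosed (π : Set ℕ) (G : Type u) [Group G] : Prop :=
  ∃ K : Subgroup G, ∀ x : G, x ∈ K ↔ ∀ p : ℕ, p.Prime → p ∣ orderOf x → p ∈ π

/-- `π'`-homogeneity. -/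
def PiHom (π : Set ℕ) (G : Type u) [Group G] : Prop :=
  ∀ H : Subgroup G, H ≠ ⊥ → (∀ p : ℕ, p.Prime → p ∣ Nat.card ↥H → p ∉ π) →
    ∀ p : ℕ, p.Prime → p ∣ (Subgroup.centralizer (H : Set G)).relIndex
      (Subgroup.normalizer (H : Set G)) → p ∉ π

theorem centralizer_normal_in_normalizer (H : Subgroup G) :
    ((Subgroup.centralizer (H : Set G)).subgroupOf (Subgroup.normalizer (H : Set G))).Normal := by
  rw [← Subgroup.normalizerMonoidHom_ker]
  infer_instance

theorem exists_orderOf_mem_sub {π : Set ℕ} [Finite G] (N : Subgroup G) [N.Normal] {p : ℕ}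
    (hp : p.Prime) (hπ : p ∈ π) (hd : p ∣ N.index) :
    ∃ x : G, x ∉ N ∧ ∀ q : ℕ, q.Prime → q ∣ orderOf x → q ∈ π := by
  haveI := Fact.mk hp
  obtain ⟨P⟩ : Nonempty (Sylow p G) := inferInstance
  by_contra hcon
  push Not at hcon
  have hle : (P : Subgroup G) ≤ N := fun x hx => by
    by_contra hxN
    obtain ⟨q, hq, hqd, hqπ⟩ := hcon x hxN
    obtain ⟨k, hk⟩ := P.2 ⟨x, hx⟩
    have h1 : orderOf x ∣ p ^ k := orderOf_dvd_of_pow_eq_one (congrArg Subtype.val hk)
    exact hqπ ((Nat.prime_dvd_prime_iff_eq hq hp).mp (hq.dvd_of_dvd_pow (hqd.trans h1)) ▸ hπ)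
  exact P.not_dvd_index (hd.trans (Subgroup.index_dvd_of_le hle))

theorem mem_of_normal_of_piCompl [Finite G] {π : Set ℕ} (M : Subgroup G) [M.Normal]
    (hM : ∀ p : ℕ, p.Prime → p ∈ π → ¬ p ∣ M.index) {x : G}
    (hx : ∀ p : ℕ, p.Prime → p ∣ orderOf x → p ∈ π) : x ∈ M := by
  rw [← QuotientGroup.eq_one_iff, ← orderOf_eq_one_iff]
  refine Nat.eq_one_of_dvd_coprimes (coprime_of_pi hx hM)
    (orderOf_map_dvd (QuotientGroup.mk' M) x) ?_
  exact (orderOf_dvd_natCard _).trans (dvd_of_eq rfl)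

theorem piClosed_of_normal_hall [Finite G] {π : Set ℕ} (M : Subgroup G) [M.Normal]
    (h : Cfsg.IsPiHall π M) : PiClosed π G := by
  refine ⟨M, fun x => ⟨fun hx p hp hd => h.1 p hp (hd.trans ?_),
    mem_of_normal_of_piCompl M h.2⟩⟩
  rw [← Subgroup.orderOf_mk x hx]
  exact orderOf_dvd_natCard _

theorem PiClosed.exists_hall [Finite G] {π : Set ℕ} (h : PiClosed π G) :
    ∃ M : Subgroup G, M.Normal ∧ Cfsg.IsPiHall π M := by
  obtain ⟨K, hK⟩ := h
  have hn : K.Normal := ⟨fun x hx g => (hK _).mpr fun p hp hd => (hK x).mp hx p hp (by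
    rwa [← MulAut.conj_apply, MulEquiv.orderOf_eq] at hd)⟩
  refine ⟨K, hn, fun p hp hd => ?_, fun p hp hπ hd => ?_⟩
  · haveI := Fact.mk hp
    obtain ⟨x, hx⟩ := exists_prime_orderOf_dvd_card' p hd
    exact (hK x).mp x.2 p hp (by rw [Subgroup.orderOf_coe, hx])
  · obtain ⟨x, hxK, hx⟩ := exists_orderOf_mem_sub K hp hπ hd
    exact hxK ((hK x).mpr hx)

theorem PiClosed.piSep [Finite G] {π : Set ℕ} (h : PiClosed π G) : PiSep π G := by
  obtain ⟨M, hn, hM⟩ := h.exists_hall
  exact piSep_of_chain M ⊤ le_top hM.1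
    (fun q hq hd hπ => hM.2 q hq hπ (by rwa [Subgroup.relIndex_top_right] at hd))
    (fun q hq hd => absurd (by simpa using hd) hq.ne_one)

theorem PiClosed.piHom [Finite G] {π : Set ℕ} (h : PiClosed π G) : PiHom π G := by
  obtain ⟨M, hMn, hM⟩ := h.exists_hall
  intro H _ hH p hp hd hπ
  set N := Subgroup.normalizer (H : Set G) with hN
  haveI : ((Subgroup.centralizer (H : Set G)).subgroupOf N).Normal :=
    centralizer_normal_in_normalizer H
  obtain ⟨x, hx, hxπ⟩ := exists_orderOf_mem_sub (π := π)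
    ((Subgroup.centralizer (H : Set G)).subgroupOf N) hp hπ hd
  apply hx
  rw [Subgroup.mem_subgroupOf, Subgroup.mem_centralizer_iff]
  intro h hh
  haveI := hMn
  have hxM : (x : G) ∈ M := mem_of_normal_of_piCompl M hM.2 (fun q hq hqd =>
    hxπ q hq (by rwa [Subgroup.orderOf_coe] at hqd))
  have h1 : h * x * h⁻¹ * (x : G)⁻¹ ∈ M ⊓ H := by
    refine ⟨M.mul_mem (hMn.conj_mem _ hxM h) (M.inv_mem hxM), ?_⟩
    have := (Subgroup.mem_normalizer_iff.mp x.2 h⁻¹).mp (H.inv_mem hh)
    simpa [mul_assoc] using H.mul_mem hh this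
  rw [inf_eq_bot_of_coprime (coprime_of_pi hM.1 fun q hq hqπ hqd => hH q hq hqd hqπ),
    Subgroup.mem_bot, mul_inv_eq_one, mul_inv_eq_iff_eq_mul] at h1
  exact h1

/-- The relative centralizer condition gives that π-elements centralize. -/
theorem PiHom.mem_centralizer [Finite G] {π : Set ℕ} (hhom : PiHom π G) {C : Subgroup G}
    (hC : ∀ p : ℕ, p.Prime → p ∣ Nat.card C → p ∉ π) {x : G}
    (hxN : x ∈ Subgroup.normalizer (C : Set G))
    (hx : ∀ p : ℕ, p.Prime → p ∣ orderOf x → p ∈ π) :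
    x ∈ Subgroup.centralizer (C : Set G) := by
  rcases eq_or_ne C ⊥ with rfl | hne
  · rw [Subgroup.mem_centralizer_iff]
    intro h hh
    rw [Subgroup.mem_bot.mp hh, one_mul, mul_one]
  · set N := Subgroup.normalizer (C : Set G) with hN
    haveI : ((Subgroup.centralizer (C : Set G)).subgroupOf N).Normal :=
      centralizer_normal_in_normalizer C
    exact Subgroup.mem_subgroupOf.mp (mem_of_normal_of_piCompl
      ((Subgroup.centralizer (C : Set G)).subgroupOf N) (x := ⟨x, hxN⟩)
      (fun p hp hπ hd => hhom C hne hC p hp hd hπ)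
      (fun p hp hd => hx p hp (by rwa [Subgroup.orderOf_mk] at hd)))

theorem PiHom.of_injective [Finite G] {G' : Type u} [Group G'] {π : Set ℕ} (hhom : PiHom π G)
    (f : G' →* G) (hf : Function.Injective f) : PiHom π G' := by
  haveI : Finite G' := Finite.of_injective f hf
  intro H _ hH p hp hd hπ
  set N := Subgroup.normalizer (H : Set G') with hN
  haveI : ((Subgroup.centralizer (H : Set G')).subgroupOf N).Normal :=
    centralizer_normal_in_normalizer H
  obtain ⟨x, hx, hxπ⟩ := exists_orderOf_mem_sub (π := π)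
    ((Subgroup.centralizer (H : Set G')).subgroupOf N) hp hπ hd
  apply hx
  rw [Subgroup.mem_subgroupOf, Subgroup.mem_centralizer_iff]
  intro h hh
  have hN' : f (x : G') ∈ Subgroup.normalizer ((H.map f : Subgroup G) : Set G) :=
    Subgroup.le_normalizer_map f ⟨x, x.2, rfl⟩
  have hC := Subgroup.mem_centralizer_iff.mp (hhom.mem_centralizer (C := H.map f)
    (fun q hq hqd => hH q hq (hqd.trans (Subgroup.card_map_dvd H f))) hN'
    (fun q hq hqd => hxπ q hq (by
      rwa [orderOf_injective f hf, Subgroup.orderOf_coe] at hqd))) (f h) ⟨h, hh, rfl⟩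
  rw [← map_mul, ← map_mul] at hC
  exact hf hC

/-- An extension of π-closed groups with the homogeneity condition is π-closed. -/
theorem piClosed_of_extension (hFT : CfsgLib.FT.OddOrderThm.{u}) [Finite G] {π : Set ℕ}
    (hhom : PiHom π G) (K : Subgroup G) [hKn : K.Normal] (hK : PiClosed π K)
    (hQ : PiClosed π (G ⧸ K)) : PiClosed π G := by
  obtain ⟨K1, hK1n, hK1⟩ := hK.exists_hall
  obtain ⟨Q, hQn, hQ⟩ := hQ.exists_hall
  set L := Q.comap (QuotientGroup.mk' K) with hL
  haveI hLn : L.Normal := hQn.comap _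
  have hKL : K ≤ L := (QuotientGroup.ker_mk' K).symm.le.trans (MonoidHom.ker_le_comap _ _)
  have hLidx : L.index = Q.index :=
    Subgroup.index_comap_of_surjective _ (QuotientGroup.mk'_surjective K)
  have hrel : K.relIndex L = Nat.card Q := by
    rw [← card_map_mk', hL, Subgroup.map_comap_eq_self_of_surjective
      (QuotientGroup.mk'_surjective K)]
  set K0 := K1.map K.subtype with hK0
  have hK0K : K0 ≤ K := Subgroup.map_subtype_le K1
  have hcard0 : Nat.card K0 = Nat.card K1 :=
    Nat.card_congr (K1.equivMapOfInjective _ K.subtype_injective).toEquiv.symm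
  have hrel0 : K0.relIndex K = K1.index := by
    rw [Subgroup.relIndex, hK0, Subgroup.subgroupOf,
      Subgroup.comap_map_eq_self_of_injective K.subtype_injective]
  haveI hK0n : K0.Normal := ⟨fun x hx g => by
    obtain ⟨y, hy, rfl⟩ := hx
    have hy' : ∀ p : ℕ, p.Prime → p ∣ orderOf y → p ∈ π := fun p hp hd =>
      hK1.1 p hp (hd.trans (by rw [← Subgroup.orderOf_mk y hy]; exact orderOf_dvd_natCard _))
    haveI := hK1n
    exact ⟨⟨_, hKn.conj_mem y y.2 g⟩, mem_of_normal_of_piCompl K1 hK1.2 fun p hp hd => hy' p hp (by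
      rw [← Subgroup.orderOf_coe] at hd ⊢
      exact (MulEquiv.orderOf_eq (MulAut.conj g) (y : G)) ▸ hd), rfl⟩⟩
  -- a complement of `K0` in `K` and its normalizer
  obtain ⟨C0, hC0⟩ := Subgroup.exists_right_complement'_of_coprime (N := K1)
    (piHall_coprime hK1)
  set C := C0.map K.subtype with hC
  have hCK : C ≤ K := Subgroup.map_subtype_le C0
  have hcC : Nat.card C = K1.index := by
    rw [hC0.symm.index_eq_card]
    exact Nat.card_congr (C0.equivMapOfInjective _ K.subtype_injective).toEquiv.symm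
  have hsup0 : K0 ⊔ C = K := by
    rw [hK0, hC, ← Subgroup.map_sup, hC0.sup_eq_top, ← MonoidHom.range_eq_map,
      Subgroup.range_subtype]
  have hCπ : ∀ p : ℕ, p.Prime → p ∣ Nat.card C → p ∉ π := fun p hp hd hπ =>
    hK1.2 p hp hπ (hcC ▸ hd)
  set M := Subgroup.normalizer (C : Set G) with hM
  have hfrat : K0 ⊔ M = ⊤ := sup_normalizer_eq_top_of_conj fun g => by
    have hg : MulAut.conj g • C ≤ K := by
      rw [conj_smul_le_iff]
      exact fun x hx => hKn.conj_mem x (hCK hx) g
    obtain ⟨a, ha, hle⟩ := sz_conj_le (N := K0) (H := C) (U := MulAut.conj g • C)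
      Subgroup.le_normalizer_of_normal (by rwa [hsup0])
      (coprime_of_pi (fun p hp hd => hK1.1 p hp (hcard0 ▸ hd))
        (fun p hp hπ hd => hCπ p hp hd hπ))
      (by
        rw [card_conj_smul]
        exact coprime_of_pi (fun p hp hd => hK1.1 p hp (hcard0 ▸ hd))
          (fun p hp hπ hd => hCπ p hp hd hπ))
      (by
        by_cases h2 : 2 ∈ π
        · refine Or.inr (hFT _ (Nat.not_even_iff_odd.mp fun he => ?_))
          rw [card_conj_smul] at he
          exact hCπ 2 Nat.prime_two (even_iff_two_dvd.mp he) h2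
        · refine Or.inl (hFT _ (Nat.not_even_iff_odd.mp fun he => ?_))
          exact h2 (hK1.1 2 Nat.prime_two (hcard0 ▸ even_iff_two_dvd.mp he)))
    have heq := Subgroup.eq_of_le_of_card_ge hle (by simp [card_conj_smul])
    refine ⟨a⁻¹, K0.inv_mem ha, ?_⟩
    conv_lhs => rw [← heq]
    rw [← mul_smul, ← map_mul, inv_mul_cancel, map_one, one_smul]
  -- a Hall π-subgroup of `N_L(C)`
  set U := M ⊓ L with hU
  have hLsep : PiSep π L := piSep_of_chain (K0.subgroupOf L) (K.subgroupOf L)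
    (Subgroup.comap_mono hK0K)
    (fun q hq hd => hK1.1 q hq (by
      rwa [Nat.card_congr (Subgroup.subgroupOfEquivOfLe (hK0K.trans hKL)).toEquiv, hcard0] at hd))
    (fun q hq hd hπ => hK1.2 q hq hπ (by
      rwa [Subgroup.relIndex_subgroupOf hKL, hrel0] at hd))
    (fun q hq hd => hQ.1 q hq (by rwa [← Subgroup.relIndex, hrel] at hd))
  obtain ⟨D0, hD0, -⟩ := hallD_of_piSep hFT (hLsep.subgroup (U.subgroupOf L))
  set D := (D0.map (U.subgroupOf L).subtype).map L.subtype with hD
  have hDU : D ≤ U := by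
    refine (Subgroup.map_mono (Subgroup.map_subtype_le D0)).trans ?_
    rw [Subgroup.subgroupOf_map_subtype]
    exact inf_le_left
  have hcardD : Nat.card D = Nat.card D0 := by
    rw [hD, ← Nat.card_congr ((D0.map _).equivMapOfInjective _ L.subtype_injective).toEquiv,
      ← Nat.card_congr (D0.equivMapOfInjective _ (Subgroup.subtype_injective _)).toEquiv]
  have hDπ : Cfsg.IsPiSubgroup π D := fun p hp hd => hD0.1 p hp (hcardD ▸ hd)
  have hidxD : ∀ p : ℕ, p.Prime → p ∈ π → ¬ p ∣ D.relIndex U := by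
    intro p hp hπ hd
    refine hD0.2 p hp hπ ?_
    have e := Subgroup.relIndex_map_map_of_injective (D0.map (U.subgroupOf L).subtype)
      (U.subgroupOf L) L.subtype_injective
    rw [← hD, Subgroup.subgroupOf_map_subtype, inf_eq_left.mpr (inf_le_right : U ≤ L)] at e
    rw [e] at hd
    have e2 : (D0.map (U.subgroupOf L).subtype).relIndex (U.subgroupOf L) = D0.index :=
      congrArg Subgroup.index
        (Subgroup.comap_map_eq_self_of_injective (Subgroup.subtype_injective _) D0)
    rwa [e2] at hd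
  -- `K ⊔ D = L`
  have hKD : K ⊔ D = L := by
    refine le_antisymm (sup_le hKL (hDU.trans inf_le_right)) ?_
    have h1 : L ≤ K ⊔ U := fun x hx => by
      have hx' : x ∈ K0 ⊔ M := hfrat ▸ Subgroup.mem_top x
      obtain ⟨k, hk, m, hm, rfl⟩ := Subgroup.mem_sup_of_normal_left.mp hx'
      exact Subgroup.mul_mem_sup (hK0K hk)
        ⟨hm, (Subgroup.mul_mem_cancel_left _ (hKL (hK0K hk))).mp hx⟩
    have h2 : D.map (QuotientGroup.mk' K) = Q := by
      have hUQ : U.map (QuotientGroup.mk' K) = Q := by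
        refine le_antisymm (Subgroup.map_le_iff_le_comap.mpr inf_le_right) ?_
        rw [← Subgroup.map_comap_eq_self_of_surjective (QuotientGroup.mk'_surjective K) Q, ← hL]
        refine (Subgroup.map_mono h1).trans (le_of_eq ?_)
        rw [Subgroup.map_sup, QuotientGroup.map_mk'_self, bot_sup_eq]
      refine le_antisymm ((Subgroup.map_mono hDU).trans hUQ.le) (Subgroup.relIndex_eq_one.mp ?_)
      refine Nat.eq_one_of_dvd_coprimes (coprime_of_pi hQ.1 hidxD)
        (Subgroup.relIndex_dvd_card _ _) ?_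
      conv_lhs => rw [← hUQ]
      exact relIndex_map_dvd _ D U
    rw [hL, ← h2, Subgroup.comap_map_eq, QuotientGroup.ker_mk', sup_comm]
  have hcomm : C ≤ Subgroup.centralizer (D : Set G) := Subgroup.le_centralizer_iff.mp fun x hx =>
    hhom.mem_centralizer hCπ (hDU hx).1 fun p hp hd => hDπ p hp (hd.trans (by
      rw [← Subgroup.orderOf_mk x hx]; exact orderOf_dvd_natCard _))
  -- the Hall subgroup
  set R := K0 ⊔ D with hR
  have hRL : R ≤ L := sup_le (hK0K.trans hKL) (hDU.trans inf_le_right)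
  have hCR : C ≤ Subgroup.normalizer (R : Set G) := fun c hc => by
    rw [Subgroup.mem_normalizer_iff]
    have : ∀ g ∈ C, ∀ x ∈ R, g * x * g⁻¹ ∈ R := by
      intro g hg x hx
      obtain ⟨k, hk, d, hd, rfl⟩ := Subgroup.mem_sup_of_normal_left.mp hx
      have e : g * d * g⁻¹ = d := by
        rw [mul_inv_eq_iff_eq_mul]
        exact (Subgroup.mem_centralizer_iff.mp (hcomm hg) d hd).symm
      rw [show g * (k * d) * g⁻¹ = (g * k * g⁻¹) * (g * d * g⁻¹) by group, e]
      exact Subgroup.mul_mem_sup (hK0n.conj_mem k hk g) hd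
    intro x
    refine ⟨this c hc x, fun h => ?_⟩
    have := this c⁻¹ (C.inv_mem hc) _ h
    rwa [show c⁻¹ * (c * x * c⁻¹) * c⁻¹⁻¹ = x by group] at this
  have hLN : L ≤ Subgroup.normalizer (R : Set G) := by
    rw [← hKD, ← hsup0]
    exact sup_le (sup_le (le_sup_left.trans Subgroup.le_normalizer) hCR)
      (le_sup_right.trans Subgroup.le_normalizer)
  haveI : (R.subgroupOf L).Normal :=
    (Subgroup.normal_subgroupOf_iff_le_normalizer hRL).mpr hLN
  have hRπ : ∀ p : ℕ, p.Prime → p ∣ Nat.card R → p ∈ π := fun p hp hd =>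
    (hp.dvd_mul.mp (hd.trans (by
      rw [hR, sup_comm]
      exact card_sup_dvd Subgroup.le_normalizer_of_normal))).elim (hDπ p hp)
      (fun h => hK1.1 p hp (hcard0 ▸ h))
  have hLR : R.relIndex L ∣ Nat.card C := by
    have e : R.subgroupOf L ⊔ C.subgroupOf L = ⊤ := by
      rw [← Subgroup.subgroupOf_sup hRL (hCK.trans hKL), Subgroup.subgroupOf_eq_top, ← hKD,
        ← hsup0]
      exact sup_le (sup_le (le_sup_left.trans le_sup_left) le_sup_right)
        (le_sup_right.trans le_sup_left)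
    have h1 : (R.subgroupOf L).relIndex (C.subgroupOf L) = (R.subgroupOf L).index := by
      rw [← Subgroup.relIndex_top_right, ← e, sup_comm, Subgroup.relIndex_sup_right]
    rw [Subgroup.relIndex, ← h1,
      ← Nat.card_congr (Subgroup.subgroupOfEquivOfLe (hCK.trans hKL)).toEquiv]
    exact Subgroup.relIndex_dvd_card _ _
  refine ⟨R, fun x => ⟨fun hx p hp hd => hRπ p hp (hd.trans ?_), fun hx => ?_⟩⟩
  · rw [← Subgroup.orderOf_mk x hx]; exact orderOf_dvd_natCard _
  · have hxL : x ∈ L := by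
      refine mem_of_normal_of_piCompl L (fun p hp hπ hd => hQ.2 p hp hπ (hLidx ▸ hd)) hx
    exact Subgroup.mem_subgroupOf.mp (mem_of_normal_of_piCompl (R.subgroupOf L)
      (x := ⟨x, hxL⟩) (fun p hp hπ hd => hCπ p hp (hd.trans hLR) hπ)
      (fun p hp hd => hx p hp (by rwa [Subgroup.orderOf_mk] at hd)))

theorem piClosed_of_piSep (hFT : CfsgLib.FT.OddOrderThm.{u}) [Finite G] {π : Set ℕ}
    (hsep : PiSep π G) (hhom : PiHom π G) : PiClosed π G := by
  obtain ⟨n, H, h0, hn, hmono, hnormal, hstep⟩ := hsep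
  suffices h : ∀ i : Fin (n + 1), PiClosed π (H i) by
    have h' := h (Fin.last n)
    rw [hn] at h'
    obtain ⟨K, hK⟩ := h'
    refine ⟨K.map (Subgroup.topEquiv : (⊤ : Subgroup G) ≃* G).toMonoidHom, fun x => ?_⟩
    constructor
    · rintro ⟨y, hy, rfl⟩ p hp hd
      exact (hK y).mp hy p hp (by
        rwa [MulEquiv.toMonoidHom_eq_coe, MonoidHom.coe_coe, MulEquiv.orderOf_eq] at hd)
    · intro hx
      exact ⟨⟨x, Subgroup.mem_top x⟩,
        (hK _).mpr fun p hp hd => hx p hp (by rwa [Subgroup.orderOf_mk] at hd), rfl⟩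
  intro i
  induction i using Fin.induction with
  | zero =>
    refine ⟨⊤, fun x => ⟨fun _ p hp hd => absurd ?_ hp.ne_one, fun _ => Subgroup.mem_top _⟩⟩
    have hx : (x : G) = 1 := Subgroup.mem_bot.mp (h0 ▸ x.2)
    rw [show x = 1 from Subtype.ext hx, orderOf_one] at hd
    exact Nat.dvd_one.mp hd
  | succ i ih =>
    haveI := hnormal i.castSucc
    set A := (H i.castSucc).subgroupOf (H i.succ) with hA
    have hle : H i.castSucc ≤ H i.succ := hmono (Fin.castSucc_le_succ i)
    refine piClosed_of_extension hFT (hhom.of_injective (H i.succ).subtype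
      (Subgroup.subtype_injective _)) A ?_ ?_
    · obtain ⟨K, hK⟩ := ih
      let e := Subgroup.subgroupOfEquivOfLe hle
      refine ⟨K.comap e.toMonoidHom, fun x => ?_⟩
      rw [Subgroup.mem_comap, hK, MulEquiv.toMonoidHom_eq_coe, MonoidHom.coe_coe,
        MulEquiv.orderOf_eq]
    · rcases hstep i with h | h
      · exact ⟨⊤, fun x => ⟨fun _ p hp hd => h p hp (hd.trans (orderOf_dvd_natCard x)),
          fun _ => Subgroup.mem_top _⟩⟩
      · refine ⟨⊥, fun x => ⟨fun hx p hp hd => absurd ?_ hp.ne_one, fun hx => ?_⟩⟩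
        · rw [Subgroup.mem_bot.mp hx, orderOf_one] at hd
          exact Nat.dvd_one.mp hd
        · rw [Subgroup.mem_bot, ← orderOf_eq_one_iff]
          by_contra hne
          obtain ⟨p, hp, hd⟩ := Nat.exists_prime_and_dvd hne
          exact h p hp (hd.trans (orderOf_dvd_natCard x)) (hx p hp hd)

theorem piClosed_iff (hFT : CfsgLib.FT.OddOrderThm.{u}) [Finite G] {π : Set ℕ} :
    PiClosed π G ↔ PiSep π G ∧ PiHom π G :=
  ⟨fun h => ⟨h.piSep, h.piHom⟩, fun h => piClosed_of_piSep hFT h.1 h.2⟩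

end CfsgLib.FTCons
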