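import Mathlib
import Cfsg.Agent.Lib.FTCons.NilpotentMaximalClassTwo
import Cfsg.Agent.Lib.Transfer.CentralTransfer
import Cfsg.Agent.Lib.Coprime.Action2

/-!
A group all of whose non-abelian subgroups are self-normalizing is solvable or simple.
-/

set_option autoImplicit false

open Subgroup
open scoped commutatorElement

namespace CfsgLib.FTCons.SelfNorm

open CfsgLib.FTCons.ClassTwo

universe u

/-- Every non-abelian subgroup is self-normalizing. -/
def Hyp (G : Type u) [Group G] : Prop :=
  ∀ H : Subgroup G, ¬ IsMulCommutative H → normalizer (H : Set G) = H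

variable {G : Type u} [Group G]

theorem Hyp.subgroup (h : Hyp G) (U : Subgroup G) : Hyp U := by
  intro H hH
  refine le_antisymm (fun x hx => ?_) le_normalizer
  have hH' : ¬ IsMulCommutative (H.map U.subtype) := fun hc => hH ⟨⟨fun a b => by
    have := hc.is_comm.comm ⟨U.subtype a, ⟨a, a.2, rfl⟩⟩ ⟨U.subtype b, ⟨b, b.2, rfl⟩⟩
    exact Subtype.ext (U.subtype_injective (congrArg Subtype.val this))⟩⟩
  have h1 := le_normalizer_map U.subtype ⟨x, hx, rfl⟩
  rw [h _ hH'] at h1
  obtain ⟨y, hy, e⟩ := h1
  rwa [← U.subtype_injective e]

theorem Hyp.commutative_of_normal (h : Hyp G) {N : Subgroup G} [N.Normal] (hN : N ≠ ⊤) :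
    IsMulCommutative N := by
  by_contra hc
  exact hN (by rw [← h N hc, normalizer_eq_top_iff.mpr inferInstance])

theorem isSolvable_of_isMulCommutative {H : Subgroup G} (hc : IsMulCommutative H) :
    Group.IsSolvable H :=
  Group.isSolvable_of_comm fun a b => hc.is_comm.comm a b

theorem Hyp.solvable_or_simple_aux (n : ℕ) : ∀ {G : Type u} [Group G] [Finite G],
    Nat.card G ≤ n → Hyp G → Group.IsSolvable G ∨ IsSimpleGroup G := by
  induction n with
  | zero =>
    intro G _ _ hn
    exact absurd hn (Nat.not_le.mpr Nat.card_pos)
  | succ n ih =>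
    intro G _ _ hn h
    refine or_iff_not_imp_left.mpr fun hns => ?_
    haveI : Nontrivial G := by
      by_contra hnt
      rw [not_nontrivial_iff_subsingleton] at hnt
      exact hns inferInstance
    have hperf : commutator G = ⊤ := by
      by_contra hne
      haveI := isSolvable_of_isMulCommutative (h.commutative_of_normal hne)
      haveI : Group.IsSolvable (G ⧸ commutator G) :=
        Group.isSolvable_of_comm fun (a b : Abelianization G) => mul_comm a b
      exact hns ((Group.isSolvable_iff_subgroup_quotient (commutator G)).mpr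
        ⟨inferInstance, inferInstance⟩)
    refine ⟨fun N0 hN0 => or_iff_not_imp_left.mpr fun hN0b => by_contra fun hN0t => hns ?_⟩
    -- a maximal proper normal subgroup
    obtain ⟨N, hN0N, hN⟩ := Finite.exists_le_maximal
      (p := fun K : Subgroup G => K.Normal ∧ K ≠ ⊤) (a := N0) ⟨hN0, hN0t⟩
    obtain ⟨hNn, hNt⟩ := hN.prop
    haveI := hNn
    have hNb : N ≠ ⊥ := fun e => hN0b (le_bot_iff.mp (e ▸ hN0N))
    have hNab := h.commutative_of_normal hNt
    set f := QuotientGroup.mk' N with hf
    have hsurj : Function.Surjective f := QuotientGroup.mk'_surjective N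
    haveI := isSolvable_of_isMulCommutative hNab
    by_cases hcent : centralizer (N : Set G) = ⊤
    · -- `N` is central
      have hNZ : N ≤ center G := by
        intro z hz
        rw [mem_center_iff]
        intro g
        exact (mem_centralizer_iff.mp (hcent ▸ mem_top g) z hz).symm
      obtain ⟨p, hp, hpN⟩ := Nat.exists_prime_and_dvd (n := Nat.card N)
        (fun e => hNb (eq_bot_of_card_eq _ e))
      haveI := Fact.mk hp
      obtain ⟨P⟩ : Nonempty (Sylow p G) := inferInstance
      have hPne : (P : Subgroup G) ≠ ⊥ := fun e => by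
        have := P.not_dvd_index
        rw [e, index_bot] at this
        exact this (hpN.trans N.card_subgroup_dvd_card)
      have hPna : ¬ IsMulCommutative (P : Subgroup G) := by
        intro hc
        obtain ⟨z, hz⟩ := exists_prime_orderOf_dvd_card' p hpN
        have hzp : IsPGroup p (zpowers (z : G)) := IsPGroup.of_card (n := 1) (by
          rw [Nat.card_zpowers, Subgroup.orderOf_coe, hz, pow_one])
        obtain ⟨Q, hQ⟩ := hzp.exists_le_sylow
        obtain ⟨g, hg⟩ := MulAction.exists_smul_eq G Q P
        have hzP : (z : G) ∈ (P : Subgroup G) := by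
          have h1 : g * z * g⁻¹ ∈ (P : Subgroup G) := by
            rw [← hg]; exact ⟨z, hQ (mem_zpowers _), rfl⟩
          rwa [mem_center_iff.mp (hNZ z.2) g, mul_inv_cancel_right] at h1
        have h1 := CfsgLib.Transfer.inf_commutator_inf_center_eq_bot (P : Subgroup G) hc
          (CfsgLib.Coprime.piHall_coprime (π := {p}) (CfsgLib.Coprime.sylow_isPiHall P))
        have h2 : (z : G) ∈ (⊥ : Subgroup G) := by
          rw [← h1]
          exact ⟨⟨hzP, hperf ▸ mem_top _⟩, hNZ z.2⟩
        rw [mem_bot] at h2
        rw [← Subgroup.orderOf_coe, h2, orderOf_one] at hz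
        exact hp.ne_one hz.symm
      have hNP := h _ hPna
      -- proper subgroups of `P` are abelian
      have hsub : ∀ D : Subgroup G, D < (P : Subgroup G) → IsMulCommutative D := by
        intro D hD
        by_contra hc
        have h1 := CfsgLib.Transfer.lt_inf_normalizer P.2 hD
        rw [h D hc] at h1
        exact h1.not_ge inf_le_right
      -- class two
      have hclass : ∀ a ∈ (P : Subgroup G), ∀ b ∈ (P : Subgroup G),
          a * b * a⁻¹ * b⁻¹ ∈ centralizer ((P : Subgroup G) : Set G) := by
        haveI := P.2.isNilpotent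
        by_contra hcon
        push Not at hcon
        obtain ⟨a, ha, b, hb, hab⟩ := hcon
        -- two distinct maximal subgroups of `P` both contain the commutators and are abelian
        have hgen : ∀ M : Subgroup P, IsCoatom M →
            ∀ x : P, x ∈ M → Commute x ⁅(⟨a, ha⟩ : P), ⟨b, hb⟩⁆ := by
          intro M hM x hx
          have hlt : M.map (P : Subgroup G).subtype < (P : Subgroup G) := by
            refine lt_of_le_of_ne (map_subtype_le M) fun e => hM.1 ?_
            rw [← comap_map_eq_self_of_injective (P : Subgroup G).subtype_injective M, e]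
            exact subgroupOf_self _
          have hc := hsub _ hlt
          have hmem : ⁅(⟨a, ha⟩ : P), ⟨b, hb⟩⁆ ∈ M :=
            CfsgLib.Coprime.commutator_le_coatom hM (commutator_mem_commutator (mem_top _)
              (mem_top _))
          refine (P : Subgroup G).subtype_injective ?_
          rw [map_mul, map_mul]
          exact congrArg Subtype.val (hc.is_comm.comm ⟨_, ⟨x, hx, rfl⟩⟩ ⟨_, ⟨_, hmem, rfl⟩⟩)
        apply hab
        rw [mem_centralizer_iff]
        intro r hr
        by_cases hzr : zpowers (⟨r, hr⟩ : P) = ⊤
        · exfalso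
          apply hPna
          refine ⟨⟨fun x y => ?_⟩⟩
          obtain ⟨i, rfl⟩ := mem_zpowers_iff.mp (hzr ▸ mem_top x : x ∈ zpowers (⟨r, hr⟩ : P))
          obtain ⟨j, rfl⟩ := mem_zpowers_iff.mp (hzr ▸ mem_top y : y ∈ zpowers (⟨r, hr⟩ : P))
          exact zpow_mul_comm _ i j
        · obtain ⟨M, hM, hle⟩ := (eq_top_or_exists_le_coatom _).resolve_left hzr
          exact congrArg Subtype.val (hgen M hM _ (hle (mem_zpowers _))).eq
      have hnc := hasNormalPComplement_of_local P ?_ ?_
      · obtain ⟨P0, K, hKn, hK⟩ := hnc
        obtain ⟨k, hk⟩ := IsPGroup.iff_card.mp P0.2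
        haveI := hKn
        haveI : Group.IsNilpotent (G ⧸ K) := IsPGroup.isNilpotent (p := p)
          (IsPGroup.of_card (n := k) (by
            rw [← Subgroup.index_eq_card, hK.symm.index_eq_card, hk]))
        haveI : Nontrivial (G ⧸ K) := by
          refine Finite.one_lt_card_iff_nontrivial.mp ?_
          rw [← Subgroup.index_eq_card, hK.symm.index_eq_card]
          refine (one_lt_card_iff_ne_bot _).mpr fun e => ?_
          have := P0.not_dvd_index
          rw [e, index_bot] at this
          exact this (hpN.trans N.card_subgroup_dvd_card)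
        refine absurd ?_ (Group.IsSolvable.commutator_lt_top_of_nontrivial (G ⧸ K)).ne
        rw [_root_.commutator_def, ← map_top_of_surjective _ (QuotientGroup.mk'_surjective K),
          ← Subgroup.map_commutator, ← _root_.commutator_def, hperf]
      · -- local control
        intro D hD hDne hPD x hx
        by_cases hDP : D = (P : Subgroup G)
        · subst hDP
          rw [hNP] at hx
          exact ⟨x, hx, fun a _ => rfl⟩
        have hDlt : D < (P : Subgroup G) := lt_of_le_of_ne hD hDP
        have hDab := hsub D hDlt
        set H := normalizer (D : Set G) with hH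
        by_cases hHt : H = ⊤
        · -- `D` is normal, hence central
          haveI : D.Normal := normalizer_eq_top_iff.mp hHt
          have hDt : D ≠ ⊤ := fun e => hDlt.not_ge (e ▸ le_top)
          have hsup : D ⊔ N ≠ ⊤ := by
            intro e
            haveI := isSolvable_of_isMulCommutative hDab
            haveI : Group.IsSolvable (D.map f) := CfsgLib.Coprime.isSolvable_map _ inferInstance
            have e1 : D.map f = ⊤ := by
              have := congrArg (Subgroup.map f) e
              rwa [Subgroup.map_sup, QuotientGroup.map_mk'_self, sup_bot_eq,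
                map_top_of_surjective f hsurj] at this
            haveI : Group.IsSolvable (⊤ : Subgroup (G ⧸ N)) := e1 ▸ ‹_›
            haveI : Group.IsSolvable (G ⧸ N) := Group.isSolvable_of_surjective
              (f := (topEquiv : (⊤ : Subgroup (G ⧸ N)) ≃* (G ⧸ N)).toMonoidHom) (MulEquiv.surjective _)
            exact hns ((Group.isSolvable_iff_subgroup_quotient N).mpr
              ⟨inferInstance, inferInstance⟩)
          have hDN : D ≤ N := le_sup_left.trans (hN.le_of_ge ⟨inferInstance, hsup⟩ le_sup_right)
          exact ⟨1, one_mem _, fun a ha => by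
            rw [mul_assoc, ← (mem_center_iff.mp (hNZ (hDN ha)) x)]; group⟩
        have hlt : Nat.card H < Nat.card G :=
          lt_of_le_of_ne H.card_le_card_group fun e => hHt (H.card_eq_iff_eq_top.mp e)
        have hyp := h.subgroup H
        have hDH : D ≤ H := le_normalizer
        haveI : (D.subgroupOf H).Normal := normal_subgroupOf_of_le_normalizer le_rfl
        have hsol : Group.IsSolvable H := (ih (Nat.lt_succ_iff.mp (hlt.trans_le hn)) hyp).elim id
          fun hs => by
            rcases hs.eq_bot_or_eq_top_of_normal _ ‹(D.subgroupOf H).Normal› with e | e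
            · exact absurd (by rwa [subgroupOf_eq_bot, disjoint_iff, inf_eq_left.mpr hDH] at e) hDne
            · exact absurd ((subgroupOf_eq_top.mp e).trans' hPD) hDlt.not_ge
        set PH : Sylow p H := P.subtype hPD with hPH
        have hPHna : ¬ IsMulCommutative (PH : Subgroup H) := fun hc => hPna ⟨⟨fun a b => by
          have := hc.is_comm.comm ⟨⟨a, hPD a.2⟩, a.2⟩ ⟨⟨b, hPD b.2⟩, b.2⟩
          exact Subtype.ext (congrArg (fun w : (PH : Subgroup H) => ((w : H) : G)) this)⟩⟩
        haveI := hsol
        haveI : Nontrivial H := by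
          by_contra hnt
          rw [not_nontrivial_iff_subsingleton] at hnt
          exact hPHna inferInstance
        set A := commutator H with hA
        have hAab : IsMulCommutative A :=
          hyp.commutative_of_normal (Group.IsSolvable.commutator_lt_top_of_nontrivial H).ne
        have hAP : (PH : Subgroup H) ⊔ A = ⊤ := by
          have hna : ¬ IsMulCommutative ((PH : Subgroup H) ⊔ A : Subgroup H) := fun hc =>
            hPHna ⟨⟨fun a b => Subtype.ext (congrArg Subtype.val
              (hc.is_comm.comm ⟨(a : H), mem_sup_left a.2⟩ ⟨(b : H), mem_sup_left b.2⟩) :)⟩⟩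
          haveI : ((PH : Subgroup H) ⊔ A).Normal := Normal.of_commutator_le _ le_sup_right
          rw [← hyp _ hna, normalizer_eq_top_iff.mpr inferInstance]
        -- the `p'`-part of `A`
        let Q : Subgroup H :=
          { carrier := {y | y ∈ A ∧ (orderOf y).Coprime p}
            one_mem' := ⟨one_mem A, by rw [orderOf_one]; exact Nat.coprime_one_left p⟩
            mul_mem' := fun {a b} ha hb => ⟨mul_mem ha.1 hb.1, by
              have hc : Commute a b :=
                congrArg Subtype.val (hAab.is_comm.comm ⟨a, ha.1⟩ ⟨b, hb.1⟩)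
              exact Nat.Coprime.coprime_dvd_left
                (hc.orderOf_mul_dvd_lcm.trans (Nat.lcm_dvd_mul _ _)) (ha.2.mul_left hb.2)⟩
            inv_mem' := fun {a} ha => ⟨inv_mem ha.1, by rw [orderOf_inv]; exact ha.2⟩ }
        haveI hQn : Q.Normal := ⟨fun q hq y => ⟨(inferInstance : A.Normal).conj_mem q hq.1 y, by
          rw [← MulAut.conj_apply, MulEquiv.orderOf_eq]; exact hq.2⟩⟩
        have hAle : A ≤ (PH : Subgroup H) ⊔ Q := by
          rw [← relIndex_eq_one]
          by_contra hne
          obtain ⟨q, hq, hd⟩ := Nat.exists_prime_and_dvd hne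
          haveI := Fact.mk hq
          by_cases hqp : q = p
          · subst hqp
            have := CfsgLib.Transfer.not_dvd_index_subgroupOf_of_normal PH A
            exact this (hd.trans (relIndex_dvd_of_le_left A le_sup_left))
          · obtain ⟨R⟩ : Nonempty (Sylow q A) := inferInstance
            refine R.not_dvd_index (hd.trans (index_dvd_of_le fun r hr => mem_sup_right ⟨r.2, ?_⟩))
            obtain ⟨j, hj⟩ := IsPGroup.iff_orderOf.1 R.2 ⟨r, hr⟩
            rw [orderOf_injective A.subtype A.subtype_injective, ← Subgroup.orderOf_mk r hr, hj]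
            exact ((Nat.coprime_primes hq hp).mpr hqp).pow_left j
        have hHeq : (PH : Subgroup H) ⊔ Q = ⊤ :=
          top_le_iff.mp (hAP ▸ sup_le le_sup_left hAle)
        have hQD : ∀ q ∈ Q, ∀ d : G, d ∈ D → (q : G) * d = d * q := by
          intro q hq d hd
          let d' : H := ⟨d, hDH hd⟩
          have h1 : q * d' * q⁻¹ * d'⁻¹ ∈ D.subgroupOf H ⊓ Q :=
            ⟨(D.subgroupOf H).mul_mem ((inferInstance : (D.subgroupOf H).Normal).conj_mem d'
              (show d' ∈ D.subgroupOf H from hd) q)
              ((D.subgroupOf H).inv_mem (show d' ∈ D.subgroupOf H from hd)),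
              by
                rw [show q * d' * q⁻¹ * d'⁻¹ = q * (d' * q⁻¹ * d'⁻¹) by group]
                exact mul_mem hq (hQn.conj_mem _ (inv_mem hq) d')⟩
          have h2 : q * d' * q⁻¹ * d'⁻¹ = 1 := by
            obtain ⟨hD1, -, hQ1⟩ := h1
            obtain ⟨j, hj⟩ := IsPGroup.iff_orderOf.1 ((P.2.to_le hD).comap_subtype (K := H))
              ⟨_, hD1⟩
            rw [← orderOf_eq_one_iff]
            exact Nat.eq_one_of_dvd_coprimes (hQ1.pow_right j) dvd_rfl
              (dvd_of_eq ((orderOf_injective (D.subgroupOf H).subtype (subtype_injective _)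
                ⟨_, hD1⟩).trans hj))
          rw [mul_inv_eq_one, mul_inv_eq_iff_eq_mul] at h2
          exact congrArg Subtype.val h2
        obtain ⟨k, hk, q, hq, hkq⟩ := mem_sup_of_normal_right.mp (hHeq ▸ mem_top (⟨x, hx⟩ : H))
        refine ⟨(k : G), hk, fun a ha => ?_⟩
        have hxe : x = (k : G) * (q : G) := by rw [← coe_mul, hkq]
        have hak : (k : G)⁻¹ * a * k ∈ D :=
          (mem_set_normalizer_iff''.mp k.2 a).mp ha
        calc x⁻¹ * a * x = (q : G)⁻¹ * ((k : G)⁻¹ * a * k * q) := by rw [hxe]; group
          _ = (q : G)⁻¹ * (q * ((k : G)⁻¹ * a * k)) := by rw [hQD q hq _ hak]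
          _ = _ := by group
      · intro D hD hZ y hy
        have : ∀ y ∈ (P : Subgroup G), ∀ d ∈ D, y * d * y⁻¹ ∈ D := by
          intro y hy d hd
          have hc : y * d * y⁻¹ * d⁻¹ ∈
              (P : Subgroup G) ⊓ centralizer ((P : Subgroup G) : Set G) :=
            ⟨(P : Subgroup G).mul_mem ((P : Subgroup G).mul_mem ((P : Subgroup G).mul_mem hy (hD hd))
              ((P : Subgroup G).inv_mem hy)) ((P : Subgroup G).inv_mem (hD hd)),
              hclass y hy d (hD hd)⟩
          simpa [mul_assoc] using mul_mem (hZ hc) hd
        rw [mem_set_normalizer_iff]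
        refine fun d => ⟨this y hy d, fun hd => ?_⟩
        simpa [mul_assoc] using this y⁻¹ (inv_mem hy) _ hd
    · -- `N` is self-centralizing
      have hCN : centralizer (N : Set G) = N := by
        haveI : (centralizer (N : Set G)).Normal := inferInstance
        have hle : N ≤ centralizer (N : Set G) := fun a ha b hb =>
          congrArg Subtype.val (hNab.is_comm.comm ⟨b, hb⟩ ⟨a, ha⟩)
        exact le_antisymm (hN.le_of_ge ⟨inferInstance, hcent⟩ hle) hle
      have hself : ∀ K : Subgroup (G ⧸ N), K ≠ ⊥ → normalizer (K : Set (G ⧸ N)) = K := by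
        intro K hK
        have hna : ¬ IsMulCommutative (K.comap f) := by
          intro hc
          refine hK (le_bot_iff.mp fun z hz => ?_)
          obtain ⟨w, rfl⟩ := hsurj z
          rw [mem_bot]
          refine (QuotientGroup.eq_one_iff w).mpr (hCN ▸ fun b hb => ?_)
          exact congrArg Subtype.val (hc.is_comm.comm
            ⟨b, show f b ∈ K by rw [show f b = 1 from (QuotientGroup.eq_one_iff b).mpr hb]
                                exact one_mem K⟩ ⟨w, hz⟩)
        refine le_antisymm (fun z hz => ?_) le_normalizer
        obtain ⟨w, rfl⟩ := hsurj z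
        have h1 : w ∈ normalizer ((K.comap f : Subgroup G) : Set G) := by
          rw [mem_set_normalizer_iff] at hz ⊢
          intro y
          simpa using hz (f y)
        rwa [h _ hna] at h1
      have hprime : ∀ (q : ℕ) [Fact q.Prime] (S : Sylow q (G ⧸ N)), IsCyclic S := by
        intro q _ S
        by_cases hS : (S : Subgroup (G ⧸ N)) = ⊥
        · haveI : Subsingleton (S : Subgroup (G ⧸ N)) := by rw [hS]; infer_instance
          exact isCyclic_of_subsingleton
        haveI : Nontrivial (S : Subgroup (G ⧸ N)) := (nontrivial_iff_ne_bot _).mpr hS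
        haveI := S.2.center_nontrivial
        obtain ⟨z, hz⟩ := exists_ne (1 : center (S : Subgroup (G ⧸ N)))
        have hz1 : ((z : (S : Subgroup (G ⧸ N))) : G ⧸ N) ≠ 1 := fun e =>
          hz (Subtype.ext (Subtype.ext e))
        have hle : (S : Subgroup (G ⧸ N)) ≤
            zpowers ((z : (S : Subgroup (G ⧸ N))) : G ⧸ N) := by
          rw [← hself _ (fun e => hz1 (zpowers_eq_bot.mp e))]
          refine le_trans ?_ (centralizer_le_normalizer _)
          intro s hs
          rw [mem_centralizer_iff]
          rintro _ ⟨i, rfl⟩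
          have hc : Commute ((z : (S : Subgroup (G ⧸ N))) : G ⧸ N) s :=
            congrArg Subtype.val (mem_center_iff.mp z.2 ⟨s, hs⟩).symm
          exact (hc.zpow_left i).eq
        exact isCyclic_of_le hle
      haveI : IsZGroup (G ⧸ N) := ⟨fun q hq S => @hprime q ⟨hq⟩ S⟩
      exact (Group.isSolvable_iff_subgroup_quotient N).mpr ⟨inferInstance, inferInstance⟩

/-- All non-abelian subgroups self-normalizing: solvable or simple. -/
theorem Hyp.solvable_or_simple [Finite G] (h : Hyp G) : Group.IsSolvable G ∨ IsSimpleGroup G :=
  Hyp.solvable_or_simple_aux _ le_rfl h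

end CfsgLib.FTCons.SelfNorm
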