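import Mathlib
import Cfsg.Agent.Lib.KInf.Control
import Cfsg.Agent.Lib.KInf.Functor
import Cfsg.Agent.Lib.Chars.Burnside
import Cfsg.Agent.Lib.Coprime.Basic

/-!
A self-normalizing Sylow `p`-subgroup, `p ≥ 5`, gives a quotient of order `p`.
-/

set_option autoImplicit false

open Subgroup Cfsg
open scoped commutatorElement

namespace CfsgLib.FTCons.SelfNormalizing

universe u

theorem not_le_commutator_aux {p : ℕ} [Fact p.Prime] (hp : 5 ≤ p) (n : ℕ) :
    ∀ {G : Type u} [Group G] [Finite G], Nat.card G ≤ n → ∀ P : Sylow p G,
      (P : Subgroup G) ≠ ⊥ → normalizer ((P : Subgroup G) : Set G) = P →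
        ¬ (P : Subgroup G) ≤ commutator G := by
  induction n with
  | zero =>
    intro G _ _ hn
    exact absurd hn (Nat.not_le.mpr Nat.card_pos)
  | succ n ih =>
    intro G _ _ hn P hPne hPN hle
    have hW := CfsgLib.Techniques.isConjugacyFunctor_induced (G := G)
      (CfsgLib.KInf.isCharPFunctor_kInfLower.{u} p)
    set W : Subgroup G := inducedFunctor Cfsg.kInfLower.{u} (P : Subgroup G) with hWdef
    obtain ⟨hWP, hWne, -⟩ := hW (P : Subgroup G) P.2
    by_cases hnorm : normalizer (W : Set G) = ⊤
    · haveI : W.Normal := normalizer_eq_top_iff.mp hnorm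
      set f := QuotientGroup.mk' W with hf
      have hsurj : Function.Surjective f := QuotientGroup.mk'_surjective W
      set Pb : Sylow p (G ⧸ W) := P.mapSurjective (f := f) hsurj with hPb
      have hcoe : (Pb : Subgroup (G ⧸ W)) = (P : Subgroup G).map f := rfl
      have hcm : ((P : Subgroup G).map f).comap f = P :=
        comap_map_eq_self (by rw [QuotientGroup.ker_mk']; exact hWP)
      by_cases hPb1 : (Pb : Subgroup (G ⧸ W)) = ⊥
      · have hPW : (P : Subgroup G) ≤ W := by
          rw [hcoe, Subgroup.map_eq_bot_iff, QuotientGroup.ker_mk'] at hPb1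
          exact hPb1
        have htop : (P : Subgroup G) = ⊤ := by
          rw [← hPN, le_antisymm hPW hWP, hnorm]
        haveI : Group.IsNilpotent (⊤ : Subgroup G) := htop ▸ P.2.isNilpotent
        haveI : Group.IsNilpotent G := Group.nilpotent_of_surjective
          (topEquiv : (⊤ : Subgroup G) ≃* G).toMonoidHom (MulEquiv.surjective _)
        haveI : Nontrivial G := by
          by_contra h
          rw [not_nontrivial_iff_subsingleton] at h
          exact hPne (Subsingleton.elim _ _)
        exact (Group.IsSolvable.commutator_lt_top_of_nontrivial G).ne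
          (top_le_iff.mp (htop ▸ hle))
      · refine ih (Nat.lt_succ_iff.mp
          ((CfsgLib.Coprime.card_quotient_lt (hWne hPne)).trans_le hn)) Pb hPb1 ?_ ?_
        · refine le_antisymm (fun g hg => ?_) le_normalizer
          obtain ⟨g, rfl⟩ := hsurj g
          have h1 : g ∈ normalizer (((Pb : Subgroup (G ⧸ W)).comap f : Subgroup G) : Set G) := by
            rw [mem_set_normalizer_iff] at hg ⊢
            intro x
            simpa using hg (f x)
          rw [hcoe, hcm, hPN] at h1
          exact ⟨g, h1, rfl⟩
        · rw [hcoe]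
          refine (map_mono hle).trans ?_
          rw [_root_.commutator_def, _root_.commutator_def, Subgroup.map_commutator]
          exact commutator_mono le_top le_top
    · set N : Subgroup G := normalizer (W : Set G) with hN
      have hPle : (P : Subgroup G) ≤ N := by
        intro x hx
        rw [hN, mem_normalizer_iff_map_conj_eq]
        have h1 := (hW (P : Subgroup G) P.2).2.2 x
        rw [MulEquiv.toMonoidHom_eq_coe] at h1
        rw [mem_normalizer_iff_map_conj_eq.mp (le_normalizer hx)] at h1
        exact h1.symm
      have hlt : Nat.card N < Nat.card G :=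
        lt_of_le_of_ne N.card_le_card_group fun e => hnorm (N.card_eq_iff_eq_top.mp e)
      refine ih (Nat.lt_succ_iff.mp (hlt.trans_le hn)) (P.subtype hPle) ?_ ?_ ?_
      · intro h
        rw [Sylow.coe_subtype, subgroupOf_eq_bot, disjoint_iff, inf_eq_left.mpr hPle] at h
        exact hPne h
      · refine le_antisymm (fun x hx => ?_) le_normalizer
        have h1 := le_normalizer_map N.subtype ⟨x, hx, rfl⟩
        rw [Sylow.coe_subtype, map_subgroupOf_eq_of_le hPle, hPN] at h1
        exact h1
      · have htr := CfsgLib.KInf.transfer_eq_of_controls hW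
          (CfsgLib.KInf.kInfLower_controlsTransfer hp) P
        rw [inf_eq_left.mpr hle] at htr
        have h2 : (P : Subgroup G) ≤ ⁅N, N⁆ := inf_eq_left.mp htr.symm
        rw [Sylow.coe_subtype, ← map_subtype_le_map_subtype, map_subgroupOf_eq_of_le hPle,
          map_subtype_commutator]
        exact h2

/-- A group with all Sylow subgroups self-normalizing is not non-abelian simple. -/
theorem not_simple_of_selfNormalizing {G : Type u} [Group G] [Finite G]
    (h : ∀ p : ℕ, p.Prime → p ∣ Nat.card G → ∀ P : Sylow p G,
      normalizer ((P : Subgroup G) : Set G) = P) :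
    ¬ (IsSimpleGroup G ∧ ¬ IsMulCommutative G) := by
  rintro ⟨hs, hnc⟩
  haveI := hs
  have hnc' : ¬ ∀ a b : G, a * b = b * a := fun hc => hnc ⟨⟨hc⟩⟩
  have h3 := CfsgLib.Chars.three_le_card_primeFactors_of_simple hnc'
  obtain ⟨p, hp, hp5⟩ : ∃ p ∈ (Nat.card G).primeFactors, 5 ≤ p := by
    by_contra hcon
    push Not at hcon
    have hsub : (Nat.card G).primeFactors ⊆ {2, 3} := fun q hq => by
      have hq' := Nat.prime_of_mem_primeFactors hq
      have := hcon q hq
      have h2 := hq'.two_le
      interval_cases q
      · simp
      · simp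
      · exact absurd hq' (by norm_num)
    have := (Finset.card_le_card hsub).trans Finset.card_le_two
    omega
  obtain ⟨hpp, hpd, -⟩ := Nat.mem_primeFactors.mp hp
  haveI := Fact.mk hpp
  obtain ⟨P⟩ : Nonempty (Sylow p G) := inferInstance
  refine not_le_commutator_aux hp5 _ le_rfl P (fun hb => ?_) (h p hpp hpd P) ?_
  · have := P.not_dvd_index
    rw [hb, index_bot] at this
    exact this hpd
  · rcases hs.eq_bot_or_eq_top_of_normal (commutator G) inferInstance with hc | hc
    · exact absurd (fun a b => by
        have : ⁅a, b⁆ ∈ commutator G := by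
          rw [_root_.commutator_def]; exact commutator_mem_commutator (mem_top a) (mem_top b)
        rw [hc, mem_bot, commutatorElement_eq_one_iff_mul_comm] at this
        exact this) hnc'
    · rw [hc]
      exact le_top

end CfsgLib.FTCons.SelfNormalizing
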