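import Mathlib
import Cfsg.Agent.S0225
import Cfsg.Agent.Lib.FT.Interface

/-!
Consequences of the odd order theorem for simple groups: even order and 2-rank at least two.
-/

set_option autoImplicit false

namespace CfsgLib.FTCons

universe u

open Cfsg

theorem isCyclic_of_isSimple_isSolvable {G : Type u} [Group G] [Finite G] [IsSimpleGroup G]
    (h : Group.IsSolvable G) : IsCyclic G := by
  letI : CommGroup G :=
    { (inferInstance : Group G) with mul_comm := IsSimpleGroup.comm_iff_isSolvable.mpr h }
  exact IsSimpleGroup.isCyclic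

theorem even_card_of_isSimple (hFT : CfsgLib.FT.OddOrderThm.{u}) {G : Type u} [Group G] [Finite G]
    [IsSimpleGroup G] (hG : ¬ IsCyclic G) : Even (Nat.card G) := by
  by_contra h
  exact hG (isCyclic_of_isSimple_isSolvable (hFT G (Nat.not_even_iff_odd.mp h)))

/-- A non-cyclic finite simple group contains a Klein four-group. -/
theorem exists_kleinFour_of_isSimple (hFT : CfsgLib.FT.OddOrderThm.{u}) {G : Type u} [Group G]
    [Finite G] [IsSimpleGroup G] (hG : ¬ IsCyclic G) : ∃ E : Subgroup G, IsKleinFour E := by
  by_contra h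
  push Not at h
  have heven := even_card_of_isSimple hFT hG
  obtain ⟨z, hz, N, hN, hodd, hcomm⟩ := Cfsg.Agent.S0225.result heven h
  rcases IsSimpleGroup.eq_bot_or_eq_top_of_normal N hN with rfl | rfl
  · have hzc : z ∈ Subgroup.center G := Subgroup.mem_center_iff.mpr fun g => by
      have := Subgroup.mem_bot.mp (hcomm g)
      rw [mul_inv_eq_one, mul_inv_eq_iff_eq_mul] at this
      exact this.symm
    have hz1 : z ≠ 1 := fun e => by rw [e, orderOf_one] at hz; omega
    rcases IsSimpleGroup.eq_bot_or_eq_top_of_normal (Subgroup.center G) inferInstance with hc | hc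
    · exact hz1 (Subgroup.mem_bot.mp (hc ▸ hzc))
    · refine hG (isCyclic_of_isSimple_isSolvable (isSolvable_of_comm fun a b => ?_))
      exact (Subgroup.mem_center_iff.mp (hc ▸ Subgroup.mem_top b) a)
  · rw [Subgroup.card_top] at hodd
    exact Nat.not_even_iff_odd.mpr hodd heven

end CfsgLib.FTCons
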