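import Cfsg.Agent.Lib.FTCons.StandardSubgroup
import Cfsg.Agent.Lib.Components.FStar
import Cfsg.Agent.Lib.Coprime.Action2

/-!
# A standard subgroup with a nontrivial commutator `[R, t] ≤ A`

Let `A` be standard, `t` an involution of `C(A)`, and suppose a `t`-invariant `2`-subgroup `R` of
`X = ⟨A^G⟩` has `1 ≠ [R, t] ≤ A`.  The involution `a = [r, t]` centralises `O(G)` by the four-group
`⟨t, a⟩`, so `A` centralises `O(G)`; `L`-balance in `G/O(G)` then shows that `X` is semisimple with
centre of odd order.
-/

set_option autoImplicit false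
set_option linter.style.haveILetI false
set_option linter.unusedSectionVars false

open scoped commutatorElement Pointwise

namespace CfsgLib.StandardSemisimple

open Cfsg Subgroup CfsgLib.Base CfsgLib.Components CfsgLib.LBalance

variable {G : Type*} [Group G] [Finite G]

/-- A subgroup of `A` normalised by `A` and not equal to it is central. -/
theorem inf_le_centralizer {A : Subgroup G} (hA : IsQuasisimple ↥A) {N : Subgroup G}
    (hN : A ≤ normalizer (N : Set G)) (h : ¬ A ≤ N) : A ⊓ N ≤ centralizer (A : Set G) := by
  haveI := normal_subgroupOf_of_le_normalizer (N := N) hN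
  rcases quasisimple_normal_eq_top_or_le_center hA (N.subgroupOf A) with h' | h'
  · exact absurd (subgroupOf_eq_top.1 h') h
  · intro x hx
    exact mem_centralizer_iff.2 fun b hb => congrArg Subtype.val
      (mem_center_iff.1 (h' (show (⟨x, hx.1⟩ : A) ∈ N.subgroupOf A from hx.2)) ⟨b, hb⟩)

/-- A cyclic group has at most one involution. -/
theorem eq_of_isCyclic {H : Type*} [Group H] [Finite H] [IsCyclic H] {x y : H} (hx : x * x = 1)
    (hx1 : x ≠ 1) (hy : y * y = 1) (hy1 : y ≠ 1) : x = y := by
  classical
  haveI := Fintype.ofFinite H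
  by_contra hne
  have h := IsCyclic.card_pow_eq_one_le (α := H) (n := 2) (by norm_num)
  have h3 : ({1, x, y} : Finset H) ⊆ Finset.univ.filter fun a => a ^ 2 = 1 := by
    intro z hz
    simp only [Finset.mem_insert, Finset.mem_singleton] at hz
    rcases hz with rfl | rfl | rfl <;> simp [sq, hx, hy]
  have := (Finset.card_le_card h3).trans h
  rw [Finset.card_insert_of_notMem (by simp [hx1.symm, hy1.symm]),
    Finset.card_insert_of_notMem (by simp [hne]), Finset.card_singleton] at this
  omega

/-- Commutators with a perfect subgroup that centralise it are trivial. -/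
theorem le_centralizer_of_commutator {A M : Subgroup G} (hA : ⁅A, A⁆ = A)
    (h : ⁅A, M⁆ ≤ centralizer (A : Set G)) : M ≤ centralizer (A : Set G) := by
  rw [← commutator_eq_bot_iff_le_centralizer, commutator_comm]
  exact commutator_eq_bot_of_perfect hA (commutator_eq_bot_iff_le_centralizer.2 h)

theorem semisimple_of_standard (A : Subgroup G) (hA : IsStandardSubgroup A)
    (hcyc : ∀ R : Sylow 2 ↥(centralizer (A : Set G)),
      IsCyclic ↥(R : Subgroup ↥(centralizer (A : Set G))))
    (t : G) (ht : orderOf t = 2) (htA : t ∈ centralizer (A : Set G))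
    (R : Subgroup G) (hRX : R ≤ normalClosure (A : Set G))
    (hc1 : ⁅R, zpowers t⁆ ≠ ⊥) (hc2 : ⁅R, zpowers t⁆ ≤ A) :
    layer ↥(normalClosure (A : Set G)) = ⊤ ∧
      Odd (Nat.card ↥(center ↥(normalClosure (A : Set G)))) := by
  classical
  haveI : Fact (Nat.Prime 2) := ⟨Nat.prime_two⟩
  have hq : IsQuasisimple ↥A := hA.1
  have hperf : ⁅A, A⁆ = A := isPerfect_iff.1 hq.1
  have ht2 : t * t = 1 := by rw [← sq, ← ht, pow_orderOf_eq_one]
  have htinv : t⁻¹ = t := inv_eq_of_mul_eq_one_right ht2
  have htt : 2 ∣ Nat.card (zpowers t) := by rw [Nat.card_zpowers, ht]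
  have hct : ∀ x ∈ A, Commute x t := fun x hx => mem_centralizer_iff.1 htA x hx
  set O := oddCore G with hO
  have hOodd : Odd (Nat.card O) := odd_card_oddCore G
  have hAnotO : ¬ A ≤ O := fun h => quasisimple_not_isSolvable hq
    (CfsgLib.FT.isSolvable_of_odd (hOodd.of_dvd_nat (card_dvd_of_le h)))
  have hAON : ∀ K : Subgroup G, K ≤ normalizer (O : Set G) := fun K => by
    rw [normalizer_eq_top_iff.2 inferInstance]; exact le_top
  -- fixed points of `t` on the core
  have hCt : centralizer ({t} : Set G) ≤ normalizer (A : Set G) := by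
    have h := centralizer_le_normalizer_of_standard hA (zpowers_le.2 htA) htt
    rwa [zpowers_eq_closure, centralizer_closure] at h
  have hfix : O ⊓ centralizer ({t} : Set G) ≤ centralizer (A : Set G) := by
    refine le_centralizer_of_commutator hperf (le_trans ?_
      (inf_le_centralizer hq (hAON A) hAnotO))
    rw [Subgroup.commutator_le]
    intro a ha m hm
    refine mem_inf.2 ⟨?_, ?_⟩
    · rw [commutatorElement_def, show a * m * a⁻¹ * m⁻¹ = a * (m * a⁻¹ * m⁻¹) by group]
      exact mul_mem ha ((mem_normalizer_iff.1 (hCt hm.2) _).1 (inv_mem ha))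
    · rw [commutatorElement_def]
      exact mul_mem ((inferInstance : O.Normal).conj_mem _ hm.1 a) (inv_mem hm.1)
  -- a commutator of `R` and `t`
  obtain ⟨r, hr, hrt⟩ : ∃ r ∈ R, r * t ≠ t * r := by
    by_contra h
    push Not at h
    refine hc1 (commutator_eq_bot_iff_le_centralizer.2 fun r hr => ?_)
    rw [zpowers_eq_closure, centralizer_closure]
    exact mem_centralizer_singleton_iff.2 (h r hr)
  set a := r * t * r⁻¹ * t⁻¹ with ha
  have haA : a ∈ A := hc2 (by
    have := commutator_mem_commutator hr (mem_zpowers t)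
    rwa [commutatorElement_def] at this)
  have ha'A : r⁻¹ * a * r ∈ A := by
    refine hc2 ?_
    rw [commutator_comm]
    have := commutator_mem_commutator (mem_zpowers t) (inv_mem hr)
    rw [commutatorElement_def] at this
    convert this using 1
    rw [ha, htinv]; group
  have hau : a * t = r * t * r⁻¹ := by rw [ha]; group
  have ha1 : a ≠ 1 := by
    intro h
    rw [h, one_mul] at hau
    exact hrt (by rw [← mul_inv_eq_iff_eq_mul]; exact hau.symm)
  have hat : Commute a t := hct a haA
  have ha2 : a * a = 1 := by
    have h1 : a * t * (a * t) = 1 := by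
      rw [hau]
      calc r * t * r⁻¹ * (r * t * r⁻¹) = r * (t * t) * r⁻¹ := by group
        _ = 1 := by rw [ht2]; group
    calc a * a = a * a * (t * t) := by rw [ht2, mul_one]
      _ = a * (a * t) * t := by group
      _ = a * (t * a) * t := by rw [hat.eq]
      _ = a * t * (a * t) := by group
      _ = 1 := h1
  have hord : orderOf a = 2 := orderOf_eq_prime (by rw [sq, ha2]) ha1
  -- `a` is not central in `A`
  have haC : a ∉ centralizer (A : Set G) := by
    intro haC
    set C := centralizer (A : Set G) with hC
    let t' : C := ⟨t, htA⟩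
    let a' : C := ⟨a, haC⟩
    have htC : t' * t' = 1 := Subtype.ext ht2
    have haC2 : a' * a' = 1 := Subtype.ext ha2
    have hcomm : Commute a' t' := Subtype.ext hat.eq
    have hp : IsPGroup 2 ↥(zpowers a' ⊔ zpowers t') := by
      refine IsPGroup.to_sup_of_normal_right' ?_ ?_ ?_
      · exact IsPGroup.of_card (n := 1) (by
          rw [Nat.card_zpowers, orderOf_eq_prime (p := 2) (by rw [sq, haC2])
            fun h => ha1 (congrArg Subtype.val h), pow_one])
      · exact IsPGroup.of_card (n := 1) (by
          rw [Nat.card_zpowers, pow_one]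
          exact orderOf_eq_prime (p := 2) (by rw [sq, htC]) fun h => by
            have h' : t = 1 := congrArg Subtype.val h
            rw [h', orderOf_one] at ht; exact absurd ht (by norm_num))
      · refine zpowers_le.2 (centralizer_le_normalizer _ ?_)
        rw [zpowers_eq_closure, centralizer_closure]
        exact mem_centralizer_singleton_iff.2 hcomm.eq
    obtain ⟨S, hS⟩ := hp.exists_le_sylow
    haveI := hcyc S
    have hu : ∀ x : S, x * x = 1 → x ≠ 1 → ∀ y : S, y * y = 1 → y ≠ 1 → x = y := by
      intro x hx hx1 y hy hy1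
      exact CfsgLib.StandardSemisimple.eq_of_isCyclic hx hx1 hy hy1
    have := hu ⟨a', hS (mem_sup_left (mem_zpowers _))⟩ (Subtype.ext haC2)
      (fun h => ha1 (congrArg (fun z : ↥(S : Subgroup C) => ((z : C) : G)) h))
      ⟨t', hS (mem_sup_right (mem_zpowers _))⟩ (Subtype.ext htC)
      (fun h => by
        have h' : t = 1 := congrArg (fun z : ↥(S : Subgroup C) => ((z : C) : G)) h
        rw [h', orderOf_one] at ht; exact absurd ht (by norm_num))
    have hat' : a = t := congrArg (fun z : ↥(S : Subgroup C) => ((z : C) : G)) this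
    rw [hat', ht2] at hau
    have h2 : t = 1 := by
      calc t = r⁻¹ * (r * t * r⁻¹) * r := by group
        _ = 1 := by rw [← hau]; group
    rw [h2, orderOf_one] at ht; exact absurd ht (by norm_num)
  -- `a` centralises the core
  have haO : a ∈ centralizer (O : Set G) := by
    set S : Set G := {a, t} with hS
    haveI : IsMulCommutative ↥(closure S) := by
      refine Subgroup.isMulCommutative_closure ?_
      intro x hx y hy
      rcases hx with rfl | hx <;> rcases hy with rfl | hy
      · rfl
      · rw [Set.mem_singleton_iff.1 hy]; exact hat.eq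
      · rw [Set.mem_singleton_iff.1 hx]; exact hat.eq.symm
      · rw [Set.mem_singleton_iff.1 hx, Set.mem_singleton_iff.1 hy]
    have hmem : ∀ x ∈ closure S, x = 1 ∨ x = a ∨ x = t ∨ x = a * t := by
      intro x hx
      induction hx using Subgroup.closure_induction with
      | mem x hx => rcases hx with rfl | hx <;> simp_all
      | one => exact Or.inl rfl
      | mul x y _ _ hx hy =>
        have h3 : t * a = a * t := hat.eq.symm
        have h4 : a * (a * t) = t := by rw [← mul_assoc, ha2, one_mul]
        have h5 : t * (a * t) = a := by rw [← mul_assoc, h3, mul_assoc, ht2, mul_one]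
        have h6 : a * t * a = t := by rw [mul_assoc, h3, h4]
        have h7 : a * t * t = a := by rw [mul_assoc, ht2, mul_one]
        have h8 : a * t * (a * t) = 1 := by rw [mul_assoc, h5, ha2]
        rcases hx with rfl | rfl | rfl | rfl <;> rcases hy with rfl | rfl | rfl | rfl <;>
          simp [h3, h4, h5, h6, h7, h8, ha2, ht2]
      | inv x _ hx =>
        rcases hx with rfl | rfl | rfl | rfl
        · exact Or.inl inv_one
        · exact Or.inr (Or.inl (inv_eq_of_mul_eq_one_right ha2))
        · exact Or.inr (Or.inr (Or.inl htinv))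
        · refine Or.inr (Or.inr (Or.inr ?_))
          rw [mul_inv_rev, htinv, inv_eq_of_mul_eq_one_right ha2]
          exact hat.eq.symm
    have hsq : ∀ x ∈ closure S, x * x = 1 := by
      intro x hx
      rcases hmem x hx with rfl | rfl | rfl | rfl
      · exact one_mul _
      · exact ha2
      · exact ht2
      · rw [hau]
        calc r * t * r⁻¹ * (r * t * r⁻¹) = r * (t * t) * r⁻¹ := by group
          _ = 1 := by rw [ht2]; group
    have hne : a ≠ t := fun h => haC (h ▸ htA)
    have hncyc : ¬ IsCyclic ↥(closure S) := by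
      intro hc
      obtain ⟨g, hg⟩ := hc.exists_generator
      have hsub : ∀ x : closure S, x = 1 ∨ x = g := fun x => by
        obtain ⟨k, hk⟩ := hg x
        have hg2 : g ^ (2 : ℤ) = 1 := by
          rw [show (2 : ℤ) = ((2 : ℕ) : ℤ) from rfl, zpow_natCast, sq]
          exact Subtype.ext (hsq g g.2)
        rcases Int.even_or_odd k with ⟨m, rfl⟩ | ⟨m, rfl⟩
        · left; rw [← hk]; show g ^ (m + m) = 1
          rw [← two_mul, zpow_mul, hg2, one_zpow]
        · right; rw [← hk]; show g ^ (2 * m + 1) = g
          rw [zpow_add, zpow_mul, hg2, one_zpow, one_mul, zpow_one]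
      have h1 := hsub ⟨a, subset_closure (Or.inl rfl)⟩
      have h2 := hsub ⟨t, subset_closure (Or.inr rfl)⟩
      rcases h1 with h1 | h1
      · exact ha1 (congrArg Subtype.val h1)
      rcases h2 with h2 | h2
      · have := congrArg Subtype.val h2
        rw [show t = 1 from this, orderOf_one] at ht
        exact absurd ht (by norm_num)
      exact hne (congrArg Subtype.val (h1.trans h2.symm))
    have hcop : (Nat.card ↥(closure S)).Coprime (Nat.card O) := by
      have hp : IsPGroup 2 ↥(closure S) := fun x =>
        ⟨1, by rw [pow_one, sq]; exact Subtype.ext (hsq x x.2)⟩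
      obtain ⟨n, hn⟩ := IsPGroup.iff_card.1 hp
      rw [hn]
      exact (Nat.coprime_two_left.2 hOodd).pow_left n
    have key : O ≤ centralizer ({a} : Set G) := by
      refine CfsgLib.Coprime.le_of_centralizer_le_of_not_isCyclic hncyc (hAON _) hcop
        fun x hx hx1 => ?_
      have h0 : O ⊓ centralizer ({t} : Set G) ≤ centralizer ({a} : Set G) := fun y hy =>
        mem_centralizer_singleton_iff.2 (mem_centralizer_iff.1 (hfix hy) a haA).symm
      rcases hmem x hx with rfl | rfl | rfl | rfl
      · exact absurd rfl hx1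
      · exact inf_le_right
      · exact h0
      · intro y hy
        rw [hau] at hy
        have hy1 : r⁻¹ * y * r ∈ O ⊓ centralizer ({t} : Set G) := by
          refine mem_inf.2 ⟨?_, mem_centralizer_singleton_iff.2 ?_⟩
          · have := (inferInstance : O.Normal).conj_mem _ hy.1 r⁻¹
            rwa [inv_inv] at this
          · have h := mem_centralizer_singleton_iff.1 hy.2
            calc r⁻¹ * y * r * t = r⁻¹ * (y * (r * t * r⁻¹)) * r := by group
              _ = r⁻¹ * (r * t * r⁻¹ * y) * r := by rw [h]
              _ = t * (r⁻¹ * y * r) := by group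
        have h := mem_centralizer_iff.1 (hfix hy1) _ ha'A
        refine mem_centralizer_singleton_iff.2 ?_
        calc y * a = r * (r⁻¹ * y * r * (r⁻¹ * a * r)) * r⁻¹ := by group
          _ = r * (r⁻¹ * a * r * (r⁻¹ * y * r)) * r⁻¹ := by rw [h]
          _ = a * y := by group
    exact mem_centralizer_iff.2 fun o ho => mem_centralizer_singleton_iff.1 (key ho)
  have hAO : A ≤ centralizer (O : Set G) := by
    by_contra h
    exact haC (inf_le_centralizer hq ((hAON A).trans (le_normalizer_centralizer O)) h ⟨haA, haO⟩)
  -- pass to `G / O(G)`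
  set π := QuotientGroup.mk' O with hπ
  have hπs : Function.Surjective π := QuotientGroup.mk'_surjective _
  have hker : π.ker = O := QuotientGroup.ker_mk' _
  have hOC : O ≤ centralizer (A : Set G) := le_centralizer_iff.1 hAO
  have hcomap : ∀ {g : G}, π g = 1 → g ∈ O := fun {g} h =>
    (QuotientGroup.eq_one_iff g).1 h
  -- an element fixing the image of `A` normalises `A`
  have hnorm : ∀ g : G, (∀ x ∈ A, π (g * x * g⁻¹) ∈ A.map π) → g ∈ normalizer (A : Set G) := by
    intro g hg
    have hgA : A.map (MulAut.conj g).toMonoidHom ≤ A := by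
      conv_lhs => rw [← hperf, map_commutator]
      rw [Subgroup.commutator_le]
      intro x hx y hy
      have hdec : ∀ z ∈ A.map (MulAut.conj g).toMonoidHom, ∃ b ∈ A,
          b⁻¹ * z ∈ O ∧ b⁻¹ * z ∈ centralizer (O : Set G) := by
        rintro _ ⟨z, hz, rfl⟩
        obtain ⟨b, hb, hbz⟩ := hg z hz
        refine ⟨b, hb, hcomap (by rw [map_mul, map_inv, hbz]; exact inv_mul_cancel _),
          mul_mem (inv_mem (hAO hb)) ?_⟩
        haveI : (centralizer (O : Set G)).Normal := inferInstance
        exact this.conj_mem _ (hAO hz) g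
      obtain ⟨b, hb, hbo, hbc⟩ := hdec x hx
      obtain ⟨c, hc, hco, hcc⟩ := hdec y hy
      have e : ⁅x, y⁆ = ⁅b, c⁆ := by
        have h1 : Commute (b⁻¹ * x) c := (mem_centralizer_iff.1 (hAO hc) _ hbo)
        have h2 : Commute (c⁻¹ * y) b := (mem_centralizer_iff.1 (hAO hb) _ hco)
        have h3 : Commute (b⁻¹ * x) (c⁻¹ * y) := (mem_centralizer_iff.1 hcc _ hbo)
        have hxe : x = b * (b⁻¹ * x) := by group
        have hye : y = c * (c⁻¹ * y) := by group
        rw [hxe, hye]
        generalize b⁻¹ * x = u at h1 h3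
        generalize c⁻¹ * y = v at h2 h3
        rw [commutatorElement_def, commutatorElement_def]
        calc b * u * (c * v) * (b * u)⁻¹ * (c * v)⁻¹
            = b * (u * c) * v * u⁻¹ * b⁻¹ * v⁻¹ * c⁻¹ := by group
          _ = b * (c * u) * v * u⁻¹ * b⁻¹ * v⁻¹ * c⁻¹ := by rw [h1.eq]
          _ = b * c * (u * v) * u⁻¹ * (b⁻¹ * v⁻¹) * c⁻¹ := by group
          _ = b * c * (v * u) * u⁻¹ * (v⁻¹ * b⁻¹) * c⁻¹ := by
              rw [h3.eq, h2.symm.inv_inv.eq]
          _ = b * c * b⁻¹ * c⁻¹ := by group
      rw [e, commutatorElement_def]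
      exact mul_mem (mul_mem (mul_mem hb hc) (inv_mem hb)) (inv_mem hc)
    exact mem_normalizer_iff_map_conj_eq.2 (Subgroup.eq_of_le_of_card_ge hgA
      (Subgroup.card_map_of_injective (MulAut.conj g).injective).ge)
  have hcent : centralizer (A.map π : Set (G ⧸ O)) = (centralizer (A : Set G)).map π := by
    refine le_antisymm (fun y hy => ?_) ?_
    · obtain ⟨g, rfl⟩ := hπs y
      refine ⟨g, ?_, rfl⟩
      have h1 : ∀ x ∈ A, π (g * x * g⁻¹) = π x := fun x hx => by
        rw [map_mul, map_mul, map_inv, mul_inv_eq_iff_eq_mul]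
        exact (mem_centralizer_iff.1 hy _ (mem_map_of_mem π hx)).symm
      have hgN := hnorm g fun x hx => (h1 x hx).symm ▸ mem_map_of_mem π hx
      refine le_centralizer_of_commutator (M := zpowers g) hperf ?_ (mem_zpowers g)
      refine le_trans ?_ (inf_le_centralizer hq (hAON A) hAnotO)
      rw [Subgroup.commutator_le]
      rintro x hx z hz
      obtain ⟨k, rfl⟩ := mem_zpowers_iff.1 hz
      refine mem_inf.2 ⟨?_, hcomap ?_⟩
      · rw [commutatorElement_def,
          show x * g ^ k * x⁻¹ * (g ^ k)⁻¹ = x * (g ^ k * x⁻¹ * (g ^ k)⁻¹) by group]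
        exact mul_mem hx ((mem_normalizer_iff.1 (zpow_mem hgN k) _).1 (inv_mem hx))
      · rw [map_commutatorElement, commutatorElement_eq_one_iff_commute, map_zpow]
        exact (Commute.zpow_right (mem_centralizer_iff.1 hy _ (mem_map_of_mem π hx)) k)
    · rintro _ ⟨g, hg, rfl⟩
      refine mem_centralizer_iff.2 ?_
      rintro _ ⟨x, hx, rfl⟩
      rw [← map_mul, ← map_mul, mem_centralizer_iff.1 hg x hx]
  have hcoC : ((centralizer (A : Set G)).map π).comap π = centralizer (A : Set G) := by
    rw [comap_map_eq, hker, sup_eq_left.2 hOC]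
  have hNC : ∀ g : G, π g ∈ normalizer ((centralizer (A : Set G)).map π : Set (G ⧸ O)) ↔
      g ∈ normalizer (centralizer (A : Set G) : Set G) := by
    intro g
    have h := Subgroup.comap_normalizer_eq_of_surjective
      ((centralizer (A : Set G)).map π) hπs
    rw [hcoC] at h
    rw [← h]; rfl
  have hconj : ∀ (K : Subgroup G) (g : G), (K.map (MulAut.conj g).toMonoidHom).map π =
      (K.map π).map (MulAut.conj (π g)).toMonoidHom := by
    intro K g
    rw [map_map, map_map]
    refine congrArg (K.map ·) (MonoidHom.ext fun x => ?_)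
    simp
  have hbarA : IsStandardSubgroup (A.map π) := by
    refine ⟨?_, ⟨?_, ?_⟩, ?_, ?_⟩
    · haveI : Nontrivial ↥(A.map π) := by
        refine (nontrivial_iff_ne_bot _).2 fun h => hAnotO ?_
        rwa [Subgroup.map_eq_bot_iff, hker] at h
      exact isQuasisimple_of_surjective hq (π.subgroupMap A) (π.subgroupMap_surjective A)
    · rw [hcent]
      have h := card_dvd_of_le (show zpowers (π t) ≤ (centralizer (A : Set G)).map π from
        zpowers_le.2 (mem_map_of_mem π htA))
      rw [Nat.card_zpowers, orderOf_eq_prime (p := 2) (by rw [← map_pow, sq, ht2, map_one])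
        (fun h' => ?_)] at h
      · exact even_iff_two_dvd.2 h
      · have h2 : orderOf t ∣ Nat.card O := Subgroup.orderOf_dvd_natCard _ (hcomap h')
        rw [ht] at h2
        exact Nat.not_even_iff_odd.2 hOodd (even_iff_two_dvd.2 h2)
    · rw [hcent]
      intro y hy
      obtain ⟨g, rfl⟩ := hπs y
      have h := hA.2.1.2 g (fun hg => hy ((hNC g).2 hg))
      set C := centralizer (A : Set G) with hC
      set C' := C.map (MulAut.conj g).toMonoidHom with hC'
      have hOC' : O ≤ C' := fun o ho => ⟨g⁻¹ * o * g, hOC (by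
        have := (inferInstance : O.Normal).conj_mem _ ho g⁻¹
        rwa [inv_inv] at this), by simp [mul_assoc]⟩
      have e : C.map π ⊓ C'.map π = (C ⊓ C').map π := by
        refine le_antisymm ?_ (map_inf_le _ _ π)
        rintro _ ⟨⟨c, hc, rfl⟩, ⟨d, hd, hdc⟩⟩
        refine ⟨c, ⟨hc, ?_⟩, rfl⟩
        have : d⁻¹ * c ∈ O := hcomap (by rw [map_mul, map_inv, hdc, inv_mul_cancel])
        simpa using mul_mem hd (hOC' this)
      rw [hC', hconj] at e
      rw [e]
      exact h.of_dvd_nat (Subgroup.card_map_dvd _ π)
    · intro y hy hcomm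
      obtain ⟨g, rfl⟩ := hπs y
      rw [← hconj] at hy hcomm
      refine hA.2.2.1 g (fun h => hy (by rw [h])) ?_
      rw [← map_commutator, Subgroup.map_eq_bot_iff, hker] at hcomm
      rw [commutator_eq_bot_iff_le_centralizer, le_centralizer_iff]
      refine le_centralizer_of_commutator hperf ?_
      exact hcomm.trans hOC
    · rw [hcent]
      ext y
      obtain ⟨g, rfl⟩ := hπs y
      rw [hNC, ← hA.2.2.2]
      refine ⟨fun hg => hnorm g fun x hx => ?_, fun hg => ?_⟩
      · rw [map_mul, map_mul, map_inv]
        exact (mem_normalizer_iff.1 hg _).1 (mem_map_of_mem π hx)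
      · refine mem_normalizer_iff_map_conj_eq.2 ?_
        exact (hconj A g).symm.trans
          (congrArg (Subgroup.map π) (mem_normalizer_iff_map_conj_eq.1 hg))
  have hObar : pPrimeCore 2 (G ⧸ O) = ⊥ := pPrimeCore_quotient_pPrimeCore 2 G
  have htbar : orderOf (π t) = 2 := orderOf_eq_prime (by rw [← map_pow, sq, ht2, map_one])
    fun h' => by
      have h2 : orderOf t ∣ Nat.card O := Subgroup.orderOf_dvd_natCard _ (hcomap h')
      rw [ht] at h2
      exact Nat.not_even_iff_odd.2 hOodd (even_iff_two_dvd.2 h2)
  have htbA : π t ∈ centralizer (A.map π : Set (G ⧸ O)) := hcent ▸ mem_map_of_mem π htA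
  -- the image of `A` lies in the layer
  set Ab := A.map π with hAb
  set E := layer (G ⧸ O) with hE
  have hAE : Ab ≤ E := by
    set Ct := centralizer ((zpowers (π t) : Subgroup (G ⧸ O)) : Set (G ⧸ O)) with hCtb
    have htt' : 2 ∣ Nat.card (zpowers (π t)) := by rw [Nat.card_zpowers, htbar]
    have hle : Ct ≤ normalizer (Ab : Set (G ⧸ O)) :=
      centralizer_le_normalizer_of_standard hbarA (zpowers_le.2 htbA) htt'
    have hAC : Ab ≤ Ct := le_centralizer_iff.1 (zpowers_le.2 htbA)
    have hcomp : IsComponent (Ab.subgroupOf Ct) :=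
      ⟨(normal_subgroupOf_of_le_normalizer hle).isSubnormal,
        isQuasisimple_of_mulEquiv (subgroupOfEquivOfLe hAC).symm hbarA.1⟩
    have h1 := pComponent_le_pLayer ((component_isPComponent_iff hcomp).2
      (two_dvd_card_component hcomp))
    have h2 := map_pLayer_centralizer_le (zpowers (π t))
      (IsPGroup.of_card (n := 1) (by rw [Nat.card_zpowers, htbar, pow_one]))
    have h3 := (map_mono (f := Ct.subtype) h1).trans h2
    rwa [map_subgroupOf_eq_of_le hAC, pLayer_two_eq_layer_of_oddCore hObar] at h3
  set X := normalClosure (A : Set G) with hX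
  set Xb := X.map π with hXb
  haveI hXbn : Xb.Normal := Subgroup.Normal.map inferInstance π hπs
  have hAX : A ≤ X := le_normalClosure
  have hXO : X ≤ centralizer (O : Set G) := normalClosure_le_normal hAO
  have hXE : Xb ≤ E := by
    rw [hXb, map_le_iff_le_comap]
    haveI : (E.comap π).Normal := by
      haveI := layer_normal (G := G ⧸ O); infer_instance
    exact normalClosure_le_normal (map_le_iff_le_comap.1 hAE)
  have hnot : ¬ Xb ≤ normalizer (Ab : Set (G ⧸ O)) := by
    intro h
    have hAn : A.Normal := by
      refine ⟨fun x hx g => ?_⟩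
      by_contra hg
      have hne : A.map (MulAut.conj g).toMonoidHom ≠ A := fun e => hg (e.le ⟨x, hx, rfl⟩)
      have hBne : Ab.map (MulAut.conj (π g)).toMonoidHom ≠ Ab := by
        intro e
        rw [← hconj] at e
        exact hne (mem_normalizer_iff_map_conj_eq.1
          (hnorm g fun z hz => e.le (mem_map_of_mem π ⟨z, hz, rfl⟩)))
      set B := Ab.map (MulAut.conj (π g)).toMonoidHom with hB
      have hXB : Xb ≤ normalizer (B : Set (G ⧸ O)) := by
        intro z hz
        have hz' : (π g)⁻¹ * z * π g ∈ normalizer (Ab : Set (G ⧸ O)) := h (by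
          have := hXbn.conj_mem z hz (π g)⁻¹
          rwa [inv_inv] at this)
        refine mem_normalizer_iff.2 fun w => ?_
        rw [hB, Subgroup.mem_map_equiv, Subgroup.mem_map_equiv]
        simp only [MulAut.conj_symm_apply]
        refine (mem_normalizer_iff.1 hz' ((π g)⁻¹ * w * π g)).trans ?_
        rw [show (π g)⁻¹ * z * π g * ((π g)⁻¹ * w * π g) * ((π g)⁻¹ * z * π g)⁻¹ =
          (π g)⁻¹ * (z * w * z⁻¹) * π g by group]
      have hAbX : Ab ≤ Xb := map_mono hAX
      have hBX : B ≤ Xb := by
        rintro _ ⟨z, hz, rfl⟩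
        exact hXbn.conj_mem z (hAbX hz) (π g)
      have hcB : ⁅Ab, B⁆ ≤ Ab ⊓ B :=
        Subgroup.commutator_le.2 fun u hu v hv => mem_inf.2 ⟨by
          rw [commutatorElement_def, show u * v * u⁻¹ * v⁻¹ = u * (v * u⁻¹ * v⁻¹) by group]
          exact mul_mem hu ((mem_normalizer_iff.1 (h (hBX hv)) _).1 (inv_mem hu)), by
          rw [commutatorElement_def]
          exact mul_mem ((mem_normalizer_iff.1 (hXB (hAbX hu)) _).1 hv) (inv_mem hv)⟩
      have hnAB : ¬ Ab ≤ B := fun hle => hBne (Subgroup.eq_of_le_of_card_ge hle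
        (Subgroup.card_map_of_injective (MulAut.conj (π g)).injective).le).symm
      have := le_centralizer_of_commutator (isPerfect_iff.1 hbarA.1.1)
        (hcB.trans (inf_le_centralizer hbarA.1 (hAbX.trans hXB) hnAB))
      refine hbarA.2.2.1 (π g) hBne ?_
      rw [commutator_comm]
      exact commutator_eq_bot_iff_le_centralizer.2 this
    refine hc1 ?_
    rw [commutator_eq_bot_iff_le_centralizer, zpowers_eq_closure, centralizer_closure]
    intro z hz
    have hzA : z ∈ A := (normalClosure_le_normal (N := A) subset_rfl) (hRX hz)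
    exact mem_centralizer_singleton_iff.2 (hct z hzA).eq
  have hEX : E = Xb := by
    refine le_antisymm (layer_le_iff.2 fun D hD => ?_) hXE
    refine (component_le_or_commutator_eq_bot hD hXbn.isSubnormal).resolve_right fun h => hnot ?_
    have h1 := commutator_eq_bot_iff_le_centralizer.1 h
    exact (le_centralizer_iff.1 h1).trans (centralizer_le_normalizer_of_standard hbarA
      (h1.trans (centralizer_le (map_mono hAX))) (two_dvd_card_component hD))
  have hZ : Xb ⊓ centralizer (Xb : Set (G ⧸ O)) = ⊥ := by
    set Z := Xb ⊓ centralizer (Xb : Set (G ⧸ O)) with hZdef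
    by_cases h2 : 2 ∣ Nat.card Z
    · exact absurd ((le_centralizer_iff.1 (inf_le_right : Z ≤ _)).trans
        (centralizer_le_normalizer_of_standard hbarA
          ((inf_le_right : Z ≤ _).trans (centralizer_le (map_mono hAX))) h2)) hnot
    · haveI : Z.Normal := by rw [hZdef]; infer_instance
      exact le_bot_iff.1 (hObar ▸ le_oddCore (Nat.odd_iff.2 (Nat.two_dvd_ne_zero.1 h2)))
  have hXperf : ⁅X, X⁆ = X := by
    refine le_antisymm (commutator_le_self X) (normalClosure_le_normal ?_)
    exact hperf.ge.trans (commutator_mono hAX hAX)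
  -- elements of `X` central modulo the core lie in the core
  have hone : ∀ z ∈ X, (∀ x ∈ X, Commute (π z) (π x)) → z ∈ O := by
    intro z hz h
    refine hcomap (mem_bot.1 (hZ ▸ mem_inf.2 ⟨mem_map_of_mem π hz, mem_centralizer_iff.2 ?_⟩))
    rintro _ ⟨x, hx, rfl⟩
    exact (h x hx).symm
  refine ⟨?_, ?_⟩
  · set F := (fittingSubgroup ↥X).map X.subtype with hF
    set L := (layer ↥X).map X.subtype with hL
    have hFO : F ≤ O := by
      intro f hf
      refine hone f (map_subtype_le _ hf) fun x hx => ?_
      have hFs : (F.map π).IsSubnormal := by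
        haveI : F.Normal := by rw [hF]; infer_instance
        exact (Subgroup.Normal.map inferInstance π hπs).isSubnormal
      have hFsol : Group.IsSolvable ↥(F.map π) := by
        haveI := CfsgLib.Components.isSolvable_fitting (G := ↥X)
        haveI : Group.IsSolvable ↥F := Group.isSolvable_of_surjective
          (X.subtype.subgroupMap_surjective (fittingSubgroup ↥X))
        exact Group.isSolvable_of_surjective (π.subgroupMap_surjective F)
      have h := layer_commutator_eq_bot_of_isSolvable hFs hFsol
      rw [← hE, hEX] at h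
      exact mem_centralizer_iff.1 (commutator_eq_bot_iff_le_centralizer.1 h
        (mem_map_of_mem π hx)) _ (mem_map_of_mem π hf)
    haveI hLn : L.Normal := by
      haveI := layer_normal (G := ↥X)
      haveI : (layer ↥X).Characteristic := characteristic_iff_map_eq.2 fun e =>
        layer_map_equiv e
      rw [hL]; infer_instance
    have hLperf : ⁅L, L⁆ = L := by rw [hL, ← map_commutator, layer_commutator_self]
    have hEL : E ≤ L.map π := by
      refine layer_le_iff.2 fun D hD => ?_
      refine (component_le_or_commutator_eq_bot hD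
        (Subgroup.Normal.map hLn π hπs).isSubnormal).resolve_right fun h => ?_
      set P := X ⊓ D.comap π with hP
      have hPL : P ≤ centralizer (L : Set G) := by
        refine le_centralizer_of_commutator hLperf ?_
        have h1 : ⁅L, P⁆ ≤ X ⊓ O := by
          refine le_inf ((commutator_mono (map_subtype_le _) inf_le_left).trans
            (commutator_le_self X)) ?_
          rw [← hker, ← Subgroup.map_eq_bot_iff, map_commutator, eq_bot_iff, ← h, commutator_comm]
          exact commutator_mono ((map_le_iff_le_comap).2 inf_le_right) le_rfl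
        exact h1.trans (inf_le_right.trans ((le_centralizer_iff.1 hXO).trans
          (centralizer_le (map_subtype_le _))))
      have hPF : P ≤ O := by
        intro p hp
        have hp' : (⟨p, hp.1⟩ : ↥X) ∈ centralizer
            (generalizedFittingSubgroup ↥X : Set ↥X) := by
          rw [← centralizer_closure]
          have hsup : generalizedFittingSubgroup ↥X ≤
              centralizer ({(⟨p, hp.1⟩ : ↥X)} : Set ↥X) := by
            refine sup_le (fun y hy => ?_) (fun y hy => ?_)
            · exact mem_centralizer_singleton_iff.2 (Subtype.ext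
                (mem_centralizer_iff.1 (hPL hp) y (mem_map_of_mem X.subtype hy)))
            · exact mem_centralizer_singleton_iff.2 (Subtype.ext
                (mem_centralizer_iff.1 (hXO hp.1) y (hFO (mem_map_of_mem X.subtype hy))))
          rw [centralizer_closure]
          exact mem_centralizer_iff.2 fun y hy => mem_centralizer_singleton_iff.1 (hsup hy)
        exact hFO (mem_map_of_mem X.subtype (centralizer_fstar_le_fitting hp'))
      refine component_ne_bot hD (le_bot_iff.1 fun d hd => ?_)
      obtain ⟨x, hx, rfl⟩ := (hEX.le.trans' (component_le_layer hD)) hd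
      exact mem_bot.2 ((QuotientGroup.eq_one_iff x).2 (hPF ⟨hx, hd⟩))
    have hXL : X ≤ L := by
      conv_lhs => rw [← hXperf]
      rw [Subgroup.commutator_le]
      have hdec : ∀ x ∈ X, ∃ l ∈ L, l⁻¹ * x ∈ O := fun x hx => by
        obtain ⟨l, hl, hlx⟩ := hEL (hEX.ge (mem_map_of_mem π hx))
        exact ⟨l, hl, hcomap (by rw [map_mul, map_inv, hlx, inv_mul_cancel])⟩
      intro x hx y hy
      obtain ⟨l, hl, hlo⟩ := hdec x hx
      obtain ⟨m, hm, hmo⟩ := hdec y hy
      have hlX : l ∈ X := map_subtype_le _ hl
      have hmX : m ∈ X := map_subtype_le _ hm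
      have cu : ∀ z ∈ X, Commute (l⁻¹ * x) z := fun z hz =>
        mem_centralizer_iff.1 (hXO hz) _ hlo
      have cv : ∀ z ∈ X, Commute (m⁻¹ * y) z := fun z hz =>
        mem_centralizer_iff.1 (hXO hz) _ hmo
      have e : ⁅x, y⁆ = ⁅l, m⁆ := by
        have h1 := cu m hmX
        have h2 := cv l hlX
        have h3 := cu _ (mul_mem (inv_mem hmX) hy)
        have hxe : x = l * (l⁻¹ * x) := by group
        have hye : y = m * (m⁻¹ * y) := by group
        rw [hxe, hye]
        generalize l⁻¹ * x = u at h1 h3
        generalize m⁻¹ * y = v at h2 h3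
        rw [commutatorElement_def, commutatorElement_def]
        calc l * u * (m * v) * (l * u)⁻¹ * (m * v)⁻¹
            = l * (u * m) * v * u⁻¹ * l⁻¹ * v⁻¹ * m⁻¹ := by group
          _ = l * (m * u) * v * u⁻¹ * l⁻¹ * v⁻¹ * m⁻¹ := by rw [h1.eq]
          _ = l * m * (u * v) * u⁻¹ * (l⁻¹ * v⁻¹) * m⁻¹ := by group
          _ = l * m * (v * u) * u⁻¹ * (v⁻¹ * l⁻¹) * m⁻¹ := by
              rw [h3.eq, h2.symm.inv_inv.eq]
          _ = l * m * l⁻¹ * m⁻¹ := by group
      rw [e, commutatorElement_def]
      exact mul_mem (mul_mem (mul_mem hl hm) (inv_mem hl)) (inv_mem hm)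
    refine eq_top_iff.2 fun x _ => ?_
    obtain ⟨y, hy, hyx⟩ := hXL x.2
    rwa [← Subtype.ext hyx]
  · have hle : (center ↥X).map X.subtype ≤ O := by
      rintro _ ⟨z, hz, rfl⟩
      refine hone z z.2 fun x hx => ?_
      exact (Commute.map (show Commute (z : G) x from
        (congrArg Subtype.val (mem_center_iff.1 hz ⟨x, hx⟩)).symm) π)
    have := card_dvd_of_le hle
    rw [Subgroup.card_map_of_injective X.subtype_injective] at this
    exact hOodd.of_dvd_nat this

end CfsgLib.StandardSemisimple
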