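import Cfsg.Agent.Lib.FTCons.ComponentOfCentralizer

/-!
# A standard subgroup in a core-free group

If `A` is standard in `G`, `O(G) = 1` and `t` is an involution centralising `A`, then `A` is a component
of `C(t)`, and `L`-balance leaves three possibilities for `A`.
-/

set_option autoImplicit false
set_option linter.style.haveILetI false
set_option linter.unusedSectionVars false

open scoped commutatorElement Pointwise

namespace CfsgLib.LBalance

open Cfsg Subgroup CfsgLib.Base CfsgLib.Components

universe u

variable {G : Type u} [Group G] [Finite G]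

theorem two_dvd_card_component {L : Subgroup G} (hL : IsComponent L) : 2 ∣ Nat.card L := by
  by_contra h
  exact quasisimple_not_isSolvable hL.2
    (CfsgLib.FT.isSolvable_of_odd (Nat.odd_iff.2 (Nat.two_dvd_ne_zero.1 h)))

/-- If every `2`-component centralises its core, the `2`-layer is the layer. -/
theorem pLayer_two_eq_layer
    (h : ∀ K : Subgroup G, IsPComponent 2 K → ⁅K, (pPrimeCore 2 ↥K).map K.subtype⁆ = ⊥) :
    pLayer 2 G = layer G := by
  refine le_antisymm (pLayer_le_iff.2 fun K hK => ?_) (layer_le_iff.2 fun K hK => ?_)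
  · exact component_le_layer (pComponent_eq_of_quasisimple hK
      ((pComponent_isQuasisimple_iff hK).2 (h K hK)))
  · exact pComponent_le_pLayer ((component_isPComponent_iff hK).2 (two_dvd_card_component hK))

theorem pLayer_two_eq_layer_of_oddCore (hO : oddCore G = ⊥) : pLayer 2 G = layer G :=
  pLayer_two_eq_layer fun K hK => by
    rw [map_pPrimeCore_pComponent hK, show pPrimeCore 2 G = ⊥ from hO, inf_bot_eq,
      commutator_bot_right]

/-- A subgroup of even order of `C(A)` is centralised only inside `N(A)`. -/
theorem centralizer_le_normalizer_of_standard {A E : Subgroup G} (hA : IsStandardSubgroup A)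
    (hEC : E ≤ centralizer (A : Set G)) (heven : 2 ∣ Nat.card E) :
    centralizer (E : Set G) ≤ normalizer (A : Set G) := by
  intro g hg
  by_contra hne
  have hne' : g ∉ normalizer (centralizer (A : Set G) : Set G) := by
    rwa [← hA.2.2.2]
  refine Nat.not_odd_iff_even.2 (even_iff_two_dvd.2 (heven.trans (card_dvd_of_le ?_)))
    (hA.2.1.2 g hne')
  refine le_inf hEC fun e he => ⟨e, hEC he, ?_⟩
  show g * e * g⁻¹ = e
  rw [mul_inv_eq_iff_eq_mul]
  exact (mem_centralizer_iff.1 hg e he).symm

/-- The trichotomy for standard subgroups. -/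
theorem standard_trichotomy {A : Subgroup G} (hA : IsStandardSubgroup A) (hO : oddCore G = ⊥)
    (t : G) (ht : orderOf t = 2) (htA : t ∈ centralizer (A : Set G)) :
    A.Normal ∨ (∃ X : Subgroup G, IsSimpleGroup ↥X ∧ ¬ IsMulCommutative ↥X ∧
      Nonempty (↥X ≃* ↥A) ∧ (∀ a ∈ X, ∀ b ∈ X.map (MulAut.conj t).toMonoidHom, a * b = b * a) ∧
      X ⊓ X.map (MulAut.conj t).toMonoidHom = ⊥ ∧ X ⊔ X.map (MulAut.conj t).toMonoidHom = layer G ∧
      centralizer (A : Set G) = zpowers t) ∨
    (A ≤ layer G ∧ IsSimpleGroup ↥(layer G) ∧ ¬ IsMulCommutative ↥(layer G)) := by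
  classical
  have hq : IsQuasisimple ↥A := hA.1
  have ht2 : t * t = 1 := by rw [← sq, ← ht, pow_orderOf_eq_one]
  have hteven : 2 ∣ Nat.card (zpowers t) := by rw [Nat.card_zpowers, ht]
  set Ct := centralizer ({t} : Set G) with hCt
  have hACt : A ≤ Ct := fun a ha =>
    mem_centralizer_singleton_iff.2 (mem_centralizer_iff.1 htA a ha)
  have hCtN : Ct ≤ normalizer (A : Set G) := by
    have h := centralizer_le_normalizer_of_standard hA (zpowers_le.2 htA) hteven
    rwa [zpowers_eq_closure, centralizer_closure, ← hCt] at h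
  have hAn : (A.subgroupOf Ct).Normal := normal_subgroupOf_of_le_normalizer hCtN
  have hAc : IsComponent (A.subgroupOf Ct) :=
    ⟨hAn.isSubnormal, isQuasisimple_of_mulEquiv (subgroupOfEquivOfLe hACt).symm hq⟩
  have hAab : ¬ A ≤ centralizer (A : Set G) := fun h =>
    quasisimple_not_isMulCommutative hq ⟨⟨fun a b => Subtype.ext
      (mem_centralizer_iff.1 (h b.2) a a.2)⟩⟩
  have hAperf : ⁅A, A⁆ = A := isPerfect_iff.1 hq.1
  obtain ⟨D, hD, hcase⟩ := component_trichotomy (pLayer_two_eq_layer_of_oddCore hO) t ht A hACt hAc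
  -- a normal subgroup centralising `A` and centralised by `A` and by a subgroup outside `N(A)`
  have hsmall : ∀ M N : Subgroup G, N.Normal → ¬ M ≤ normalizer (A : Set G) →
      N ≤ centralizer (A : Set G) → N ≤ centralizer (M : Set G) → N = ⊥ := by
    intro M N hN hM hNA hNM
    by_contra hne
    by_cases h2 : 2 ∣ Nat.card N
    · exact hM ((le_centralizer_iff.1 hNM).trans (centralizer_le_normalizer_of_standard hA hNA h2))
    · haveI := hN
      exact hne (le_bot_iff.1 (hO ▸ le_oddCore (Nat.odd_iff.2 (Nat.two_dvd_ne_zero.1 h2))))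
  rcases hcase with rfl | ⟨hlt, -⟩ | ⟨hne, hAW⟩
  · refine Or.inl ⟨fun a ha g => ?_⟩
    by_contra hg
    have h1 : A.map (MulAut.conj g).toMonoidHom ≠ A := fun h =>
      hg (h ▸ (⟨a, ha, rfl⟩ : g * a * g⁻¹ ∈ A.map (MulAut.conj g).toMonoidHom))
    exact hA.2.2.1 g h1 (components_commute hD (isComponent_conj hD g) (Ne.symm h1))
  · have hDN : ¬ D ≤ normalizer (A : Set G) := by
      intro h
      haveI := normal_subgroupOf_of_le_normalizer (N := A) h
      rcases quasisimple_normal_eq_top_or_le_center hD.2 (A.subgroupOf D) with h' | h'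
      · exact hlt.not_ge (subgroupOf_eq_top.1 h')
      · exact hAab fun a ha => mem_centralizer_iff.2 fun b hb => congrArg Subtype.val
          (mem_center_iff.1 (h' (show (⟨a, hlt.le ha⟩ : D) ∈ A.subgroupOf D from ha))
            ⟨b, hlt.le hb⟩)
    have huniq : ∀ E : Subgroup G, IsComponent E → E = D := by
      intro E hE
      by_contra hne
      have h := components_commute hE hD hne
      rw [commutator_eq_bot_iff_le_centralizer] at h
      exact hDN ((le_centralizer_iff.1 h).trans (centralizer_le_normalizer_of_standard hA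
        (h.trans (centralizer_le hlt.le)) (two_dvd_card_component hE)))
    have hlay : layer G = D :=
      le_antisymm (layer_le_iff.2 fun E hE => (huniq E hE).le) (component_le_layer hD)
    have hDnorm : D.Normal := hlay ▸ layer_normal
    set Z := (center ↥D).map D.subtype with hZ
    have hZn : Z.Normal := by
      haveI := hDnorm
      rw [hZ]; infer_instance
    have hZc : Z ≤ centralizer (D : Set G) := by
      rintro _ ⟨z, hz, rfl⟩
      exact mem_centralizer_iff.2 fun d hd => congrArg Subtype.val (mem_center_iff.1 hz ⟨d, hd⟩)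
    have hZbot : center ↥D = ⊥ :=
      (Subgroup.map_eq_bot_iff_of_injective _ D.subtype_injective).1
        (hsmall D Z hZn hDN (hZc.trans (centralizer_le hlt.le)) hZc)
    refine Or.inr (Or.inr ⟨hlay ▸ hlt.le, ?_, ?_⟩)
    · rw [hlay]
      haveI := hD.2.2
      exact ((QuotientGroup.quotientMulEquivOfEq hZbot).trans
        (QuotientGroup.quotientBot (G := ↥D))).symm.isSimpleGroup
    · rw [hlay]
      exact quasisimple_not_isMulCommutative hD.2
  · set σ := (MulAut.conj t).toMonoidHom with hσ
    set D' := D.map σ with hD'def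
    have htt : ∀ x : G, t * (t * x * t⁻¹) * t⁻¹ = x := by
      intro x
      rw [show t * (t * x * t⁻¹) * t⁻¹ = (t * t) * x * (t * t)⁻¹ by group, ht2]
      group
    have hmem' : ∀ {x : G}, x ∈ D → t * x * t⁻¹ ∈ D' := fun hx => ⟨_, hx, rfl⟩
    have hmem : ∀ {x : G}, x ∈ D' → t * x * t⁻¹ ∈ D := by
      rintro _ ⟨y, hy, rfl⟩
      show t * (t * y * t⁻¹) * t⁻¹ ∈ D
      rwa [htt]
    have hD' : IsComponent D' := isComponent_conj hD t
    have hcomm : ∀ a ∈ D, ∀ b ∈ D', Commute a b := fun a ha b hb =>
      (mem_centralizer_iff.1 (commutator_eq_bot_iff_le_centralizer.1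
        (components_commute hD hD' (Ne.symm hne)) ha) b hb).symm
    have hDD' : D' ≤ centralizer (D : Set G) := fun b hb =>
      mem_centralizer_iff.2 fun a ha => hcomm a ha b hb
    set M := D ⊔ D' with hM
    have hAM : A ≤ M := by
      rw [hAW]
      exact (map_subtype_le _).trans inf_le_left
    have hMN : ¬ M ≤ normalizer (A : Set G) := by
      intro h
      have hDA : ⁅D, A⁆ ≤ centralizer (M : Set G) := by
        have hAND : A ≤ normalizer (D : Set G) :=
          hAM.trans (sup_le le_normalizer (hDD'.trans (centralizer_le_normalizer _)))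
        have h1 : ⁅D, A⁆ ≤ A ⊓ D := by
          rw [Subgroup.commutator_le]
          intro d hd a ha
          refine mem_inf.2 ⟨mul_mem ((mem_normalizer_iff.1 (h (mem_sup_left hd)) a).1 ha) (inv_mem ha), ?_⟩
          rw [commutatorElement_def, show d * a * d⁻¹ * a⁻¹ = d * (a * d⁻¹ * a⁻¹) by group]
          exact mul_mem hd ((mem_normalizer_iff.1 (hAND ha) _).1 (inv_mem hd))
        refine h1.trans fun x hx => ?_
        have hx' : x ∈ D' := by
          have := hmem' hx.2
          rwa [← mem_centralizer_singleton_iff.1 (hACt hx.1), mul_inv_cancel_right] at this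
        have h2 : M ≤ centralizer ({x} : Set G) := sup_le
          (fun a ha => mem_centralizer_singleton_iff.2 (hcomm a ha x hx').eq)
          (fun b hb => mem_centralizer_singleton_iff.2 (hcomm x hx.2 b hb).symm.eq)
        exact mem_centralizer_iff.2 fun m hm => mem_centralizer_singleton_iff.1 (h2 hm)
      have hAD : A ≤ centralizer (D : Set G) := by
        rw [← commutator_eq_bot_iff_le_centralizer]
        have hc : ⁅⁅D, A⁆, A⁆ = ⊥ :=
          commutator_eq_bot_iff_le_centralizer.2 (hDA.trans (centralizer_le hAM))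
        have h3 := commutator_commutator_eq_bot_of_rotate (H₁ := A) (H₂ := A) (H₃ := D)
          (by rw [commutator_comm A D]; exact hc) hc
        rwa [hAperf] at h3
      have hAD' : A ≤ centralizer (D' : Set G) := by
        intro a ha
        refine mem_centralizer_iff.2 ?_
        rintro _ ⟨d, hd, rfl⟩
        have hfix : σ a = a := by
          show t * a * t⁻¹ = a
          rw [mul_inv_eq_iff_eq_mul]
          exact (mem_centralizer_singleton_iff.1 (hACt ha)).symm
        have h1 := congrArg σ (mem_centralizer_iff.1 (hAD ha) d hd)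
        simpa [map_mul, hfix] using h1
      exact hAab ((le_centralizer_iff.1 (sup_le (le_centralizer_iff.1 hAD)
        (le_centralizer_iff.1 hAD'))).trans (centralizer_le hAM))
    have huniq : ∀ E : Subgroup G, IsComponent E → E ≤ M := by
      intro E hE
      by_contra hEM
      have h1 : M ≤ centralizer (E : Set G) := sup_le
        (commutator_eq_bot_iff_le_centralizer.1
          (components_commute hD hE fun h => hEM (h ▸ le_sup_left)))
        (commutator_eq_bot_iff_le_centralizer.1
          (components_commute hD' hE fun h => hEM (h ▸ le_sup_right)))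
      exact hMN (h1.trans (centralizer_le_normalizer_of_standard hA
        ((le_centralizer_iff.1 h1).trans (centralizer_le hAM)) (two_dvd_card_component hE)))
    have hlay : layer G = M := le_antisymm (layer_le_iff.2 huniq)
      (sup_le (component_le_layer hD) (component_le_layer hD'))
    have hCM : centralizer (M : Set G) = ⊥ :=
      hsmall M _ (by rw [← hlay]; haveI := layer_normal (G := G); infer_instance) hMN
        (centralizer_le hAM) le_rfl
    have hinter : ∀ {x : G}, x ∈ D → x ∈ D' → x = 1 := fun {x} hx hx' => by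
      rw [← mem_bot, ← hCM]
      have h2 : M ≤ centralizer ({x} : Set G) := sup_le
        (fun a ha => mem_centralizer_singleton_iff.2 (hcomm a ha x hx').eq)
        (fun b hb => mem_centralizer_singleton_iff.2 (hcomm x hx b hb).symm.eq)
      exact mem_centralizer_iff.2 fun m hm => mem_centralizer_singleton_iff.1 (h2 hm)
    have hdec : ∀ {d d' e e' : G}, d ∈ D → d' ∈ D → e ∈ D' → e' ∈ D' → d * e = d' * e' →
        d = d' := fun {d d' e e'} hd hd' he he' h => by
      have h1 : d'⁻¹ * d = e' * e⁻¹ := by
        rw [eq_mul_inv_iff_mul_eq, mul_assoc, h, inv_mul_cancel_left]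
      exact (inv_mul_eq_one.1 (hinter (mul_mem (inv_mem hd') hd)
        (h1 ▸ mul_mem he' (inv_mem he)))).symm
    have hDc : center ↥D = ⊥ := by
      rw [eq_bot_iff]
      intro z hz
      refine Subtype.ext (mem_bot.1 ?_)
      rw [← hCM]
      have h2 : M ≤ centralizer ({(z : G)} : Set G) := sup_le
        (fun a ha => mem_centralizer_singleton_iff.2
          (congrArg Subtype.val (mem_center_iff.1 hz ⟨a, ha⟩)))
        (fun b hb => mem_centralizer_singleton_iff.2 (hcomm z z.2 b hb).symm.eq)
      exact mem_centralizer_iff.2 fun m hm => mem_centralizer_singleton_iff.1 (h2 hm)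
    haveI hDs : IsSimpleGroup ↥D := by
      haveI := hD.2.2
      exact ((QuotientGroup.quotientMulEquivOfEq hDc).trans
        (QuotientGroup.quotientBot (G := ↥D))).symm.isSimpleGroup
    let δ : ↥D →* G := MonoidHom.mk' (fun d => (d : G) * (t * d * t⁻¹)) fun a b => by
      show (a : G) * b * (t * ((a : G) * b) * t⁻¹) = a * (t * a * t⁻¹) * (b * (t * b * t⁻¹))
      have h : Commute (b : G) (t * a * t⁻¹) := hcomm b b.2 _ (hmem' a.2)
      calc (a : G) * b * (t * ((a : G) * b) * t⁻¹)
          = a * (b * (t * a * t⁻¹)) * (t * b * t⁻¹) := by group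
        _ = a * (t * a * t⁻¹ * b) * (t * b * t⁻¹) := by rw [h.eq]
        _ = _ := by group
    have hδ : ∀ d : ↥D, δ d = (d : G) * (t * d * t⁻¹) := fun _ => rfl
    have hδinj : Function.Injective δ := fun a b h =>
      Subtype.ext (hdec a.2 b.2 (hmem' a.2) (hmem' b.2) h)
    have hAle : A ≤ δ.range := by
      intro a ha
      have hmM := hAM ha
      rw [← SetLike.mem_coe, hM, coe_mul_of_right_le_normalizer_left D D'
        (hDD'.trans (centralizer_le_normalizer _))] at hmM
      obtain ⟨d, hd, e, he, rfl⟩ := hmM
      have hfix : t * (d * e) * t⁻¹ = d * e := by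
        rw [mul_inv_eq_iff_eq_mul]
        exact (mem_centralizer_singleton_iff.1 (hACt ha)).symm
      have hswap : t * e * t⁻¹ * (t * d * t⁻¹) = d * e := by
        rw [(hcomm _ (hmem he) _ (hmem' hd)).eq]
        rw [← hfix]; group
      have h1 : t * e * t⁻¹ = d := hdec (hmem he) hd (hmem' hd) he hswap
      refine ⟨⟨d, hd⟩, ?_⟩
      rw [hδ]
      show d * (t * d * t⁻¹) = d * e
      rw [← h1, htt]
    have hrange : δ.range ≤ Ct := by
      rintro _ ⟨d, rfl⟩
      refine mem_centralizer_singleton_iff.2 ?_
      rw [hδ]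
      refine (mul_inv_eq_iff_eq_mul.1 ?_).symm
      rw [show t * ((d : G) * (t * d * t⁻¹)) * t⁻¹ = t * d * t⁻¹ * (t * (t * d * t⁻¹) * t⁻¹) by group,
        htt]
      exact (hcomm d d.2 _ (hmem' d.2)).symm.eq
    have hAeq : A = δ.range := by
      have hn : ((A.subgroupOf δ.range).comap δ.rangeRestrict).Normal := by
        haveI := normal_subgroupOf_of_le_normalizer (N := A) (hrange.trans hCtN)
        infer_instance
      rcases hn.eq_bot_or_eq_top with h | h
      · exfalso
        refine hAab fun a ha => ?_
        obtain ⟨d, rfl⟩ := hAle ha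
        have : d ∈ (A.subgroupOf δ.range).comap δ.rangeRestrict := ha
        rw [h, mem_bot] at this
        rw [this, map_one]
        exact one_mem _
      · refine le_antisymm hAle ?_
        rintro _ ⟨d, rfl⟩
        exact (h.ge (mem_top d) : _)
    refine Or.inr (Or.inl ⟨D, hDs, quasisimple_not_isMulCommutative hD.2,
      ⟨(MonoidHom.ofInjective hδinj).trans (MulEquiv.subgroupCongr hAeq.symm)⟩,
      fun a ha b hb => (hcomm a ha b hb).eq, eq_bot_iff.2 fun x hx => mem_bot.2 (hinter hx.1 hx.2),
      hlay.symm, ?_⟩)
    refine le_antisymm ?_ (zpowers_le.2 htA)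
    -- an element centralising `A` and normalising `D` centralises `M`
    have hone : ∀ c ∈ centralizer (A : Set G), D.map (MulAut.conj c).toMonoidHom = D → c = 1 := by
      intro c hc hcD
      have hcD' : D'.map (MulAut.conj c).toMonoidHom = D' := by
        have hc' : D'.map (MulAut.conj c).toMonoidHom = D ∨
            D'.map (MulAut.conj c).toMonoidHom = D' := by
          by_contra h
          push Not at h
          have hE := isComponent_conj hD' c
          have h1 := huniq _ hE
          have hcen : M ≤ centralizer (D'.map (MulAut.conj c).toMonoidHom : Set G) := sup_le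
            (commutator_eq_bot_iff_le_centralizer.1 (components_commute hD hE h.1.symm))
            (commutator_eq_bot_iff_le_centralizer.1 (components_commute hD' hE h.2.symm))
          have h2 : D'.map (MulAut.conj c).toMonoidHom ≤ centralizer (M : Set G) :=
            le_centralizer_iff.1 hcen
          rw [hCM] at h2
          exact component_ne_bot hE (le_bot_iff.1 h2)
        refine hc'.resolve_left fun h => hne ?_
        exact map_injective (MulAut.conj c).injective (h.trans hcD.symm)
      have hfixD : ∀ d ∈ D, c * d * c⁻¹ = d := fun d hd => by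
        have h1 : c * (d * (t * d * t⁻¹)) * c⁻¹ = d * (t * d * t⁻¹) := by
          rw [mul_inv_eq_iff_eq_mul]
          exact (mem_centralizer_iff.1 hc _ (hAeq.ge ⟨⟨d, hd⟩, rfl⟩)).symm
        refine hdec (hcD.le ⟨d, hd, rfl⟩) hd
          (hcD'.le ⟨_, hmem' hd, rfl⟩) (hmem' hd) (e := c * (t * d * t⁻¹) * c⁻¹) ?_
        rw [← h1]; group
      have hfixD' : ∀ d ∈ D, c * (t * d * t⁻¹) * c⁻¹ = t * d * t⁻¹ := fun d hd => by
        have hct : t * (c * d * c⁻¹) * t⁻¹ = t * d * t⁻¹ := by rw [hfixD d hd]
        have h1 : c * (d * (t * d * t⁻¹)) * c⁻¹ = d * (t * d * t⁻¹) := by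
          rw [mul_inv_eq_iff_eq_mul]
          exact (mem_centralizer_iff.1 hc _ (hAeq.ge ⟨⟨d, hd⟩, rfl⟩)).symm
        have h2 : c * (d * (t * d * t⁻¹)) * c⁻¹ =
            c * d * c⁻¹ * (c * (t * d * t⁻¹) * c⁻¹) := by group
        rw [h2, hfixD d hd] at h1
        exact mul_left_cancel h1
      rw [← mem_bot, ← hCM]
      have h2 : M ≤ centralizer ({c} : Set G) := by
        refine sup_le (fun d hd => mem_centralizer_singleton_iff.2
          (mul_inv_eq_iff_eq_mul.1 (hfixD d hd)).symm) ?_
        rintro _ ⟨d, hd, rfl⟩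
        exact mem_centralizer_singleton_iff.2 (mul_inv_eq_iff_eq_mul.1 (hfixD' d hd)).symm
      exact mem_centralizer_iff.2 fun m hm => mem_centralizer_singleton_iff.1 (h2 hm)
    intro c hc
    have hE := isComponent_conj hD c
    by_cases h1 : D.map (MulAut.conj c).toMonoidHom = D
    · rw [hone c hc h1]; exact one_mem _
    have h2 : D.map (MulAut.conj c).toMonoidHom = D' := by
      by_contra h2
      have hcen : M ≤ centralizer (D.map (MulAut.conj c).toMonoidHom : Set G) := sup_le
        (commutator_eq_bot_iff_le_centralizer.1 (components_commute hD hE (Ne.symm h1)))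
        (commutator_eq_bot_iff_le_centralizer.1 (components_commute hD' hE (Ne.symm h2)))
      have h3 := le_centralizer_iff.1 hcen
      rw [hCM] at h3
      exact component_ne_bot hE (le_bot_iff.1 h3)
    have h4 : D.map (MulAut.conj (t * c)).toMonoidHom = D := by
      rw [map_conj_mul, h2]
      ext x
      refine ⟨fun ⟨y, hy, hyx⟩ => hyx ▸ hmem hy, fun hx => ⟨t * x * t⁻¹, hmem' hx, htt x⟩⟩
    have h5 : c = t := by
      have := hone _ (mul_mem htA hc) h4
      rw [mul_eq_one_iff_eq_inv] at this
      rw [← inv_inj, ← this]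
      exact (inv_eq_of_mul_eq_one_right ht2).symm
    rw [h5]; exact mem_zpowers t

end CfsgLib.LBalance
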