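import Cfsg.Agent.Lib.Coprime.Action2

/-!
Coprime action on a group all of whose Sylow subgroups are cyclic, and the solvability of its
automorphism group.
-/

set_option autoImplicit false
set_option linter.style.haveILetI false

universe u

namespace CfsgLib.FTCons

open scoped Pointwise commutatorElement

variable {G : Type u} [Group G]

theorem mulAut_comm_of_isCyclic {D : Type u} [Group D] [IsCyclic D] (a b : MulAut D) :
    a * b = b * a :=
  (IsCyclic.mulAutMulEquiv D).injective (by rw [map_mul, map_mul, mul_comm])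

/-- Automorphisms inducing the identity on `D` and on `X ⧸ D`, `D` abelian, commute. -/
theorem isSolvable_mulAut_of_isZGroup (X : Type u) [Group X] [Finite X] [IsZGroup X] :
    Group.IsSolvable (MulAut X) := by
  let D : Subgroup X := commutator X
  haveI : D.Characteristic := Subgroup.commutator_characteristic ⊤ ⊤
  haveI : IsCyclic D := IsZGroup.isCyclic_commutator X
  have hinv : ∀ (φ : MulAut X) (d : X), d ∈ D → φ d ∈ D := fun φ d hd =>
    Subgroup.characteristic_iff_map_le.1 inferInstance φ ⟨d, hd, rfl⟩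
  let r : MulAut X →* MulAut D :=
    { toFun := fun φ =>
        { toFun := fun d => ⟨φ d, hinv φ d d.2⟩
          invFun := fun d => ⟨φ⁻¹ d, hinv φ⁻¹ d d.2⟩
          left_inv := fun d => Subtype.ext (by simp)
          right_inv := fun d => Subtype.ext (by simp)
          map_mul' := fun a b => Subtype.ext (map_mul φ (a : X) (b : X)) }
      map_one' := MulEquiv.ext fun d => Subtype.ext rfl
      map_mul' := fun φ ψ => MulEquiv.ext fun d => Subtype.ext rfl }
  let q : MulAut X →* MulAut (Abelianization X) :=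
    { toFun := fun φ => φ.abelianizationCongr
      map_one' := MulEquiv.ext fun y => by
        obtain ⟨x, rfl⟩ := QuotientGroup.mk_surjective y
        rfl
      map_mul' := fun φ ψ => MulEquiv.ext fun y => by
        obtain ⟨x, rfl⟩ := QuotientGroup.mk_surjective y
        rfl }
  let F := r.prod q
  have hcomm : ∀ φ ∈ F.ker, ∀ ψ ∈ F.ker, φ * ψ = ψ * φ := by
    intro φ hφ ψ hψ
    rw [MonoidHom.mem_ker, MonoidHom.prod_apply, Prod.mk_eq_one] at hφ hψ
    have hD : ∀ χ : MulAut X, r χ = 1 → ∀ d ∈ D, χ d = d := fun χ h d hd =>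
      congrArg Subtype.val (DFunLike.congr_fun h ⟨d, hd⟩)
    have hQ : ∀ χ : MulAut X, q χ = 1 → ∀ x : X, x⁻¹ * χ x ∈ D := fun χ h x => by
      have h1 : Abelianization.of (χ x) = Abelianization.of x := DFunLike.congr_fun h (Abelianization.of x)
      exact QuotientGroup.eq.1 h1.symm
    refine MulEquiv.ext fun x => ?_
    have ha := hQ φ hφ.2 x
    have hb := hQ ψ hψ.2 x
    have hab : x⁻¹ * φ x * (x⁻¹ * ψ x) = x⁻¹ * ψ x * (x⁻¹ * φ x) :=
      congrArg Subtype.val ((IsCyclic.commGroup (α := D)).mul_comm ⟨_, ha⟩ ⟨_, hb⟩)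
    calc (φ * ψ) x = φ (x * (x⁻¹ * ψ x)) := by rw [MulAut.mul_apply]; congr 1; group
      _ = φ x * (x⁻¹ * ψ x) := by rw [map_mul, hD φ hφ.1 _ hb]
      _ = x * (x⁻¹ * φ x * (x⁻¹ * ψ x)) := by group
      _ = x * (x⁻¹ * ψ x * (x⁻¹ * φ x)) := by rw [hab]
      _ = ψ x * (x⁻¹ * φ x) := by group
      _ = ψ (x * (x⁻¹ * φ x)) := by rw [map_mul, hD ψ hψ.1 _ ha]
      _ = (ψ * φ) x := by rw [MulAut.mul_apply]; congr 1; group
  haveI : Group.IsSolvable F.ker :=
    isSolvable_of_comm fun a b => Subtype.ext (hcomm a a.2 b b.2)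
  haveI : Group.IsSolvable F.range := by
    refine isSolvable_of_comm fun a b => Subtype.ext (Prod.ext ?_ ?_)
    · exact mulAut_comm_of_isCyclic a.1.1 b.1.1
    · exact mulAut_comm_of_isCyclic a.1.2 b.1.2
  exact solvable_of_ker_le_range F.ker.subtype F.rangeRestrict (by simp)

variable [Finite G] {A X : Subgroup G}

/-- The fixed points of a coprime action on a group with cyclic Sylow subgroups form a Hall
subgroup. -/
theorem coprime_centralizer_of_isZGroup (hAX : A ≤ Subgroup.normalizer (X : Set G))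
    (hcop : (Nat.card A).Coprime (Nat.card X)) [IsZGroup X] :
    (Nat.card (X ⊓ Subgroup.centralizer (A : Set G) : Subgroup G)).Coprime
      ((X ⊓ Subgroup.centralizer (A : Set G)).relIndex X) := by
  set C := X ⊓ Subgroup.centralizer (A : Set G) with hC
  haveI hXs : Group.IsSolvable X := inferInstance
  refine Nat.coprime_of_dvd' fun p hp hd1 hd2 => ?_
  exfalso
  haveI := Fact.mk hp
  obtain ⟨c, hc⟩ := exists_prime_orderOf_dvd_card' p hd1
  let U : Subgroup G := Subgroup.zpowers (c : G)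
  have hco : orderOf (c : G) = p := by rw [Subgroup.orderOf_coe, hc]
  have hUA : A ≤ Subgroup.normalizer (U : Set G) := by
    intro a ha
    have hcent : ∀ u ∈ U, a * u = u * a := by
      intro u hu
      obtain ⟨k, rfl⟩ := Subgroup.mem_zpowers_iff.1 hu
      exact Subgroup.mem_centralizer_iff.1 ((Subgroup.zpow_mem _ c.2.2 k)) a ha
    refine Subgroup.mem_normalizer_iff.2 fun u => ⟨fun hu => ?_, fun hu => ?_⟩
    · rw [hcent u hu, mul_inv_cancel_right]; exact hu
    · have h1 := hcent _ hu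
      have h2 : a * u * a⁻¹ = u := by
        calc a * u * a⁻¹ = a⁻¹ * (a * (a * u * a⁻¹)) := by group
          _ = a⁻¹ * ((a * u * a⁻¹) * a) := by rw [h1]
          _ = u := by group
      rwa [h2] at hu
  have hUp : IsPGroup p U := IsPGroup.of_card (n := 1) (by rw [Nat.card_zpowers, hco, pow_one])
  obtain ⟨P, hUP, hPA⟩ := CfsgLib.Coprime.exists_invariant_sylow_ge (p := p) hAX hcop (Or.inr hXs)
    (Subgroup.zpowers_le.2 c.2.1) hUp hUA
  let R : Subgroup G := (P : Subgroup X).map X.subtype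
  haveI : IsCyclic R := isCyclic_of_surjective _
    ((P : Subgroup X).equivMapOfInjective X.subtype X.subtype_injective).surjective
  letI := IsCyclic.commGroup (α := R)
  haveI : IsMulCommutative R := ⟨⟨fun a b => mul_comm a b⟩⟩
  have hRX : R ≤ X := Subgroup.map_subtype_le _
  have hcopR : (Nat.card A).Coprime (Nat.card R) :=
    hcop.coprime_dvd_right (Subgroup.card_dvd_of_le hRX)
  have h0 := CfsgLib.Coprime.centralizer_inf_commutator_eq_bot hPA hcopR
  have hRp : IsPGroup p R := P.2.map _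
  have hbot : ⁅R, A⁆ = ⊥ := by
    by_contra hne
    have hKR : ⁅R, A⁆ ≤ R := CfsgLib.Coprime.commutator_le_of_le_normalizer hPA
    obtain ⟨x, hx⟩ := exists_prime_orderOf_dvd_card' (G := ↥(⁅R, A⁆ : Subgroup G)) p (by
      obtain ⟨k, hk⟩ := IsPGroup.iff_card.1 (hRp.to_le hKR)
      rw [hk]
      refine dvd_pow_self p fun hk0 => hne (Subgroup.eq_bot_of_card_eq _ ?_)
      rw [hk, hk0, pow_zero])
    have hxo : orderOf (x : G) = p := by rw [Subgroup.orderOf_coe, hx]
    have hU : Subgroup.zpowers (⟨c, hUP (Subgroup.mem_zpowers _)⟩ : R) =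
        Subgroup.zpowers (⟨x, hKR x.2⟩ : R) := by
      have key : ∀ y : R, orderOf y = p → Subgroup.zpowers y = (powMonoidHom p : R →* R).ker := by
        intro y hy
        refine Subgroup.eq_of_le_of_card_ge (Subgroup.zpowers_le.2 ?_) ?_
        · rw [MonoidHom.mem_ker, powMonoidHom_apply, ← hy, pow_orderOf_eq_one]
        · rw [IsCyclic.card_powMonoidHom_ker, Nat.card_zpowers, hy]
          exact Nat.le_of_dvd hp.pos (Nat.gcd_dvd_right _ _)
      rw [key _ (by rw [Subgroup.orderOf_mk, hco]), key _ (by rw [Subgroup.orderOf_mk, hxo])]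
    have hmem : (⟨c, hUP (Subgroup.mem_zpowers _)⟩ : R) ∈
        Subgroup.zpowers (⟨x, hKR x.2⟩ : R) := hU ▸ Subgroup.mem_zpowers _
    obtain ⟨k, hk⟩ := Subgroup.mem_zpowers_iff.1 hmem
    have hk' : (x : G) ^ k = c := by simpa using congrArg Subtype.val hk
    have h3 : (c : G) ∈ (R ⊓ Subgroup.centralizer (A : Set G)) ⊓ ⁅R, A⁆ :=
      ⟨⟨hUP (Subgroup.mem_zpowers _), c.2.2⟩, hk' ▸ Subgroup.zpow_mem _ x.2 k⟩
    rw [h0, Subgroup.mem_bot] at h3
    rw [h3, orderOf_one] at hco
    exact hp.one_lt.ne hco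
  have hRC : R ≤ C := le_inf hRX (Subgroup.commutator_eq_bot_iff_le_centralizer.1 hbot)
  refine P.not_dvd_index (hd2.trans ?_)
  have h1 := Subgroup.relIndex_dvd_of_le_left X hRC
  rwa [show R.relIndex X = (P : Subgroup X).index by
    rw [Subgroup.relIndex, Subgroup.subgroupOf,
      Subgroup.comap_map_eq_self_of_injective X.subtype_injective]] at h1

/-- The commutator of a coprime action on a group with cyclic Sylow subgroups is cyclic and meets
the fixed points trivially. -/
theorem commutator_isCyclic_of_isZGroup (hAX : A ≤ Subgroup.normalizer (X : Set G))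
    (hcop : (Nat.card A).Coprime (Nat.card X)) [IsZGroup X] :
    IsCyclic ↥⁅X, A⁆ ∧ ⁅X, A⁆ ⊓ (X ⊓ Subgroup.centralizer (A : Set G)) = ⊥ := by
  haveI hXs : Group.IsSolvable X := inferInstance
  let D : Subgroup G := (commutator X).map X.subtype
  haveI hDc : IsCyclic D := by
    haveI := IsZGroup.isCyclic_commutator X
    exact isCyclic_of_surjective _
      ((commutator X).equivMapOfInjective X.subtype X.subtype_injective).surjective
  have hDX : D ≤ X := Subgroup.map_subtype_le _
  have hcommD : ∀ x ∈ X, ∀ y ∈ X, x * y * x⁻¹ * y⁻¹ ∈ D := fun x hx y hy =>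
    ⟨⁅(⟨x, hx⟩ : X), ⟨y, hy⟩⁆, Subgroup.commutator_mem_commutator trivial trivial, rfl⟩
  have hDchar : ∀ a ∈ A, ∀ d ∈ D, a * d * a⁻¹ ∈ D := by
    intro a ha d hd
    obtain ⟨d₀, hd₀, rfl⟩ := hd
    let ψ : MulAut X := X.normalizerMonoidHom ⟨a, hAX ha⟩
    exact ⟨ψ d₀, Subgroup.characteristic_iff_map_le.1
      (Subgroup.commutator_characteristic ⊤ ⊤) ψ ⟨d₀, hd₀, rfl⟩, rfl⟩
  let Y : Subgroup G := X ⊓ Subgroup.centralizer (D : Set G)
  have hKY : ⁅X, A⁆ ≤ Y := by
    refine Subgroup.commutator_le.2 fun x hx a ha => ?_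
    have h1 : ⁅x, a⁆ ∈ X :=
      CfsgLib.Coprime.commutator_le_of_le_normalizer hAX (Subgroup.commutator_mem_commutator hx ha)
    refine ⟨h1, Subgroup.mem_centralizer_iff.2 fun d hd => ?_⟩
    -- conjugation by `x` and by `a * x * a⁻¹` agree on `D`
    have hn : ∀ g ∈ X, ∀ e ∈ D, g * e * g⁻¹ ∈ D := fun g hg e he => by
      have := D.mul_mem (hcommD g hg e (hDX he)) he
      simpa [mul_assoc] using this
    let cx : MulAut D :=
      { toFun := fun e => ⟨x * e * x⁻¹, hn x hx e e.2⟩
        invFun := fun e => ⟨x⁻¹ * e * x, by simpa using hn x⁻¹ (X.inv_mem hx) e e.2⟩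
        left_inv := fun e => Subtype.ext (by simp [mul_assoc])
        right_inv := fun e => Subtype.ext (by simp [mul_assoc])
        map_mul' := fun e f => Subtype.ext (by simp [mul_assoc]) }
    let ca : MulAut D :=
      { toFun := fun e => ⟨a * e * a⁻¹, hDchar a ha e e.2⟩
        invFun := fun e => ⟨a⁻¹ * e * a, by simpa using hDchar a⁻¹ (A.inv_mem ha) e e.2⟩
        left_inv := fun e => Subtype.ext (by simp [mul_assoc])
        right_inv := fun e => Subtype.ext (by simp [mul_assoc])
        map_mul' := fun e f => Subtype.ext (by simp [mul_assoc]) }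
    have hc : cx * ca = ca * cx := mulAut_comm_of_isCyclic cx ca
    have h2 : ∀ e ∈ D, x * (a * e * a⁻¹) * x⁻¹ = a * (x * e * x⁻¹) * a⁻¹ := fun e he =>
      congrArg Subtype.val (DFunLike.congr_fun hc (⟨e, he⟩ : D))
    have he : x⁻¹ * a⁻¹ * d * a * x ∈ D := by
      have h5 := hn x⁻¹ (X.inv_mem hx) _ (hDchar a⁻¹ (A.inv_mem ha) d hd)
      simpa [mul_assoc] using h5
    have h3 := h2 _ he
    have e1 : a * (x * (x⁻¹ * a⁻¹ * d * a * x) * x⁻¹) * a⁻¹ = d := by group
    rw [e1] at h3
    rw [commutatorElement_def]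
    calc d * (x * a * x⁻¹ * a⁻¹)
        = x * (a * (x⁻¹ * a⁻¹ * d * a * x) * a⁻¹) * x⁻¹ * (x * a * x⁻¹ * a⁻¹) := by rw [h3]
      _ = x * a * x⁻¹ * a⁻¹ * d := by group
  haveI hYc : IsCyclic Y := by
    haveI : IsZGroup Y :=
      IsZGroup.of_injective (f := Subgroup.inclusion (inf_le_left : Y ≤ X))
        (Subgroup.inclusion_injective inf_le_left)
    haveI : Group.IsNilpotent Y := by
      haveI : Group.IsNilpotent (Abelianization Y) := CommGroup.isNilpotent
      refine Subgroup.isNilpotent_of_ker_le_center (Abelianization.of : Y →* Abelianization Y) ?_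
      rw [Abelianization.ker_of, commutator_def, Subgroup.commutator_le]
      intro u _ v _
      refine Subgroup.mem_center_iff.2 fun y => Subtype.ext ?_
      have hm : ((⁅u, v⁆ : Y) : G) ∈ D := hcommD u u.2.1 v v.2.1
      exact (Subgroup.mem_centralizer_iff.1 y.2.2 _ hm).symm
    infer_instance
  have hK : IsCyclic ↥(⁅X, A⁆ : Subgroup G) :=
    isCyclic_of_injective (Subgroup.inclusion hKY) (Subgroup.inclusion_injective hKY)
  refine ⟨hK, ?_⟩
  haveI : IsMulCommutative ↥(⁅X, A⁆ : Subgroup G) :=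
    ⟨⟨fun a b => (IsCyclic.commGroup (α := ↥(⁅X, A⁆ : Subgroup G))).mul_comm a b⟩⟩
  have hKX := CfsgLib.Coprime.commutator_le_of_le_normalizer hAX
  have h0 := CfsgLib.Coprime.centralizer_inf_commutator_eq_bot
    (A := A) (V := (⁅X, A⁆ : Subgroup G)) (Subgroup.normalizer_commutator_ge_right X A)
    (hcop.coprime_dvd_right (Subgroup.card_dvd_of_le hKX))
  rw [CfsgLib.Coprime.commutator_commutator_eq hAX hcop (Or.inr hXs)] at h0
  refine le_bot_iff.1 ((?_ : _ ≤ _).trans h0.le)
  exact le_inf (le_inf inf_le_left (inf_le_right.trans inf_le_right)) inf_le_left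

end CfsgLib.FTCons
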