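import Cfsg.Agent.Lib.FTCons.PiSeparable
import Cfsg.Agent.Lib.FTCons.ZGroupCoprime
import Cfsg.Agent.Lib.Fusion.SylowAux
import Cfsg.Agent.Lib.Perm.Zass.Complement
import Cfsg.Prelude.Def_OddOrderLocal

/-!
A non-normal TI-subgroup `H` which is a Hall subgroup of its normaliser, in a group which is
separable for the primes of `H`: `G = O N(H)`, and `H` acts without fixed points on a section of
the `π'`-core `O`.
-/

set_option autoImplicit false
set_option linter.style.haveILetI false

universe u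

namespace CfsgLib.FTCons

open scoped Pointwise
open Cfsg CfsgLib.Coprime

variable {G : Type u} [Group G]

/-- The hypotheses. -/
structure TIHall (H O : Subgroup G) : Prop where
  ti : IsTISubset (H : Set G)
  nn : ¬ H.Normal
  hall : (Nat.card H).Coprime (H.subgroupOf (Subgroup.normalizer (H : Set G))).index
  sep : ∃ (n : ℕ) (M : Fin (n + 1) → Subgroup G), M 0 = ⊥ ∧ M (Fin.last n) = ⊤ ∧ Monotone M ∧
    (∀ i, (M i).Normal) ∧
      ∀ i : Fin n, (∀ q : ℕ, q.Prime → q ∣ (M i.castSucc).relIndex (M i.succ) → q ∣ Nat.card H) ∨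
        ((M i.castSucc).relIndex (M i.succ)).Coprime (Nat.card H)
  core : O = sSup {K : Subgroup G | K.Normal ∧ (Nat.card K).Coprime (Nat.card H)}

namespace TIHall

variable [Finite G] {H O : Subgroup G} (h : TIHall H O)
include h

theorem ne_bot : H ≠ ⊥ := fun e => h.nn (by rw [e]; infer_instance)

theorem normalizer_ne_top : Subgroup.normalizer (H : Set G) ≠ ⊤ := fun e =>
  h.nn (Subgroup.normalizer_eq_top_iff.1 e)

theorem piSep : PiSep {q : ℕ | q ∣ Nat.card H} G := by
  obtain ⟨n, M, h0, hn, hm, hN, hs⟩ := h.sep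
  exact ⟨n, M, h0, hn, hm, hN, fun i => (hs i).imp id fun hc q hq hd hd' => by
    have h1 := Nat.dvd_gcd hd hd'
    rw [show Nat.gcd _ _ = 1 from hc] at h1
    exact hq.not_dvd_one h1⟩

theorem mem_normalizer_of_conj {x g : G} (hx : x ∈ H) (hx1 : x ≠ 1)
    (hg : g * x * g⁻¹ ∈ H) : g ∈ Subgroup.normalizer (H : Set G) :=
  not_not.1 fun hn => hx1 (h.ti g hn x hx hg)

/-- `H` is a Hall subgroup of `G`. -/
theorem isPiHall : IsPiHall {q : ℕ | q ∣ Nat.card H} H := by
  refine ⟨fun p _ hd => hd, fun p hp hpπ hd => ?_⟩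
  haveI := Fact.mk hp
  obtain ⟨P⟩ := (inferInstance : Nonempty (Sylow p H))
  let R : Subgroup G := (P : Subgroup H).map H.subtype
  have hRH : R ≤ H := Subgroup.map_subtype_le _
  have hRp : IsPGroup p R := P.2.map _
  have hRc : Nat.card R = p ^ (Nat.card H).factorization p := by
    rw [Subgroup.card_map_of_injective H.subtype_injective, P.card_eq_multiplicity]
  have hR1 : R ≠ ⊥ := fun e => by
    rw [e, Subgroup.card_bot] at hRc
    have := hp.factorization_pos_of_dvd Nat.card_pos.ne' hpπ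
    exact absurd hRc.symm (ne_of_gt (Nat.one_lt_pow this.ne' hp.one_lt))
  obtain ⟨T, hT⟩ := hRp.exists_le_sylow
  rcases eq_or_lt_of_le hT with heq | hlt
  · refine T.not_dvd_index ?_
    rw [← heq]
    exact hd.trans (Subgroup.index_dvd_of_le hRH)
  · obtain ⟨y, hy, hyR⟩ := SetLike.exists_of_lt (CfsgLib.Fusion.lt_inf_normalizer T.2 hlt)
    obtain ⟨r, hr, hr1⟩ : ∃ r ∈ R, r ≠ 1 := by
      by_contra hcon
      push Not at hcon
      exact hR1 ((Subgroup.eq_bot_iff_forall _).2 hcon)
    have hyN : y ∈ Subgroup.normalizer (H : Set G) := h.mem_normalizer_of_conj (hRH hr) hr1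
      (hRH ((Subgroup.mem_normalizer_iff.1 hy.2 r).1 hr))
    obtain ⟨k, hk⟩ := T.2 ⟨y, hy.1⟩
    have hk' : y ^ p ^ k = 1 := congrArg Subtype.val hk
    have hyH : y ∈ H := by
      have h1 : orderOf ((⟨y, hyN⟩ : Subgroup.normalizer (H : Set G)) :
          Subgroup.normalizer (H : Set G) ⧸ H.subgroupOf _) ∣ p ^ k := by
        refine orderOf_dvd_of_pow_eq_one ?_
        rw [← QuotientGroup.mk_pow, show (⟨y, hyN⟩ : Subgroup.normalizer (H : Set G)) ^ p ^ k = 1
          from Subtype.ext (by simpa using hk')]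
        rfl
      have h2 : orderOf ((⟨y, hyN⟩ : Subgroup.normalizer (H : Set G)) :
          Subgroup.normalizer (H : Set G) ⧸ H.subgroupOf _) = 1 :=
        Nat.eq_one_of_dvd_coprimes (Nat.Coprime.pow_left k
          (Nat.Coprime.coprime_dvd_left hpπ h.hall)) h1 (orderOf_dvd_natCard _)
      rwa [orderOf_eq_one_iff, QuotientGroup.eq_one_iff] at h2
    -- `R` is a Sylow subgroup of `H`
    have hsup : R ⊔ Subgroup.zpowers y ≤ ((T : Subgroup G) ⊓ H) :=
      sup_le (le_inf hT hRH) (Subgroup.zpowers_le.2 ⟨hy.1, hyH⟩)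
    have h3 : IsPGroup p (((T : Subgroup G) ⊓ H).subgroupOf H) :=
      (T.2.to_le inf_le_left).comap_of_injective H.subtype H.subtype_injective
    have h4 := P.3 h3 (fun z hz => ⟨hT ⟨z, hz, rfl⟩, z.2⟩)
    have h5 : (⟨y, hyH⟩ : H) ∈ ((T : Subgroup G) ⊓ H).subgroupOf H := ⟨hy.1, hyH⟩
    rw [h4] at h5
    exact hyR ⟨_, h5, rfl⟩

theorem core_mem : O.Normal ∧ (Nat.card O).Coprime (Nat.card H) ∧
    ∀ K : Subgroup G, K.Normal → (Nat.card K).Coprime (Nat.card H) → K ≤ O := by
  obtain ⟨K₀, hK₀⟩ := Set.Finite.exists_maximal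
    (s := {K : Subgroup G | K.Normal ∧ (Nat.card K).Coprime (Nat.card H)}) (Set.toFinite _)
    ⟨⊥, inferInstance, by rw [Subgroup.card_bot]; exact Nat.coprime_one_left _⟩
  have hmax : ∀ K : Subgroup G, K.Normal → (Nat.card K).Coprime (Nat.card H) → K ≤ K₀ := by
    intro K hK hc
    haveI := hK
    haveI := hK₀.1.1
    have hmem : (K₀ ⊔ K).Normal ∧ (Nat.card ↥(K₀ ⊔ K)).Coprime (Nat.card H) := by
      refine ⟨inferInstance, Nat.Coprime.coprime_dvd_left ?_ (hK₀.1.2.mul_left hc)⟩
      exact ⟨_, (card_sup_mul_card_inf (H := K₀) (N := K)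
        Subgroup.le_normalizer_of_normal).symm⟩
    exact le_sup_right.trans (hK₀.2 hmem le_sup_left)
  have e : O = K₀ := by
    rw [h.core]
    exact le_antisymm (sSup_le fun K hK => hmax K hK.1 hK.2) (le_sSup hK₀.1)
  rw [e]
  exact ⟨hK₀.1.1, hK₀.1.2, hmax⟩

theorem inf_core : H ⊓ O = ⊥ :=
  Subgroup.inf_eq_bot_of_coprime h.core_mem.2.1.symm

/-- `G = O N(H)` and `O H` is normal. -/
theorem sup_normalizer (hFT : CfsgLib.FT.OddOrderThm.{u}) :
    O ⊔ Subgroup.normalizer (H : Set G) = ⊤ ∧ (O ⊔ H).Normal := by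
  obtain ⟨hOn, hOc, hOmax⟩ := h.core_mem
  haveI := hOn
  set π : Set ℕ := {q : ℕ | q ∣ Nat.card H}
  have hH := h.isPiHall
  let f := QuotientGroup.mk' O
  -- an element of `H` cannot be moved inside `O H` by an element outside `O N(H)`
  have hti : ∀ x ∈ H, x ≠ 1 → ∀ g : G, g * x * g⁻¹ ∈ O ⊔ H →
      g ∈ O ⊔ Subgroup.normalizer (H : Set G) := by
    intro x hx hx1 g hg
    let L := O ⊔ H
    let y : L := ⟨g * x * g⁻¹, hg⟩
    have hy : IsPiSubgroup π (Subgroup.zpowers y) := by
      intro q hq hd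
      rw [Nat.card_zpowers, ← Subgroup.orderOf_coe] at hd
      have h1 : orderOf (g * x * g⁻¹) = orderOf x :=
        orderOf_injective (MulAut.conj g).toMonoidHom (MulAut.conj g).injective x
      rw [show ((y : L) : G) = g * x * g⁻¹ from rfl, h1] at hd
      exact hd.trans (Subgroup.orderOf_dvd_natCard H hx)
    have hHL : IsPiHall π (H.subgroupOf L) := piHall_subgroupOf hH le_sup_right
    obtain ⟨l, hl⟩ := (hallD_of_piSep hFT (h.piSep.subgroup L)).conj_le hy hHL
    have hmem : MulAut.conj l • y ∈ MulAut.conj l • Subgroup.zpowers y :=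
      Subgroup.smul_mem_pointwise_smul y _ _ (Subgroup.mem_zpowers y)
    have h2 : (l : G) * (g * x * g⁻¹) * (l : G)⁻¹ ∈ H := hl hmem
    have h3 : (l : G) * g ∈ Subgroup.normalizer (H : Set G) := by
      refine h.mem_normalizer_of_conj hx hx1 ?_
      rwa [show (l : G) * g * x * ((l : G) * g)⁻¹ = (l : G) * (g * x * g⁻¹) * (l : G)⁻¹ by group]
    have hL : L ≤ O ⊔ Subgroup.normalizer (H : Set G) := sup_le_sup_left Subgroup.le_normalizer O
    have := (O ⊔ Subgroup.normalizer (H : Set G)).mul_mem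
      ((O ⊔ Subgroup.normalizer (H : Set G)).inv_mem (hL l.2)) (Subgroup.mem_sup_right h3)
    simpa [← mul_assoc] using this
  -- a nontrivial normal `π`-subgroup of `G ⧸ O`
  obtain ⟨R, hRn, hRO, hRH⟩ : ∃ R : Subgroup G, R.Normal ∧ ¬ R ≤ O ∧ R ≤ O ⊔ H := by
    obtain ⟨n, M, h0, hn, hm, hN, hs⟩ := h.piSep
    obtain ⟨i, hi, hi'⟩ : ∃ i : Fin n, M i.castSucc ≤ O ∧ ¬ M i.succ ≤ O := by
      by_contra hcon
      push Not at hcon
      have hall : ∀ i : Fin (n + 1), M i ≤ O := by
        intro i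
        induction i using Fin.induction with
        | zero => rw [h0]; exact bot_le
        | succ i ih => exact hcon i ih
      have hO : O = ⊤ := top_le_iff.1 (hn ▸ hall _)
      have hHO := h.inf_core
      rw [hO, inf_top_eq] at hHO
      exact h.ne_bot hHO
    refine ⟨M i.succ, hN _, hi', ?_⟩
    haveI := hN i.succ
    let R := M i.succ ⊔ O
    have hrel : O.relIndex R ∣ (M i.castSucc).relIndex (M i.succ) := by
      show O.relIndex (M i.succ ⊔ O) ∣ _
      rw [sup_comm, Subgroup.relIndex_sup_left]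
      exact Subgroup.relIndex_dvd_of_le_left _ hi
    rcases hs i with hpi | hpi
    · -- a `π`-section: it lies in the image of `H`
      have hker : f.ker = O := QuotientGroup.ker_mk' O
      let R' := (M i.succ).map f
      haveI : R'.Normal := (hN i.succ).map f (QuotientGroup.mk'_surjective O)
      have hR'c : Nat.card R' ∣ (M i.castSucc).relIndex (M i.succ) := by
        refine dvd_trans (dvd_of_eq ?_) hrel
        show Nat.card ((M i.succ).map f) = O.relIndex (M i.succ ⊔ O)
        rw [sup_comm, Subgroup.relIndex_sup_left, Subgroup.relIndex, Subgroup.index]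
        have e : O.subgroupOf (M i.succ) = (f.comp (M i.succ).subtype).ker := by
          ext z
          rw [Subgroup.mem_subgroupOf, MonoidHom.mem_ker]
          exact (QuotientGroup.eq_one_iff (z : G)).symm
        rw [e, Nat.card_congr (QuotientGroup.quotientKerEquivRange _).toEquiv,
          MonoidHom.range_comp, Subgroup.range_subtype]
      let H' := H.map f
      have hle : R' ≤ H' := by
        refine Subgroup.relIndex_eq_one.1 ?_ |> le_sup_left.trans (b := R' ⊔ H')
        refine Nat.eq_one_of_dvd_coprimes (a := H'.index) (b := Nat.card ↥(R' ⊔ H')) ?_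
          (Subgroup.relIndex_dvd_index_of_le le_sup_right)
          (Subgroup.relIndex_dvd_card _ _)
        refine Nat.coprime_of_dvd' fun q hq hq1 hq2 => False.elim ?_
        have e := card_sup_mul_card_inf (H := H') (N := R') Subgroup.le_normalizer_of_normal
        have h1 : Nat.card ↥(R' ⊔ H') ∣ Nat.card R' * Nat.card H' := by
          rw [sup_comm, mul_comm (Nat.card R'), ← e]
          exact dvd_mul_right _ _
        have h2 : q ∈ π := by
          rcases hq.dvd_mul.1 (hq2.trans h1) with hd | hd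
          · exact hpi q hq (hd.trans hR'c)
          · exact hH.1 q hq (hd.trans (Subgroup.card_map_dvd H f))
        exact hH.2 q hq h2 (hq1.trans (Subgroup.index_map_dvd H (QuotientGroup.mk'_surjective O)))
      intro z hz
      obtain ⟨w, hw, hwz⟩ := hle ⟨z, hz, rfl⟩
      have h1 : w⁻¹ * z ∈ O := QuotientGroup.eq.1 hwz
      have := Subgroup.mul_mem (O ⊔ H) (Subgroup.mem_sup_right hw) (Subgroup.mem_sup_left h1)
      simpa using this
    · exfalso
      refine hi' (le_sup_left.trans (hOmax R inferInstance ?_))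
      have hc : Nat.card R = Nat.card O * O.relIndex R := by
        have := Subgroup.relIndex_mul_relIndex ⊥ O R bot_le le_sup_right
        simpa [Subgroup.relIndex_bot_left] using this.symm
      rw [hc]
      refine hOc.mul_left (Nat.Coprime.coprime_dvd_left hrel ?_)
      exact Nat.coprime_of_dvd' fun q hq hd hd' => absurd hd' (hpi q hq hd)
  obtain ⟨z, hzR, hzO⟩ := SetLike.not_le_iff_exists.1 hRO
  obtain ⟨o, ho, x, hx, rfl⟩ : ∃ o ∈ O, ∃ x ∈ H, o * x = z :=
    Subgroup.mem_sup_of_normal_left.1 (hRH hzR)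
  have hx1 : x ≠ 1 := fun e => hzO (by rw [e, mul_one]; exact ho)
  have htop : O ⊔ Subgroup.normalizer (H : Set G) = ⊤ := by
    refine eq_top_iff.2 fun g _ => hti x hx hx1 g ?_
    have h1 : g * (o * x) * g⁻¹ ∈ O ⊔ H := hRH (hRn.conj_mem _ hzR g)
    have := Subgroup.mul_mem (O ⊔ H)
      (Subgroup.mem_sup_left (hOn.conj_mem _ (O.inv_mem ho) g)) h1
    simpa [mul_assoc] using this
  refine ⟨htop, Subgroup.normalizer_eq_top_iff.1 (top_le_iff.1 ?_)⟩
  rw [← htop]
  refine sup_le (le_sup_left.trans Subgroup.le_normalizer) ?_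
  exact CfsgLib.Coprime.le_normalizer_sup_sup (Subgroup.le_normalizer_of_normal) le_rfl

end TIHall

end CfsgLib.FTCons
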