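import Cfsg.Agent.Lib.FTCons.TIHall

/-!
The action of the TI-subgroup `H` on the core `O`, the solvability criterion, and the structure
for abelian Sylow `2`-subgroups.
-/

set_option autoImplicit false
set_option linter.style.haveILetI false

universe u

namespace CfsgLib.FTCons

open scoped Pointwise
open Cfsg CfsgLib.Coprime CfsgLib.Perm.Zass

variable {G : Type u} [Group G]

namespace TIHall

variable [Finite G] {H O : Subgroup G} (h : TIHall H O)
include h

theorem mem_centralizer_of_commute {k c : G} (hk : k ∈ H) (hk1 : k ≠ 1) (hc : c ∈ O)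
    (hkc : k * c = c * k) : c ∈ Subgroup.centralizer (H : Set G) := by
  obtain ⟨hOn, -, -⟩ := h.core_mem
  have hcN : c ∈ Subgroup.normalizer (H : Set G) := by
    refine h.mem_normalizer_of_conj hk hk1 ?_
    rw [← hkc, mul_inv_cancel_right]; exact hk
  refine Subgroup.mem_centralizer_iff.2 fun j hj => ?_
  have h1 : c * j * c⁻¹ * j⁻¹ ∈ H ⊓ O := by
    refine ⟨H.mul_mem ((Subgroup.mem_normalizer_iff.1 hcN j).1 hj) (H.inv_mem hj), ?_⟩
    rw [mul_assoc c, mul_assoc c]
    exact O.mul_mem hc (hOn.conj_mem _ (O.inv_mem hc) j)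
  rw [h.inf_core, Subgroup.mem_bot, mul_inv_eq_one, mul_inv_eq_iff_eq_mul] at h1
  exact h1.symm

theorem isSolvable_or (hFT : CfsgLib.FT.OddOrderThm.{u}) :
    Group.IsSolvable H ∨ Group.IsSolvable O := by
  by_cases he : Odd (Nat.card H)
  · exact Or.inl (hFT H he)
  · refine Or.inr (hFT O (Nat.not_even_iff_odd.1 fun hO => ?_))
    exact Nat.prime_two.not_dvd_one (h.core_mem.2.1 ▸
      Nat.dvd_gcd (even_iff_two_dvd.1 hO) (even_iff_two_dvd.1 (Nat.not_odd_iff_even.1 he)))

/-- `H` is nontrivial on some invariant Sylow subgroup of `O`. -/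
theorem exists_sylow_not_le (hFT : CfsgLib.FT.OddOrderThm.{u}) :
    ∃ (p : ℕ) (P : Subgroup G), p.Prime ∧ IsPGroup p P ∧ P ≤ O ∧
      H ≤ Subgroup.normalizer (P : Set G) ∧ ¬ P ≤ Subgroup.centralizer (H : Set G) := by
  obtain ⟨hOn, hOc, -⟩ := h.core_mem
  haveI := hOn
  by_contra hcon
  push Not at hcon
  have hle : O ≤ Subgroup.centralizer (H : Set G) := by
    let Z := O ⊓ Subgroup.centralizer (H : Set G)
    have hd : Nat.card O ∣ Nat.card Z := by
      rw [← Nat.factorization_le_iff_dvd Nat.card_pos.ne' Nat.card_pos.ne']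
      intro p
      by_cases hp : p.Prime
      swap
      · rw [Nat.factorization_eq_zero_of_not_prime _ hp]; exact Nat.zero_le _
      haveI := Fact.mk hp
      obtain ⟨P, hP⟩ := exists_invariant_sylow (p := p)
        (Subgroup.le_normalizer_of_normal : H ≤ Subgroup.normalizer (O : Set G)) hOc.symm
        (h.isSolvable_or hFT)
      let R : Subgroup G := (P : Subgroup O).map O.subtype
      have hR : R ≤ Z := le_inf (Subgroup.map_subtype_le _)
        (hcon p R hp (P.2.map _) (Subgroup.map_subtype_le _) hP)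
      have hc := Subgroup.card_dvd_of_le hR
      rw [Subgroup.card_map_of_injective O.subtype_injective, P.card_eq_multiplicity] at hc
      exact (hp.pow_dvd_iff_le_factorization Nat.card_pos.ne').1 hc
    have := Subgroup.eq_of_le_of_card_ge (inf_le_left : Z ≤ O) (Nat.le_of_dvd Nat.card_pos hd)
    exact this.ge.trans inf_le_right
  have hN : O ≤ Subgroup.normalizer (H : Set G) := fun c hc =>
    Subgroup.mem_normalizer_iff.2 fun j => ⟨fun hj => by
      rw [← Subgroup.mem_centralizer_iff.1 (hle hc) j hj, mul_inv_cancel_right]; exact hj,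
      fun hj => by
        have h1 := Subgroup.mem_centralizer_iff.1 (hle hc) _ hj
        have h2 : c * j * c⁻¹ = j := by
          calc c * j * c⁻¹ = c⁻¹ * (c * (c * j * c⁻¹)) := by group
            _ = c⁻¹ * ((c * j * c⁻¹) * c) := by rw [h1]
            _ = j := by group
        rwa [h2] at hj⟩
  refine h.normalizer_ne_top ?_
  rw [← (h.sup_normalizer hFT).1, sup_eq_right.2 hN]

/-- `H` has a fixed-point-free representation. -/
theorem exists_fpf (hFT : CfsgLib.FT.OddOrderThm.{u}) :
    ∃ n, ∃ ρ : H →* Module.End (AlgebraicClosure ℚ) (Fin (n + 1) → AlgebraicClosure ℚ),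
      Fpf ρ := by
  obtain ⟨hOn, hOc, -⟩ := h.core_mem
  obtain ⟨p, P, hp, hPp, hPO, hHP, hPZ⟩ := h.exists_sylow_not_le hFT
  haveI := Fact.mk hp
  let D := P ⊓ Subgroup.centralizer (H : Set G)
  have hDP : D < P := lt_of_le_of_ne inf_le_left fun e => hPZ (e ▸ inf_le_right)
  let M := P ⊓ Subgroup.normalizer (D : Set G)
  have hDM : D < M := CfsgLib.Fusion.lt_inf_normalizer hPp hDP
  have hfixD : ∀ k ∈ H, ∀ d ∈ D, k * d * k⁻¹ = d := fun k hk d hd => by
    rw [Subgroup.mem_centralizer_iff.1 hd.2 k hk, mul_inv_cancel_right]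
  have hHD : H ≤ Subgroup.normalizer (D : Set G) := fun k hk =>
    Subgroup.mem_normalizer_iff.2 fun d => ⟨fun hd => (hfixD k hk d hd).symm ▸ hd, fun hd => by
      have h1 := hfixD k⁻¹ (H.inv_mem hk) _ hd
      have h2 : d = k * d * k⁻¹ := by simpa [mul_assoc] using h1
      exact h2 ▸ hd⟩
  have hHM : H ≤ Subgroup.normalizer (M : Set G) :=
    le_normalizer_inf_inf hHP (hHD.trans Subgroup.le_normalizer)
  haveI hDn : (D.subgroupOf M).Normal :=
    Subgroup.normal_subgroupOf_of_le_normalizer inf_le_right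
  let ψ : H →* MulAut M := M.normalizerMonoidHom.comp (Subgroup.inclusion hHM)
  have hψD : ∀ k : H, (D.subgroupOf M).map (ψ k).toMonoidHom = D.subgroupOf M := by
    intro k
    have hfix : ∀ d ∈ D.subgroupOf M, ψ k d = d := fun d hd =>
      Subtype.ext (hfixD k k.2 d hd)
    ext d
    refine ⟨?_, fun hd => ⟨d, hd, hfix d hd⟩⟩
    rintro ⟨e, he, rfl⟩
    show ψ k e ∈ D.subgroupOf M
    rw [hfix e he]; exact he
  let φ : H →* MulAut (M ⧸ D.subgroupOf M) :=
    { toFun := fun k => QuotientGroup.congr _ _ (ψ k) (hψD k)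
      map_one' := MulEquiv.ext fun x => by
        obtain ⟨m, rfl⟩ := QuotientGroup.mk_surjective x
        show ((ψ 1 m : M) : M ⧸ D.subgroupOf M) = _
        rw [map_one]; rfl
      map_mul' := fun a b => MulEquiv.ext fun x => by
        obtain ⟨m, rfl⟩ := QuotientGroup.mk_surjective x
        show ((ψ (a * b) m : M) : M ⧸ D.subgroupOf M) = _
        rw [map_mul]; rfl }
  haveI : Nontrivial H := (Subgroup.nontrivial_iff_ne_bot H).2 h.ne_bot
  haveI : Nontrivial (M ⧸ D.subgroupOf M) := by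
    obtain ⟨m, hm, hmD⟩ := SetLike.exists_of_lt hDM
    exact ⟨⟨_, 1, fun e => hmD ((QuotientGroup.eq_one_iff (⟨m, hm⟩ : M)).1 e)⟩⟩
  have hcop : ∀ k : H, (Nat.card (Subgroup.zpowers (k : G))).Coprime (Nat.card D) := fun k =>
    ((hOc.symm.coprime_dvd_left (Subgroup.card_dvd_of_le (Subgroup.zpowers_le.2 k.2)))
      ).coprime_dvd_right (Subgroup.card_dvd_of_le (inf_le_left.trans hPO))
  refine (hasIntFpf_of_action φ fun k hk x hx => ?_).exists_fpf _
  obtain ⟨⟨m, hm⟩, rfl⟩ := QuotientGroup.mk_surjective x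
  have hk1 : (k : G) ≠ 1 := fun e => hk (Subtype.ext e)
  have hfix : ∀ a ∈ Subgroup.zpowers (k : G), m⁻¹ * (a * m * a⁻¹) ∈ D := by
    intro a ha
    obtain ⟨i, rfl⟩ := Subgroup.mem_zpowers_iff.1 ha
    have hst : φ k ∈ MulAction.stabilizer (MulAut (M ⧸ D.subgroupOf M))
        ((⟨m, hm⟩ : M) : M ⧸ D.subgroupOf M) := hx
    have h1 : φ (k ^ i) ((⟨m, hm⟩ : M) : M ⧸ D.subgroupOf M) =
        ((⟨m, hm⟩ : M) : M ⧸ D.subgroupOf M) := by
      rw [map_zpow]; exact Subgroup.zpow_mem _ hst i
    have h2 : (ψ (k ^ i) ⟨m, hm⟩ : M) = (ψ (k ^ i) ⟨m, hm⟩ : M) := rfl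
    have h3 := QuotientGroup.eq.1 (Eq.symm h1)
    have h4 : m⁻¹ * (ψ (k ^ i) ⟨m, hm⟩ : G) ∈ D := h3
    exact h4
  obtain ⟨c, hc, hmc⟩ := exists_centralizing_in_coset (A := Subgroup.zpowers (k : G)) (N := D)
    ((Subgroup.zpowers_le.2 k.2).trans hHD) (hcop k)
    (Or.inl (isSolvable_of_comm fun a b => Subtype.ext (by
      obtain ⟨i, hi⟩ := Subgroup.mem_zpowers_iff.1 a.2
      obtain ⟨j, hj⟩ := Subgroup.mem_zpowers_iff.1 b.2
      simp only [Subgroup.coe_mul, ← hi, ← hj, ← zpow_add, add_comm]))) hfix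
  have hcP : c ∈ P := by
    have := P.mul_mem hm.1 (hDP.le hmc)
    rwa [mul_inv_cancel_left] at this
  have hcD : c ∈ D := ⟨hcP, h.mem_centralizer_of_commute k.2 hk1 (hPO hcP)
    (Subgroup.mem_centralizer_iff.1 hc _ (Subgroup.mem_zpowers _))⟩
  refine (QuotientGroup.eq_one_iff _).2 ?_
  rw [Subgroup.mem_subgroupOf]
  have := D.mul_mem hcD (D.inv_mem hmc)
  simpa using this

/-- A complement-free version of the structure: the kernel of `N(H) → Aut H` lies in `O H`. -/
theorem centralizer_le (hFT : CfsgLib.FT.OddOrderThm.{u}) :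
    Subgroup.centralizer (H : Set G) ≤ O ⊔ H := by
  obtain ⟨hOn, hOc, hOmax⟩ := h.core_mem
  haveI := hOn
  have htop := (h.sup_normalizer hFT).1
  let C := Subgroup.centralizer (H : Set G)
  have hCN : C ≤ Subgroup.normalizer (H : Set G) := fun c hc =>
    Subgroup.mem_normalizer_iff.2 fun j => ⟨fun hj => by
      rw [← Subgroup.mem_centralizer_iff.1 hc j hj, mul_inv_cancel_right]; exact hj,
      fun hj => by
        have h1 := Subgroup.mem_centralizer_iff.1 hc _ hj
        have h2 : c * j * c⁻¹ = j := by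
          calc c * j * c⁻¹ = c⁻¹ * (c * (c * j * c⁻¹)) := by group
            _ = c⁻¹ * ((c * j * c⁻¹) * c) := by rw [h1]
            _ = j := by group
        rwa [h2] at hj⟩
  let Z := H ⊓ C
  have hZc : ∀ z ∈ Z, ∀ c ∈ C, z * c = c * z := fun z hz c hc =>
    Subgroup.mem_centralizer_iff.1 hc z hz.1
  have hidx : Z.relIndex C ∣ (H.subgroupOf (Subgroup.normalizer (H : Set G))).index := by
    show (H ⊓ C).relIndex C ∣ H.relIndex (Subgroup.normalizer (H : Set G))
    rw [Subgroup.inf_relIndex_right]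
    haveI : (H.subgroupOf (Subgroup.normalizer (H : Set G))).Normal :=
      Subgroup.normal_subgroupOf_of_le_normalizer le_rfl
    rw [← Subgroup.relIndex_subgroupOf hCN]
    exact Subgroup.relIndex_dvd_index_of_normal _ _
  have hcopZ : (Nat.card Z).Coprime (Z.relIndex C) :=
    (h.hall.coprime_dvd_left (Subgroup.card_dvd_of_le inf_le_left)).coprime_dvd_right hidx
  obtain ⟨B, hBC, hBc, hBsup⟩ := exists_complement_in (inf_le_right : Z ≤ C)
    (fun c hc => Subgroup.mem_normalizer_iff.2 fun z => ⟨fun hz => by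
      rw [← hZc z hz c hc, mul_inv_cancel_right]; exact hz, fun hz => by
      have h1 := hZc _ hz c hc
      have h2 : c * z * c⁻¹ = z := by
        calc c * z * c⁻¹ = c⁻¹ * (c * (c * z * c⁻¹)) := by group
          _ = c⁻¹ * ((c * z * c⁻¹) * c) := by rw [h1]
          _ = z := by group
      rwa [h2] at hz⟩) hcopZ
  have hBH : (Nat.card B).Coprime (Nat.card H) := by
    rw [hBc]; exact (h.hall.coprime_dvd_right hidx).symm
  -- `B` is normalised by `N(H)`
  have hZn : ∀ c ∈ C, ∃ z ∈ Z, ∃ b ∈ B, c = z * b := by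
    intro c hc
    rw [← hBsup] at hc
    have hcl : (Z : Set G) * B = ((Z ⊔ B : Subgroup G) : Set G) := by
      refine (Subgroup.coe_mul_of_right_le_normalizer_left Z B fun b hb => ?_).symm
      refine Subgroup.mem_normalizer_iff.2 fun z => ⟨fun hz => ?_, fun hz => ?_⟩
      · rw [← hZc z hz b (hBC hb), mul_inv_cancel_right]; exact hz
      · have h1 := hZc _ hz b (hBC hb)
        have h2 : b * z * b⁻¹ = z := by
          calc b * z * b⁻¹ = b⁻¹ * (b * (b * z * b⁻¹)) := by group
            _ = b⁻¹ * ((b * z * b⁻¹) * b) := by rw [h1]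
            _ = z := by group
        rwa [h2] at hz
    rw [← SetLike.mem_coe, ← hcl] at hc
    obtain ⟨z, hz, b, hb, rfl⟩ := hc
    exact ⟨z, hz, b, hb, rfl⟩
  have hBn : Subgroup.normalizer (H : Set G) ≤ Subgroup.normalizer (B : Set G) := by
    rw [le_normalizer_iff_conj_smul]
    intro n hn
    refine Subgroup.eq_of_le_of_card_ge ?_
      (le_of_eq (Nat.card_congr (Subgroup.equivSMul (MulAut.conj n) B).toEquiv))
    intro y hy
    rw [Subgroup.mem_pointwise_smul_iff_inv_smul_mem] at hy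
    rw [← map_inv] at hy
    have hb : n⁻¹ * y * n ∈ B := by simpa [MulAut.smul_def, MulAut.conj_apply] using hy
    have hyC : y ∈ C := by
      refine Subgroup.mem_centralizer_iff.2 fun j hj => ?_
      have hj' : n⁻¹ * j * n ∈ H := (Subgroup.mem_normalizer_iff''.1 hn j).1 hj
      have h1 := Subgroup.mem_centralizer_iff.1 (hBC hb) _ hj'
      calc j * y = n * ((n⁻¹ * j * n) * (n⁻¹ * y * n)) * n⁻¹ := by group
        _ = n * ((n⁻¹ * y * n) * (n⁻¹ * j * n)) * n⁻¹ := by rw [h1]
        _ = y * j := by group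
    obtain ⟨z, hz, b, hb', rfl⟩ := hZn y hyC
    have ho : (z * b) ^ Nat.card B = 1 := by
      have h1 : (n⁻¹ * (z * b) * n) ^ Nat.card B = 1 := by
        exact (SubmonoidClass.coe_pow (⟨_, hb⟩ : B) _).symm.trans
          (congrArg Subtype.val pow_card_eq_one')
      have h2 : (n⁻¹ * (z * b) * n) ^ Nat.card B = n⁻¹ * (z * b) ^ Nat.card B * n := by
        simpa using conj_pow (i := Nat.card B) (a := n⁻¹) (b := z * b)
      rw [h2] at h1
      calc (z * b) ^ Nat.card B = n * (n⁻¹ * (z * b) ^ Nat.card B * n) * n⁻¹ := by group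
        _ = 1 := by rw [h1]; group
    have hz1 : z ^ Nat.card B = 1 := by
      have hcomm : Commute z b := hZc z hz b (hBC hb')
      rw [hcomm.mul_pow] at ho
      have hb1 : b ^ Nat.card B = 1 := by
        exact (SubmonoidClass.coe_pow (⟨_, hb'⟩ : B) _).symm.trans
          (congrArg Subtype.val pow_card_eq_one')
      rwa [hb1, mul_one] at ho
    have : z = 1 := by
      rw [← orderOf_eq_one_iff]
      exact Nat.eq_one_of_dvd_coprimes hBH (orderOf_dvd_of_pow_eq_one hz1)
        (Subgroup.orderOf_dvd_natCard H hz.1)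
    rw [this, one_mul]; exact hb'
  have hBO : B ≤ O := by
    refine le_sup_right.trans (hOmax (O ⊔ B) ?_ ?_)
    · refine Subgroup.normalizer_eq_top_iff.1 (top_le_iff.1 ?_)
      rw [← htop]
      exact sup_le (le_sup_left.trans Subgroup.le_normalizer)
        (le_normalizer_sup_sup Subgroup.le_normalizer_of_normal hBn)
    · refine Nat.Coprime.coprime_dvd_left ?_ (hOc.mul_left hBH)
      rw [sup_comm]
      exact ⟨_, ((card_sup_mul_card_inf (H := B) (N := O) Subgroup.le_normalizer_of_normal).trans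
        (mul_comm _ _)).symm⟩
  intro c hc
  have : c ∈ Z ⊔ B := by rw [hBsup]; exact hc
  exact sup_le (inf_le_left.trans le_sup_right) (hBO.trans le_sup_left) this

theorem isSolvable_of_core (hFT : CfsgLib.FT.OddOrderThm.{u}) (hO : Group.IsSolvable O)
    (hSL : ∀ K : Subgroup G, K ≤ H →
      ¬ Nonempty (K ≃* Matrix.SpecialLinearGroup (Fin 2) (ZMod 5))) : Group.IsSolvable G := by
  obtain ⟨hOn, hOc, -⟩ := h.core_mem
  haveI := hOn
  obtain ⟨htop, hLn⟩ := h.sup_normalizer hFT
  haveI := hLn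
  obtain ⟨n, ρ, hρ⟩ := h.exists_fpf hFT
  haveI hHs : Group.IsSolvable H := by
    by_contra hns
    obtain ⟨R, -, hR1, hRp⟩ := exists_perfect_normal hns
    haveI : Nontrivial R := (Subgroup.nontrivial_iff_ne_bot R).2 hR1
    obtain ⟨e⟩ := mulEquiv_SL_five_of_perfect (hρ.comp_subtype R) hRp
    exact hSL (R.map H.subtype) (Subgroup.map_subtype_le R)
      ⟨(R.equivMapOfInjective H.subtype H.subtype_injective).symm.trans e⟩
  -- the solvability of `G ⧸ O H`
  let N := Subgroup.normalizer (H : Set G)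
  let θ : N →* G ⧸ (O ⊔ H) := (QuotientGroup.mk' (O ⊔ H)).comp N.subtype
  have hθ : Function.Surjective θ := by
    intro q
    obtain ⟨g, rfl⟩ := QuotientGroup.mk_surjective q
    have hg : g ∈ O ⊔ N := by rw [htop]; trivial
    obtain ⟨o, ho, m, hm, rfl⟩ := Subgroup.mem_sup_of_normal_left.1 hg
    refine ⟨⟨m, hm⟩, QuotientGroup.eq.2 ?_⟩
    have := Subgroup.mem_sup_left (T := H) (hOn.conj_mem o ho m⁻¹)
    simpa [mul_assoc] using this
  haveI : Group.IsSolvable (G ⧸ (O ⊔ H)) := by
    by_cases he : Odd (Nat.card H)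
    · haveI : IsZGroup H := isZGroup_of_odd hρ
        (fun hd => Nat.not_even_iff_odd.2 he (even_iff_two_dvd.2 hd))
      haveI := isSolvable_mulAut_of_isZGroup (X := H)
      let χ : N →* MulAut H := H.normalizerMonoidHom
      haveI : χ.ker.Normal := inferInstance
      have hker : χ.ker ≤ θ.ker := by
        intro x hx
        rw [MonoidHom.mem_ker]
        refine (QuotientGroup.eq_one_iff (x : G)).2 (h.centralizer_le hFT ?_)
        refine Subgroup.mem_centralizer_iff.2 fun j hj => ?_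
        have h1 : (x : G) * j * (x : G)⁻¹ = j :=
          congrArg Subtype.val (DFunLike.congr_fun (MonoidHom.mem_ker.1 hx) (⟨j, hj⟩ : H))
        exact (mul_inv_eq_iff_eq_mul.1 h1).symm
      haveI : Group.IsSolvable (N ⧸ χ.ker) :=
        solvable_of_solvable_injective (f := (QuotientGroup.quotientKerEquivRange χ).toMonoidHom)
          (QuotientGroup.quotientKerEquivRange χ).injective
      refine solvable_of_surjective (f := QuotientGroup.lift χ.ker θ hker) fun q => ?_
      obtain ⟨x, rfl⟩ := hθ q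
      exact ⟨x, rfl⟩
    · refine hFT _ ((Nat.not_even_iff_odd).1 fun hq => ?_)
      have hd : Nat.card (G ⧸ (O ⊔ H)) ∣ (H.subgroupOf N).index := by
        haveI : (H.subgroupOf N).Normal := Subgroup.normal_subgroupOf_of_le_normalizer le_rfl
        have hle : H.subgroupOf N ≤ θ.ker := fun x hx => by
          rw [MonoidHom.mem_ker]
          exact (QuotientGroup.eq_one_iff (x : G)).2 (Subgroup.mem_sup_right hx)
        refine dvd_trans (dvd_of_eq ?_) (Subgroup.index_dvd_of_le hle)
        exact (Nat.card_congr (QuotientGroup.quotientKerEquivOfSurjective θ hθ).toEquiv).symm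
      exact Nat.prime_two.not_dvd_one (h.hall ▸ Nat.dvd_gcd
        (even_iff_two_dvd.1 (Nat.not_odd_iff_even.1 he)) ((even_iff_two_dvd.1 hq).trans hd))
  haveI : Group.IsSolvable ↥(O ⊔ H) := by
    haveI : (O.subgroupOf (O ⊔ H)).Normal := inferInstance
    haveI : Group.IsSolvable (O.subgroupOf (O ⊔ H)) :=
      solvable_of_solvable_injective
        (f := (Subgroup.subgroupOfEquivOfLe (le_sup_left : O ≤ O ⊔ H)).toMonoidHom)
        (Subgroup.subgroupOfEquivOfLe (le_sup_left : O ≤ O ⊔ H)).injective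
    haveI : Group.IsSolvable (↥(O ⊔ H) ⧸ O.subgroupOf (O ⊔ H)) := by
      refine solvable_of_surjective
        (f := (QuotientGroup.mk' (O.subgroupOf (O ⊔ H))).comp
          (Subgroup.inclusion (le_sup_right : H ≤ O ⊔ H))) fun q => ?_
      obtain ⟨⟨g, hg⟩, rfl⟩ := QuotientGroup.mk_surjective q
      obtain ⟨o, ho, x, hx, rfl⟩ := Subgroup.mem_sup_of_normal_left.1 hg
      refine ⟨⟨x, hx⟩, QuotientGroup.eq.2 ?_⟩
      rw [Subgroup.mem_subgroupOf]
      simpa [mul_assoc] using hOn.conj_mem o ho x⁻¹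
    exact solvable_of_ker_le_range (O.subgroupOf (O ⊔ H)).subtype
      (QuotientGroup.mk' (O.subgroupOf (O ⊔ H))) (by simp)
  exact solvable_of_ker_le_range (O ⊔ H).subtype (QuotientGroup.mk' (O ⊔ H)) (by simp)

theorem main (hFT : CfsgLib.FT.OddOrderThm.{u}) :
    O ⊔ Subgroup.normalizer (H : Set G) = ⊤ ∧ (O ⊔ H).Normal ∧
    (Group.IsSolvable G ↔ Group.IsSolvable O ∧
      ∀ K : Subgroup G, K ≤ H →
        ¬ Nonempty (K ≃* Matrix.SpecialLinearGroup (Fin 2) (ZMod 5))) := by
  refine ⟨(h.sup_normalizer hFT).1, (h.sup_normalizer hFT).2, fun hG => ⟨inferInstance, ?_⟩,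
    fun hh => h.isSolvable_of_core hFT hh.1 hh.2⟩
  rintro K - ⟨e⟩
  haveI := hG
  haveI : Group.IsSolvable (Matrix.SpecialLinearGroup (Fin 2) (ZMod 5)) :=
    solvable_of_surjective (f := e.toMonoidHom) e.surjective
  have h1 := subsingleton_of_perfect_solvable commutator_SL_five
  have h2 := card_SL_five
  rw [Nat.card_eq_one_iff_unique.2 ⟨h1, inferInstance⟩] at h2
  exact absurd h2 (by norm_num)

end TIHall

end CfsgLib.FTCons
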