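import Cfsg.Agent.Lib.FTCons.TIHallAction

/-!
A TI Hall subgroup with abelian Sylow `2`-subgroups: the fixed points of a complement in the
normaliser form a Hall subgroup with a normal complement.
-/

set_option autoImplicit false
set_option linter.style.haveILetI false

universe u

namespace CfsgLib.FTCons

open scoped Pointwise commutatorElement
open Cfsg CfsgLib.Coprime CfsgLib.Perm.Zass

variable {G : Type u} [Group G] [Finite G] {H O : Subgroup G}

theorem isZGroup_of_fpf_of_comm {X : Type u} [Group X] [Finite X] {n : ℕ}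
    {ρ : X →* Module.End (AlgebraicClosure ℚ) (Fin (n + 1) → AlgebraicClosure ℚ)} (hρ : Fpf ρ)
    (h2 : ∀ P : Sylow 2 X, IsMulCommutative (P : Subgroup X)) : IsZGroup X := ⟨fun p hp P => by
  have := Fact.mk hp
  rcases pgroup_cases hρ P.2 with h | ⟨rfl, n, hn, ⟨e⟩⟩
  · exact h
  · exfalso
    have hc := (h2 P).is_comm.comm (e.symm (QuaternionGroup.a 1)) (e.symm (QuaternionGroup.xa 0))
    rw [← map_mul, ← map_mul, e.symm.injective.eq_iff, QuaternionGroup.a_mul_xa,
      QuaternionGroup.xa_mul_a, QuaternionGroup.xa.injEq, zero_sub, zero_add,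
      neg_eq_iff_add_eq_zero] at hc
    have h4 : 4 ≤ 2 * 2 ^ n := by
      have := Nat.pow_le_pow_right (show 0 < 2 by norm_num) hn
      omega
    have hc' : ((2 : ℕ) : ZMod (2 * 2 ^ n)) = 0 := by push_cast; rw [← hc]; ring
    rw [ZMod.natCast_eq_zero_iff] at hc'
    have := Nat.le_of_dvd (by norm_num) hc'
    omega⟩

theorem TIHall.hall_complement (h : TIHall H O) (hFT : CfsgLib.FT.OddOrderThm.{u})
    (h2 : ∀ P : Sylow 2 H, IsMulCommutative (P : Subgroup H))
    (Q : Subgroup G) (hQ : Q ≤ Subgroup.normalizer (H : Set G)) (hQH : Q ⊓ H = ⊥)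
    (hQH' : Q ⊔ H = Subgroup.normalizer (H : Set G)) :
    (Nat.card ↥(H ⊓ Subgroup.centralizer (Q : Set G))).Coprime
      (H ⊓ Subgroup.centralizer (Q : Set G)).index ∧
    ∃ N : Subgroup G, N.Normal ∧ N.IsComplement' (H ⊓ Subgroup.centralizer (Q : Set G)) := by
  obtain ⟨hOn, hOc, -⟩ := h.core_mem
  haveI := hOn
  obtain ⟨n, ρ, hρ⟩ := h.exists_fpf hFT
  haveI : IsZGroup H := isZGroup_of_fpf_of_comm hρ h2
  set C := H ⊓ Subgroup.centralizer (Q : Set G) with hCdef
  have hQH0 : (Nat.card Q).Coprime (Nat.card H) := by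
    have h1 : Nat.card H * (H.subgroupOf (Subgroup.normalizer (H : Set G))).index
        = Nat.card Q * Nat.card H := by
      show Nat.card H * H.relIndex (Subgroup.normalizer (H : Set G)) = _
      rw [← hQH', ← card_sup_of_inf_eq_bot hQ hQH, ← Subgroup.relIndex_bot_left,
        ← Subgroup.relIndex_bot_left, Subgroup.relIndex_mul_relIndex _ _ _ bot_le le_sup_right]
    rw [mul_comm (Nat.card Q)] at h1
    exact (Nat.eq_of_mul_eq_mul_left Nat.card_pos h1) ▸ h.hall.symm
  have hsv : Group.IsSolvable Q ∨ Group.IsSolvable H := Or.inr inferInstance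
  have hcopC := coprime_centralizer_of_isZGroup hQ hQH0
  obtain ⟨-, hKC⟩ := commutator_isCyclic_of_isZGroup hQ hQH0
  have hKsup := commutator_sup_centralizer hQ hQH0 hsv
  have hKH : ⁅H, Q⁆ ≤ H := commutator_le_of_le_normalizer hQ
  have hHK : H ≤ Subgroup.normalizer ((⁅H, Q⁆ : Subgroup G) : Set G) :=
    Subgroup.normalizer_commutator_ge_left H Q
  have hQK : Q ≤ Subgroup.normalizer ((⁅H, Q⁆ : Subgroup G) : Set G) :=
    Subgroup.normalizer_commutator_ge_right H Q
  have hCidx : (Nat.card C).Coprime C.index := by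
    rw [← Subgroup.relIndex_mul_index (inf_le_left : C ≤ H)]
    refine hcopC.mul_right (Nat.Coprime.coprime_dvd_left (Subgroup.card_dvd_of_le inf_le_left) ?_)
    exact Nat.coprime_of_dvd' fun q hq hd hd' => absurd hd' (h.isPiHall.2 q hq hd)
  have hT : Subgroup.normalizer (H : Set G) ≤
      Subgroup.normalizer ((Q ⊔ ⁅H, Q⁆ : Subgroup G) : Set G) := by
    rw [← hQH']
    refine sup_le (le_sup_left.trans Subgroup.le_normalizer) ?_
    rw [le_normalizer_iff_conj_smul]
    intro x hx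
    refine Subgroup.eq_of_le_of_card_ge ?_
      (le_of_eq (Nat.card_congr (Subgroup.equivSMul (MulAut.conj x) (Q ⊔ ⁅H, Q⁆)).toEquiv))
    rw [Subgroup.smul_sup]
    refine sup_le ?_ ((le_normalizer_iff_conj_smul.1 hHK x hx).le.trans le_sup_right)
    intro y hy
    rw [mem_conj_smul] at hy
    have h1 : ⁅x, x⁻¹ * y * x⁆ ∈ ⁅H, Q⁆ := Subgroup.commutator_mem_commutator hx hy
    have h3 := (Q ⊔ ⁅H, Q⁆).mul_mem (Subgroup.mem_sup_right h1) (Subgroup.mem_sup_left hy)
    have e : ⁅x, x⁻¹ * y * x⁆ * (x⁻¹ * y * x) = y := by rw [commutatorElement_def]; group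
    rwa [e] at h3
  refine ⟨hCidx, O ⊔ (Q ⊔ ⁅H, Q⁆), ?_, ?_⟩
  · refine Subgroup.normalizer_eq_top_iff.1 (top_le_iff.1 ?_)
    rw [← (h.sup_normalizer hFT).1]
    exact sup_le (le_sup_left.trans Subgroup.le_normalizer)
      (le_normalizer_sup_sup Subgroup.le_normalizer_of_normal hT)
  · have hcK : Nat.card ↥(⁅H, Q⁆ : Subgroup G) = C.relIndex H := by
      have h1 : Nat.card ↥(C ⊔ ⁅H, Q⁆) = Nat.card C * Nat.card ↥(⁅H, Q⁆ : Subgroup G) :=
        card_sup_of_inf_eq_bot ((inf_le_left : C ≤ H).trans hHK) (by rw [inf_comm]; exact hKC)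
      rw [sup_comm, hKsup] at h1
      have h3 : Nat.card C * C.relIndex H = Nat.card H := by
        rw [← Subgroup.relIndex_bot_left, ← Subgroup.relIndex_bot_left,
          Subgroup.relIndex_mul_relIndex _ _ _ bot_le inf_le_left]
      exact Nat.eq_of_mul_eq_mul_left Nat.card_pos (h1.symm.trans h3.symm)
    have hdvd : Nat.card ↥(O ⊔ (Q ⊔ ⁅H, Q⁆)) ∣
        Nat.card O * (Nat.card Q * Nat.card ↥(⁅H, Q⁆ : Subgroup G)) := by
      rw [sup_comm O, mul_comm (Nat.card O)]
      exact (card_sup_dvd Subgroup.le_normalizer_of_normal).trans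
        (mul_dvd_mul_right (card_sup_dvd hQK) _)
    have hcop : (Nat.card ↥(O ⊔ (Q ⊔ ⁅H, Q⁆))).Coprime (Nat.card C) := by
      refine Nat.Coprime.coprime_dvd_left hdvd (Nat.Coprime.mul_left ?_ (Nat.Coprime.mul_left ?_ ?_))
      · exact hOc.coprime_dvd_right (Subgroup.card_dvd_of_le inf_le_left)
      · exact hQH0.coprime_dvd_right (Subgroup.card_dvd_of_le inf_le_left)
      · rw [hcK]; exact hcopC.symm
    refine Subgroup.isComplement'_of_coprime ?_ hcop
    have hHle : H ≤ C ⊔ (O ⊔ (Q ⊔ ⁅H, Q⁆)) :=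
      hKsup.ge.trans (sup_le (le_sup_right.trans (le_sup_right.trans le_sup_right)) le_sup_left)
    have htop : C ⊔ (O ⊔ (Q ⊔ ⁅H, Q⁆)) = ⊤ := by
      rw [eq_top_iff, ← (h.sup_normalizer hFT).1, ← hQH']
      exact sup_le (le_sup_left.trans le_sup_right)
        (sup_le (le_sup_left.trans (le_sup_right.trans le_sup_right)) hHle)
    have hCM : C ≤ Subgroup.normalizer ((O ⊔ (Q ⊔ ⁅H, Q⁆) : Subgroup G) : Set G) :=
      le_normalizer_sup_sup Subgroup.le_normalizer_of_normal
        (((inf_le_left : C ≤ H).trans Subgroup.le_normalizer).trans hT)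
    have h1 := card_sup_of_inf_eq_bot hCM (Subgroup.inf_eq_bot_of_coprime hcop.symm)
    rw [htop, Subgroup.card_top] at h1
    rw [h1, mul_comm]

end CfsgLib.FTCons
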